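import Mathlib
import Cfsg.Agent.Lib.H01.Coprime3
import Cfsg.Agent.Lib.H06.CoprimeCoset
import Cfsg.Agent.Lib.H14.Basic
import Cfsg.Agent.Lib.H14.Nilp

/-!
Generation by centralizers: if `x, y` commute with `x ^ p = y ^ p = 1` and normalize a `p'`-subgroup
`D`, then `D` is generated by the centralizers in `D` of the elements `x ^ a * y ^ b`, `(a, b) ≠ 0` mod
`p`.  No solvability hypothesis is required: the action is by a `p`-group.
-/

set_option autoImplicit false

namespace Cfsg.Agent.H14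

open Finset

theorem prod_range_mul_eq_of_periodic {A : Type*} [CommMonoid A] {p k : ℕ} (hk : k.Coprime p)
    (hp : 0 < p) (h : ℕ → A) (hper : ∀ n, h n = h (n % p)) :
    ∏ j ∈ range p, h (j * k) = ∏ l ∈ range p, h l := by
  have hinj : Set.InjOn (fun j => j * k % p) (range p : Set ℕ) := by
    intro a ha b hb hab
    have ha' : a < p := by simpa using ha
    have hb' : b < p := by simpa using hb
    have h1 : a * k ≡ b * k [MOD p] := hab
    have h2 : a ≡ b [MOD p] := Nat.ModEq.cancel_right_of_coprime (by rwa [Nat.coprime_comm] at hk) h1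
    exact Nat.ModEq.eq_of_lt_of_lt h2 ha' hb'
  have hmaps : Set.MapsTo (fun j => j * k % p) (range p : Set ℕ) (range p : Set ℕ) := by
    intro a _
    simpa using Nat.mod_lt _ hp
  refine Finset.prod_nbij (fun j => j * k % p) (fun a ha => by simpa using Nat.mod_lt _ hp) hinj ?_
    (fun a _ => hper _)
  exact Finset.surjOn_of_injOn_of_card_le _ hmaps hinj le_rfl

/-- The norm identity for `C_p × C_p` on a commutative group. -/
theorem pow_eq_one_of_norms {A : Type*} [CommGroup A] {p : ℕ} (hp : p.Prime)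
    (α β : Monoid.End A) (hc : Commute α β) (hβ : β ^ p = 1) (z : A)
    (h1 : ∏ l ∈ range p, (β ^ l) z = 1)
    (h2 : ∀ j ∈ range p, ∏ k ∈ range p, ((α * β ^ j) ^ k) z = 1) : z ^ p = 1 := by
  have h3 : ∏ j ∈ range p, ∏ k ∈ range p, ((α * β ^ j) ^ k) z = 1 :=
    Finset.prod_eq_one h2
  rw [Finset.prod_comm] at h3
  obtain ⟨q, rfl⟩ : ∃ q, p = q + 1 := ⟨p - 1, by have := hp.pos; omega⟩
  rw [Finset.prod_range_succ'] at h3
  have h4 : ∏ j ∈ range (q + 1), ((α * β ^ j) ^ 0) z = z ^ (q + 1) := by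
    simp
  rw [h4] at h3
  have h5 : ∏ k ∈ range q, ∏ j ∈ range (q + 1), ((α * β ^ j) ^ (k + 1)) z = 1 := by
    refine Finset.prod_eq_one ?_
    intro k hk
    have hk' : k < q := by simpa using hk
    have hcop : (k + 1).Coprime (q + 1) := by
      have : ¬ (q + 1) ∣ (k + 1) := fun h => by
        have := Nat.le_of_dvd (by omega) h
        omega
      exact ((Nat.Prime.coprime_iff_not_dvd hp).mpr this).symm
    have h6 : ∀ j, ((α * β ^ j) ^ (k + 1)) z = (α ^ (k + 1)) ((β ^ (j * (k + 1))) z) := by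
      intro j
      have : (α * β ^ j) ^ (k + 1) = α ^ (k + 1) * β ^ (j * (k + 1)) := by
        rw [(hc.pow_right j).mul_pow, pow_mul]
      rw [this]
      rfl
    simp_rw [h6]
    rw [← map_prod]
    have h7 := prod_range_mul_eq_of_periodic hcop (by omega) (fun n => (β ^ n) z) (by
      intro n
      have : β ^ n = β ^ (n % (q + 1)) := by
        conv_lhs => rw [← Nat.div_add_mod n (q + 1), pow_add, pow_mul, hβ, one_pow, one_mul]
      simp only [this])
    rw [h7, h1, map_one]
  rw [h5, one_mul] at h3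
  exact h3

/-- The trace of an endomorphism of finite order is a fixed point. -/
theorem norm_fixed {A : Type*} [CommGroup A] {p : ℕ} (hp : 0 < p) (φ : Monoid.End A) (hφ : φ ^ p = 1)
    (z : A) : φ (∏ k ∈ range p, (φ ^ k) z) = ∏ k ∈ range p, (φ ^ k) z := by
  rw [map_prod]
  have h1 : ∀ k, φ ((φ ^ k) z) = (φ ^ (k + 1)) z := by
    intro k
    rw [pow_succ']
    rfl
  simp_rw [h1]
  obtain ⟨q, rfl⟩ : ∃ q, p = q + 1 := ⟨p - 1, by omega⟩
  rw [Finset.prod_range_succ (fun k => (φ ^ (k + 1)) z), hφ, Finset.prod_range_succ' (fun k => (φ ^ k) z)]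
  simp

/-- The abstract last step: an action on a finite group `D` with an invariant normal subgroup `W`,
abelian quotient, with no fixed points on the quotient. -/
theorem eq_top_of_abelian_quotient {D Γ : Type*} [Group D] [Finite D] [Group Γ] (ψ : Γ →* MulAut D)
    (W : Subgroup D) [hW : W.Normal] (hWinv : ∀ g, ∀ v ∈ W, ψ g v ∈ W)
    (hcomm : ∀ a b : D, a * b * a⁻¹ * b⁻¹ ∈ W) {p : ℕ} [hp : Fact p.Prime] {x y : Γ}
    (hxy : Commute x y) (hx : x ^ p = 1) (hy : y ^ p = 1) (hcop : ¬ p ∣ Nat.card D)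
    (hfix : ∀ a b : ℕ, ¬ (p ∣ a ∧ p ∣ b) → ∀ v : D, v⁻¹ * ψ (x ^ a * y ^ b) v ∈ W → v ∈ W) :
    W = ⊤ := by
  -- the quotient is a commutative group
  letI instA : CommGroup (D ⧸ W) :=
    { (inferInstance : Group (D ⧸ W)) with
      mul_comm := by
        intro a b
        induction a using QuotientGroup.induction_on with | _ a
        induction b using QuotientGroup.induction_on with | _ b
        change ((a * b : D) : D ⧸ W) = ((b * a : D) : D ⧸ W)
        rw [QuotientGroup.eq]
        have : (a * b)⁻¹ * (b * a) = b⁻¹ * a⁻¹ * (b⁻¹)⁻¹ * (a⁻¹)⁻¹ := by group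
        rw [this]
        exact hcomm _ _ }
  -- the induced action
  let Q : Γ →* Monoid.End (D ⧸ W) :=
    { toFun := fun g => QuotientGroup.map W W (ψ g).toMonoidHom (fun v hv => hWinv g v hv)
      map_one' := by
        ext v
        induction v using QuotientGroup.induction_on with | _ v
        simp
        rfl
      map_mul' := by
        intro a b
        ext v
        induction v using QuotientGroup.induction_on with | _ v
        simp
        rfl }
  have hQ : ∀ g (v : D), Q g (v : D ⧸ W) = ((ψ g v : D) : D ⧸ W) := fun g v => rfl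
  have hfixQ : ∀ a b : ℕ, ¬ (p ∣ a ∧ p ∣ b) → ∀ z : D ⧸ W, Q (x ^ a * y ^ b) z = z → z = 1 := by
    intro a b hab z hz
    induction z using QuotientGroup.induction_on with | _ v
    rw [hQ] at hz
    have h1 : v⁻¹ * ψ (x ^ a * y ^ b) v ∈ W := by
      have := QuotientGroup.eq.mp hz.symm
      exact this
    exact (QuotientGroup.eq_one_iff v).mpr (hfix a b hab v h1)
  have hnorm : ∀ a b : ℕ, ¬ (p ∣ a ∧ p ∣ b) → ∀ z : D ⧸ W,
      ∏ k ∈ range p, ((Q (x ^ a * y ^ b)) ^ k) z = 1 := by
    intro a b hab z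
    refine hfixQ a b hab _ ?_
    refine norm_fixed hp.out.pos _ ?_ z
    rw [← map_pow]
    have : (x ^ a * y ^ b) ^ p = 1 := by
      rw [((hxy.pow_pow a b)).mul_pow, ← pow_mul, ← pow_mul, mul_comm a, mul_comm b, pow_mul, pow_mul,
        hx, hy]
      simp
    rw [this, map_one]
  have hmain : ∀ z : D ⧸ W, z ^ p = 1 := by
    intro z
    refine pow_eq_one_of_norms hp.out (Q x) (Q y) (hxy.map Q) (by rw [← map_pow, hy, map_one]) z ?_ ?_
    · have := hnorm 0 1 (fun h => hp.out.one_lt.ne' (Nat.dvd_one.mp h.2)) z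
      simpa using this
    · intro j _
      have := hnorm 1 j (fun h => hp.out.one_lt.ne' (Nat.dvd_one.mp h.1)) z
      simpa using this
  rw [eq_top_iff]
  intro v _
  have h1 : v ^ p ∈ W := by
    have := hmain (v : D ⧸ W)
    rw [← QuotientGroup.mk_pow] at this
    exact (QuotientGroup.eq_one_iff _).mp this
  have hcopv : p.Coprime (orderOf v) := by
    rw [Nat.Prime.coprime_iff_not_dvd hp.out]
    exact fun h => hcop (h.trans (orderOf_dvd_natCard v))
  obtain ⟨m, hm⟩ := exists_pow_eq_self_of_coprime hcopv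
  rw [← hm]
  exact W.pow_mem h1 m

variable {G : Type*} [Group G]

/-- The join of the centralizers in `D` of the elements `x ^ a * y ^ b`, `(a, b) ≠ 0` mod `p`. -/
def cgen (p : ℕ) (x y : G) (D : Subgroup G) : Subgroup G :=
  Subgroup.closure {v | v ∈ D ∧ ∃ a b : ℕ, ¬ (p ∣ a ∧ p ∣ b) ∧ Commute v (x ^ a * y ^ b)}

theorem cgen_le {p : ℕ} {x y : G} {D : Subgroup G} : cgen p x y D ≤ D :=
  (Subgroup.closure_le _).mpr fun _ hv => hv.1

theorem cgen_mono {p : ℕ} {x y : G} {D K : Subgroup G} (h : K ≤ D) : cgen p x y K ≤ cgen p x y D :=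
  Subgroup.closure_mono fun _ hv => ⟨h hv.1, hv.2⟩

theorem mem_normalizer_iff_conj {g : G} {H : Subgroup G} :
    g ∈ Subgroup.normalizer (H : Set G) ↔ ∀ v, v ∈ H ↔ g * v * g⁻¹ ∈ H :=
  Subgroup.mem_normalizer_iff

theorem conj_mem_cgen {p : ℕ} {x y g : G} {D : Subgroup G} (hg : g ∈ Subgroup.normalizer (D : Set G))
    (hgx : Commute g x) (hgy : Commute g y) {v : G} (hv : v ∈ cgen p x y D) :
    g * v * g⁻¹ ∈ cgen p x y D := by
  induction hv using Subgroup.closure_induction with
  | mem v hv =>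
    obtain ⟨hvD, a, b, hab, hc⟩ := hv
    refine Subgroup.subset_closure ⟨(Subgroup.mem_normalizer_iff.mp hg v).mp hvD, a, b, hab, ?_⟩
    have h1 : Commute g (x ^ a * y ^ b) := (hgx.pow_right a).mul_right (hgy.pow_right b)
    have h2 : Commute (g * v * g⁻¹) (g * (x ^ a * y ^ b) * g⁻¹) := by
      show g * v * g⁻¹ * (g * (x ^ a * y ^ b) * g⁻¹) = g * (x ^ a * y ^ b) * g⁻¹ * (g * v * g⁻¹)
      have : v * (x ^ a * y ^ b) = x ^ a * y ^ b * v := hc
      calc g * v * g⁻¹ * (g * (x ^ a * y ^ b) * g⁻¹) = g * (v * (x ^ a * y ^ b)) * g⁻¹ := by group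
        _ = g * (x ^ a * y ^ b * v) * g⁻¹ := by rw [this]
        _ = _ := by group
    have h3 : g * (x ^ a * y ^ b) * g⁻¹ = x ^ a * y ^ b := by
      rw [h1.eq]; group
    rwa [h3] at h2
  | one => simp
  | mul a b _ _ ha hb =>
    have : g * (a * b) * g⁻¹ = (g * a * g⁻¹) * (g * b * g⁻¹) := by group
    rw [this]
    exact Subgroup.mul_mem _ ha hb
  | inv a _ ha =>
    have : g * a⁻¹ * g⁻¹ = (g * a * g⁻¹)⁻¹ := by group
    rw [this]
    exact Subgroup.inv_mem _ ha

theorem mem_normalizer_cgen {p : ℕ} {x y g : G} {D : Subgroup G}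
    (hg : g ∈ Subgroup.normalizer (D : Set G))
    (hgx : Commute g x) (hgy : Commute g y) : g ∈ Subgroup.normalizer (cgen p x y D : Set G) := by
  rw [Subgroup.mem_normalizer_iff]
  intro v
  refine ⟨fun h => conj_mem_cgen hg hgx hgy h, fun h => ?_⟩
  have := conj_mem_cgen (p := p) (Subgroup.inv_mem _ hg) hgx.inv_left hgy.inv_left h
  simpa [mul_assoc] using this

theorem mem_normalizer_inf {g : G} {A B : Subgroup G} (hA : g ∈ Subgroup.normalizer (A : Set G))
    (hB : g ∈ Subgroup.normalizer (B : Set G)) : g ∈ Subgroup.normalizer ((A ⊓ B : Subgroup G) : Set G) := by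
  rw [Subgroup.mem_normalizer_iff] at hA hB ⊢
  intro v
  rw [Subgroup.mem_inf, Subgroup.mem_inf, hA v, hB v]

variable [Finite G] {p : ℕ} [hp : Fact p.Prime]

/-- Generation by centralizers for a `p`-group of rank at most two. -/
theorem le_cgen {x y : G} (hxy : Commute x y) (hx : x ^ p = 1) (hy : y ^ p = 1) :
    ∀ (n : ℕ) (D : Subgroup G), Nat.card D = n → x ∈ Subgroup.normalizer (D : Set G) →
      y ∈ Subgroup.normalizer (D : Set G) → ¬ p ∣ Nat.card D → D ≤ cgen p x y D := by
  intro n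
  induction n using Nat.strong_induction_on with
  | _ n ih =>
  intro D hn hDx hDy hD
  have IH : ∀ K : Subgroup G, K ≤ D → K ≠ D → x ∈ Subgroup.normalizer (K : Set G) →
      y ∈ Subgroup.normalizer (K : Set G) → K ≤ cgen p x y D := by
    intro K hKD hne hKx hKy
    have hlt : Nat.card K < n := by
      rw [← hn]
      exact lt_of_le_of_ne (Subgroup.card_le_of_le hKD)
        (fun e => hne (Subgroup.eq_of_le_of_card_ge hKD e.ge))
    exact (ih _ hlt K rfl hKx hKy (fun h => hD (h.trans (Subgroup.card_dvd_of_le hKD)))).trans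
      (cgen_mono hKD)
  by_contra hcon
  set W := cgen p x y D with hWdef
  have hWD : W ≤ D := cgen_le
  have hWne : W ≠ D := fun e => hcon (by rw [e])
  have hWx : x ∈ Subgroup.normalizer (W : Set G) :=
    mem_normalizer_cgen hDx (Commute.refl x) hxy
  have hWy : y ∈ Subgroup.normalizer (W : Set G) :=
    mem_normalizer_cgen hDy hxy.symm (Commute.refl y)
  -- Sylow step
  let W' : Subgroup D := W.subgroupOf D
  have hW'ne : W' ≠ ⊤ := by
    intro h
    exact hcon ((Subgroup.subgroupOf_eq_top).mp h)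
  have hidx : W'.index ≠ 1 := fun h => hW'ne (Subgroup.index_eq_one.mp h)
  obtain ⟨r, hrp, hr⟩ := Nat.exists_prime_and_dvd hidx
  haveI : Fact r.Prime := ⟨hrp⟩
  let E : Subgroup G := Subgroup.closure {x, y}
  have hEcomm : ∀ a ∈ E, ∀ b ∈ E, Commute a b := by
    intro a ha b hb
    have hc := Subgroup.isMulCommutative_closure (k := {x, y}) (by
      rintro a (rfl | rfl) b (rfl | rfl)
      · rfl
      · exact hxy
      · exact hxy.symm
      · rfl)
    have := hc.is_comm.comm (⟨a, ha⟩ : E) ⟨b, hb⟩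
    exact congrArg Subtype.val this
  have hEpow : ∀ a ∈ E, a ^ p = 1 := by
    intro a ha
    induction ha using Subgroup.closure_induction with
    | mem a ha =>
      rcases ha with rfl | rfl
      · exact hx
      · exact hy
    | one => simp
    | mul a b ha hb iha ihb => rw [(hEcomm a ha b hb).mul_pow, iha, ihb, one_mul]
    | inv a _ iha => rw [inv_pow, iha, inv_one]
  have hEp : IsPGroup p E := fun a => ⟨1, by
    apply Subtype.ext
    simpa using hEpow a.1 a.2⟩
  have hEN : E ≤ Subgroup.normalizer (D : Set G) := by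
    rw [Subgroup.closure_le]
    rintro a (rfl | rfl)
    · exact hDx
    · exact hDy
  have hcopED : (Nat.card E).Coprime (Nat.card D) := by
    obtain ⟨k, hk⟩ := hEp.exists_card_eq
    rw [hk]
    exact Nat.Coprime.pow_left _ ((Nat.Prime.coprime_iff_not_dvd hp.out).mpr hD)
  haveI : Group.IsNilpotent E := hEp.isNilpotent
  obtain ⟨P, hP⟩ := Cfsg.Agent.H01.exists_invariant_sylow hEN hcopED
    (Or.inl inferInstance) r
  have hxE : x ∈ E := Subgroup.subset_closure (by simp)
  have hyE : y ∈ E := Subgroup.subset_closure (by simp)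
  have hRW : ¬ (P : Subgroup D).map D.subtype ≤ W := by
    intro h
    have h1 : (P : Subgroup D) ≤ W' := by
      intro v hv
      exact Subgroup.mem_subgroupOf.mpr (h (Subgroup.mem_map_of_mem _ hv))
    exact P.not_dvd_index (hr.trans (Subgroup.index_dvd_of_le h1))
  have hRD : (P : Subgroup D).map D.subtype = D := by
    by_contra hne
    refine hRW (IH _ ?_ hne (hP hxE) (hP hyE))
    rw [Subgroup.map_le_iff_le_comap]
    intro v _
    exact v.2
  have hDr : IsPGroup r D := by
    have h1 : IsPGroup r ((P : Subgroup D).map D.subtype) := P.isPGroup'.map _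
    rwa [hRD] at h1
  -- `D` normalizes `W`
  have hDN : D ≤ Subgroup.normalizer (W : Set G) := by
    by_contra hnot
    obtain ⟨z, hzD, hzW, hzN⟩ := exists_mem_normalizer_of_pgroup hDr hWD hWne
    have hle : D ⊓ Subgroup.normalizer (W : Set G) ≤ W :=
      IH _ inf_le_left (fun e => hnot (inf_eq_left.mp e))
        (mem_normalizer_inf hDx (Subgroup.le_normalizer hWx))
        (mem_normalizer_inf hDy (Subgroup.le_normalizer hWy))
    exact hzW (hle ⟨hzD, hzN⟩)
  have hWconj : ∀ a ∈ D, ∀ v ∈ W, a * v * a⁻¹ ∈ W :=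
    fun a ha v hv => (Subgroup.mem_normalizer_iff.mp (hDN ha) v).mp hv
  -- the preimage of the centre of `D / W`
  let Z : Subgroup G :=
    { carrier := {z | z ∈ D ∧ ∀ n ∈ D, z * n * z⁻¹ * n⁻¹ ∈ W}
      one_mem' := ⟨D.one_mem, fun n _ => by simp⟩
      mul_mem' := by
        rintro a b ⟨ha, ha'⟩ ⟨hb, hb'⟩
        refine ⟨D.mul_mem ha hb, fun n hn => ?_⟩
        have : a * b * n * (a * b)⁻¹ * n⁻¹ =
            (a * (b * n * b⁻¹ * n⁻¹) * a⁻¹) * (a * n * a⁻¹ * n⁻¹) := by group
        rw [this]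
        exact W.mul_mem (hWconj a ha _ (hb' n hn)) (ha' n hn)
      inv_mem' := by
        rintro a ⟨ha, ha'⟩
        refine ⟨D.inv_mem ha, fun n hn => ?_⟩
        have : a⁻¹ * n * a⁻¹⁻¹ * n⁻¹ = a⁻¹ * (a * n * a⁻¹ * n⁻¹)⁻¹ * a⁻¹⁻¹ := by group
        rw [this]
        exact hWconj _ (D.inv_mem ha) _ (W.inv_mem (ha' n hn)) }
  have hZmem : ∀ z, z ∈ Z ↔ z ∈ D ∧ ∀ n ∈ D, z * n * z⁻¹ * n⁻¹ ∈ W := fun z => Iff.rfl
  have hZD : Z ≤ D := fun z hz => hz.1
  have hZconj : ∀ g, g ∈ Subgroup.normalizer (D : Set G) → g ∈ Subgroup.normalizer (W : Set G) →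
      ∀ z ∈ Z, g * z * g⁻¹ ∈ Z := by
    rintro g hgD hgW z ⟨hzD, hz⟩
    refine ⟨(Subgroup.mem_normalizer_iff.mp hgD z).mp hzD, fun n hn => ?_⟩
    have hn' : g⁻¹ * n * g ∈ D := by
      have := (Subgroup.mem_normalizer_iff.mp (Subgroup.inv_mem _ hgD) n).mp hn
      simpa using this
    have : g * z * g⁻¹ * n * (g * z * g⁻¹)⁻¹ * n⁻¹ =
        g * (z * (g⁻¹ * n * g) * z⁻¹ * (g⁻¹ * n * g)⁻¹) * g⁻¹ := by group
    rw [this]
    exact (Subgroup.mem_normalizer_iff.mp hgW _).mp (hz _ hn')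
  have hZnorm : ∀ g, g ∈ Subgroup.normalizer (D : Set G) → g ∈ Subgroup.normalizer (W : Set G) →
      g ∈ Subgroup.normalizer (Z : Set G) := by
    intro g hgD hgW
    rw [Subgroup.mem_normalizer_iff]
    refine fun z => ⟨hZconj g hgD hgW z, fun h => ?_⟩
    have := hZconj g⁻¹ (Subgroup.inv_mem _ hgD) (Subgroup.inv_mem _ hgW) _ h
    simpa [mul_assoc] using this
  -- `Z` is not inside `W`
  haveI hDnil : Group.IsNilpotent D := hDr.isNilpotent
  have hexz : ∃ z, z ∈ Z ∧ z ∉ W := by
    obtain ⟨z, -, hzW', hz⟩ := exists_commutator_mem (G := D) (V := ⊤) (L := W')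
      Subgroup.normal_top (fun h => hW'ne (top_le_iff.mp h))
    refine ⟨z, ⟨z.2, fun n hn => ?_⟩, fun h => hzW' (Subgroup.mem_subgroupOf.mpr h)⟩
    have := (hz ⟨n, hn⟩).2
    exact this
  have hZeq : Z = D := by
    by_contra hne
    obtain ⟨z, hzZ, hzW⟩ := hexz
    exact hzW (IH Z hZD hne (hZnorm x hDx hWx) (hZnorm y hDy hWy) hzZ)
  -- the quotient `D / W` is abelian; finish by the abstract lemma
  haveI hW'normal : W'.Normal := by
    refine ⟨fun v hv g => ?_⟩
    exact Subgroup.mem_subgroupOf.mpr (hWconj g g.2 v (Subgroup.mem_subgroupOf.mp hv))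
  let Γ : Subgroup G := Subgroup.normalizer (D : Set G) ⊓ Subgroup.normalizer (W : Set G)
  let ψ : Γ →* MulAut D := D.normalizerMonoidHom.comp (Subgroup.inclusion inf_le_left)
  have hψ : ∀ (g : Γ) (z : D), ((ψ g z : D) : G) = (g : G) * z * (g : G)⁻¹ := fun g z => rfl
  let x' : Γ := ⟨x, hDx, hWx⟩
  let y' : Γ := ⟨y, hDy, hWy⟩
  have hmain : W' = ⊤ := by
    refine eq_top_of_abelian_quotient ψ W' ?_ ?_ (p := p) (x := x') (y := y')
      (Subtype.ext hxy) (Subtype.ext hx) (Subtype.ext hy) hD ?_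
    · intro g v hv
      exact Subgroup.mem_subgroupOf.mpr
        ((Subgroup.mem_normalizer_iff.mp g.2.2 _).mp (Subgroup.mem_subgroupOf.mp hv))
    · intro a b
      have ha : (a : G) ∈ Z := by rw [hZeq]; exact a.2
      exact Subgroup.mem_subgroupOf.mpr (ha.2 b b.2)
    · intro a b hab v hv
      have hv' : (v : G)⁻¹ * ((x ^ a * y ^ b) * v * (x ^ a * y ^ b)⁻¹) ∈ W := by
        have := Subgroup.mem_subgroupOf.mp hv
        exact this
      have hE : (x ^ a * y ^ b) ^ p = 1 := by
        rw [(hxy.pow_pow a b).mul_pow, ← pow_mul, ← pow_mul, mul_comm a, mul_comm b, pow_mul, pow_mul,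
          hx, hy]
        simp
      have hgN : x ^ a * y ^ b ∈ Subgroup.normalizer (W : Set G) :=
        Subgroup.mul_mem _ (Subgroup.pow_mem _ hWx a) (Subgroup.pow_mem _ hWy b)
      have hcop : (orderOf (x ^ a * y ^ b)).Coprime (Nat.card W) := by
        have h1 : orderOf (x ^ a * y ^ b) ∣ p := orderOf_dvd_of_pow_eq_one hE
        refine Nat.Coprime.coprime_dvd_left h1 ?_
        rw [Nat.Prime.coprime_iff_not_dvd hp.out]
        exact fun h => hD (h.trans (Subgroup.card_dvd_of_le hWD))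
      obtain ⟨n, hn, hc⟩ := Cfsg.Agent.H06.exists_fixed_of_coset
        (fun u hu => (Subgroup.mem_normalizer_iff.mp hgN u).mp hu) hcop hv'
      have hmem : (v : G) * n ∈ W :=
        Subgroup.subset_closure ⟨D.mul_mem v.2 (hWD hn), a, b, hab, hc⟩
      have : (v : G) ∈ W := by
        have := W.mul_mem hmem (W.inv_mem hn)
        simpa using this
      exact Subgroup.mem_subgroupOf.mpr this
  exact hW'ne hmain

end Cfsg.Agent.H14
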