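import Mathlib

/-! Calculus in groups of class at most two, relative to a central subgroup containing the
commutators. -/

set_option autoImplicit false

namespace Cfsg.Agent.H14

open scoped commutatorElement

variable {G : Type*} [Group G]

/-- `H` has class at most two with commutators in the central subgroup `C`. -/
structure C2 (H C : Subgroup G) : Prop where
  hz : ∀ c ∈ C, ∀ g ∈ H, c * g = g * c
  hcc : ∀ g ∈ H, ∀ h ∈ H, ⁅g, h⁆ ∈ C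

variable {H C : Subgroup G}

lemma comm_mem_H {g h : G} (hg : g ∈ H) (hh : h ∈ H) : ⁅g, h⁆ ∈ H := by
  rw [commutatorElement_def]
  exact H.mul_mem (H.mul_mem (H.mul_mem hg hh) (H.inv_mem hg)) (H.inv_mem hh)

lemma C2.central (hc : C2 H C) {g h k : G} (hg : g ∈ H) (hh : h ∈ H) (hk : k ∈ H) :
    Commute ⁅g, h⁆ k := hc.hz _ (hc.hcc g hg h hh) k hk

lemma C2.mul_left (hc : C2 H C) {g₁ g₂ h : G} (h1 : g₁ ∈ H) (h2 : g₂ ∈ H) (hh : h ∈ H) :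
    ⁅g₁ * g₂, h⁆ = ⁅g₁, h⁆ * ⁅g₂, h⁆ := by
  have e1 : g₁ * ⁅g₂, h⁆ * g₁⁻¹ = ⁅g₂, h⁆ := by
    rw [← (hc.central h2 hh h1).eq]
    group
  have e2 : ⁅g₁ * g₂, h⁆ = (g₁ * ⁅g₂, h⁆ * g₁⁻¹) * ⁅g₁, h⁆ := by
    simp only [commutatorElement_def]
    group
  rw [e2, e1]
  exact (hc.central h2 hh (comm_mem_H h1 hh)).eq

lemma C2.mul_right (hc : C2 H C) {g h₁ h₂ : G} (hg : g ∈ H) (h1 : h₁ ∈ H) (h2 : h₂ ∈ H) :
    ⁅g, h₁ * h₂⁆ = ⁅g, h₁⁆ * ⁅g, h₂⁆ := by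
  have e1 : h₁ * ⁅g, h₂⁆ * h₁⁻¹ = ⁅g, h₂⁆ := by
    rw [← (hc.central hg h2 h1).eq]
    group
  have e2 : ⁅g, h₁ * h₂⁆ = ⁅g, h₁⁆ * (h₁ * ⁅g, h₂⁆ * h₁⁻¹) := by
    simp only [commutatorElement_def]
    group
  rw [e2, e1]

lemma C2.inv_left (hc : C2 H C) {g h : G} (hg : g ∈ H) (hh : h ∈ H) :
    ⁅g⁻¹, h⁆ = ⁅g, h⁆⁻¹ := by
  have e1 := hc.mul_left (H.inv_mem hg) hg hh
  rw [inv_mul_cancel, commutatorElement_one_left] at e1
  exact eq_inv_of_mul_eq_one_left e1.symm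

lemma C2.inv_right (hc : C2 H C) {g h : G} (hg : g ∈ H) (hh : h ∈ H) :
    ⁅g, h⁻¹⁆ = ⁅g, h⁆⁻¹ := by
  have e1 := hc.mul_right hg (H.inv_mem hh) hh
  rw [inv_mul_cancel, commutatorElement_one_right] at e1
  exact eq_inv_of_mul_eq_one_left e1.symm

lemma C2.pow_right (hc : C2 H C) {g h : G} (hg : g ∈ H) (hh : h ∈ H) (n : ℕ) :
    ⁅g, h ^ n⁆ = ⁅g, h⁆ ^ n := by
  induction n with
  | zero => simp
  | succ n ih =>
    rw [pow_succ, hc.mul_right hg (H.pow_mem hh n) hh, ih, pow_succ]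

lemma C2.pow_left (hc : C2 H C) {g h : G} (hg : g ∈ H) (hh : h ∈ H) (n : ℕ) :
    ⁅g ^ n, h⁆ = ⁅g, h⁆ ^ n := by
  induction n with
  | zero => simp
  | succ n ih =>
    rw [pow_succ, hc.mul_left (H.pow_mem hg n) hg hh, ih, pow_succ]

lemma C2.mul_pow' (hc : C2 H C) {g h : G} (hg : g ∈ H) (hh : h ∈ H) (n : ℕ) :
    (g * h) ^ n = g ^ n * h ^ n * ⁅h, g⁆ ^ (n.choose 2) := by
  induction n with
  | zero => simp
  | succ n ih =>
    have hκn : ∀ m : ℕ, ∀ k ∈ H, Commute (⁅h, g⁆ ^ m) k :=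
      fun m k hk => (hc.central hh hg hk).pow_left m
    have e1 : h ^ n * g = ⁅h, g⁆ ^ n * g * h ^ n := by
      rw [← hc.pow_left hh hg n]
      simp only [commutatorElement_def]
      group
    have e2 : (n + 1).choose 2 = n + n.choose 2 := by
      rw [Nat.choose_succ_succ' n 1, Nat.choose_one_right]
    rw [pow_succ (g * h) n, ih, e2, pow_add ⁅h, g⁆ n, pow_succ g n, pow_succ h n]
    calc g ^ n * h ^ n * ⁅h, g⁆ ^ n.choose 2 * (g * h)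
        = g ^ n * h ^ n * (⁅h, g⁆ ^ n.choose 2 * (g * h)) := by rw [mul_assoc]
      _ = g ^ n * h ^ n * ((g * h) * ⁅h, g⁆ ^ n.choose 2) := by
          rw [(hκn _ (g * h) (H.mul_mem hg hh)).eq]
      _ = g ^ n * (h ^ n * g) * h * ⁅h, g⁆ ^ n.choose 2 := by simp only [mul_assoc]
      _ = g ^ n * (⁅h, g⁆ ^ n * g * h ^ n) * h * ⁅h, g⁆ ^ n.choose 2 := by rw [e1]
      _ = (g ^ n * ⁅h, g⁆ ^ n) * (g * h ^ n * h) * ⁅h, g⁆ ^ n.choose 2 := by simp only [mul_assoc]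
      _ = (⁅h, g⁆ ^ n * g ^ n) * (g * h ^ n * h) * ⁅h, g⁆ ^ n.choose 2 := by
          rw [(hκn n (g ^ n) (H.pow_mem hg n)).eq]
      _ = ⁅h, g⁆ ^ n * (g ^ n * g * (h ^ n * h)) * ⁅h, g⁆ ^ n.choose 2 := by simp only [mul_assoc]
      _ = (g ^ n * g * (h ^ n * h)) * ⁅h, g⁆ ^ n * ⁅h, g⁆ ^ n.choose 2 := by
          rw [(hκn n (g ^ n * g * (h ^ n * h))
            (H.mul_mem (H.mul_mem (H.pow_mem hg n) hg) (H.mul_mem (H.pow_mem hh n) hh))).eq]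
      _ = g ^ n * g * (h ^ n * h) * (⁅h, g⁆ ^ n * ⁅h, g⁆ ^ n.choose 2) := by simp only [mul_assoc]

/-- Commutators of `A ⊔ A'` land in a central `C` once those of generators do. -/
lemma comm_sup {A A' : Subgroup G} {C : Subgroup G}
    (hz : ∀ c ∈ C, ∀ g ∈ A ⊔ A', c * g = g * c)
    (h0 : ∀ g ∈ A, ∀ h ∈ A', ⁅g, h⁆ ∈ C) (hA : ∀ g ∈ A, ∀ h ∈ A, ⁅g, h⁆ ∈ C)
    (hA' : ∀ g ∈ A', ∀ h ∈ A', ⁅g, h⁆ ∈ C) :
    ∀ g ∈ A ⊔ A', ∀ h ∈ A ⊔ A', ⁅g, h⁆ ∈ C := by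
  have hsub : ∀ h : G, (∀ t ∈ A, ⁅t, h⁆ ∈ C) → (∀ t ∈ A', ⁅t, h⁆ ∈ C) → ∀ g ∈ A ⊔ A', ⁅g, h⁆ ∈ C := by
    intro h h1 h2 g hg
    let S : Subgroup G :=
      { carrier := {g | g ∈ A ⊔ A' ∧ ⁅g, h⁆ ∈ C}
        mul_mem' := by
          rintro a b ⟨ha, ha'⟩ ⟨hb, hb'⟩
          refine ⟨(A ⊔ A').mul_mem ha hb, ?_⟩
          have e1 : a * ⁅b, h⁆ * a⁻¹ = ⁅b, h⁆ := by
            rw [← hz _ hb' a ha]
            group
          have e2 : ⁅a * b, h⁆ = (a * ⁅b, h⁆ * a⁻¹) * ⁅a, h⁆ := by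
            simp only [commutatorElement_def]
            group
          rw [e2, e1]
          exact C.mul_mem hb' ha'
        one_mem' := ⟨(A ⊔ A').one_mem, by simp [C.one_mem]⟩
        inv_mem' := by
          rintro a ⟨ha, ha'⟩
          refine ⟨(A ⊔ A').inv_mem ha, ?_⟩
          have e1 : a⁻¹ * ⁅a, h⁆ * a = ⁅a, h⁆ := by
            rw [← hz _ ha' _ ((A ⊔ A').inv_mem ha)]
            group
          have e2 : ⁅a⁻¹, h⁆ = (a⁻¹ * ⁅a, h⁆ * a)⁻¹ := by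
            simp only [commutatorElement_def]
            group
          rw [e2, e1]
          exact C.inv_mem ha' }
    have hle : A ⊔ A' ≤ S := by
      apply sup_le
      · intro t ht
        exact ⟨Subgroup.mem_sup_left ht, h1 t ht⟩
      · intro t ht
        exact ⟨Subgroup.mem_sup_right ht, h2 t ht⟩
    exact (hle hg).2
  have hsymm : ∀ a b : G, ⁅a, b⁆ ∈ C → ⁅b, a⁆ ∈ C := by
    intro a b h
    rw [← commutatorElement_inv]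
    exact C.inv_mem h
  have step1 : ∀ a ∈ A, ∀ g ∈ A ⊔ A', ⁅g, a⁆ ∈ C := fun a ha =>
    hsub a (fun t ht => hA t ht a ha) (fun t ht => hsymm _ _ (h0 a ha t ht))
  have step2 : ∀ a ∈ A', ∀ g ∈ A ⊔ A', ⁅g, a⁆ ∈ C := fun a ha =>
    hsub a (fun t ht => h0 t ht a ha) (fun t ht => hA' t ht a ha)
  intro g hg h hh
  exact hsymm _ _ (hsub g (fun t ht => hsymm _ _ (step1 t ht g hg))
    (fun t ht => hsymm _ _ (step2 t ht g hg)) h hh)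

end Cfsg.Agent.H14
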