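import Mathlib
import Cfsg.Agent.Lib.H02.PLoc8
import Cfsg.Agent.Lib.H14.CoprimeGen
import Cfsg.Agent.Lib.H06.FittingHall
import Cfsg.Agent.Lib.H25.GpTh
import Cfsg.Agent.Lib.H19.Lifts
import Cfsg.Agent.Lib.H03.PConstr

/-! Best offenders in a faithful group with a self-centralizing `p'`-core. -/

set_option autoImplicit false

namespace Cfsg.Agent.H14

open Cfsg
open Cfsg.Agent.H02 (offVal)
open scoped commutatorElement

section Hyper

variable {G : Type*} [Group G] [Finite G] {p : ℕ} [Fact p.Prime]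

/-- Index `p` in a group from a generating pair. -/
theorem card_sup_zpowers_of_notMem {B : Subgroup G} {a : G} (haB : a ∉ B) (hap : a ^ p = 1)
    (hab : ∀ b ∈ B, a * b = b * a) :
    Nat.card (B ⊔ Subgroup.zpowers a : Subgroup G) = p * Nat.card B := by
  classical
  have hp : p.Prime := Fact.out
  have ha1 : a ≠ 1 := fun h => haB (h ▸ B.one_mem)
  have hord : orderOf a = p := orderOf_eq_prime hap ha1
  have hcard : Nat.card (Subgroup.zpowers a) = p := by rw [Nat.card_zpowers, hord]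
  have hN : Subgroup.zpowers a ≤ Subgroup.normalizer (B : Set G) := by
    rw [Subgroup.zpowers_le]
    rw [Subgroup.mem_normalizer_iff]
    intro x
    constructor
    · intro hx
      have : a * x * a⁻¹ = x := by rw [hab x hx]; group
      rwa [this]
    · intro hx
      by_cases hxB : x ∈ B
      · exact hxB
      · exfalso
        have h1 := B.mul_mem hx (B.inv_mem hx)
        have h2 := hab (a * x * a⁻¹) hx
        have h3 : x = a⁻¹ * (a * x * a⁻¹) * a := by group
        apply hxB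
        rw [h3]
        have h4 : a⁻¹ * (a * x * a⁻¹) = (a * x * a⁻¹) * a⁻¹ := by
          calc a⁻¹ * (a * x * a⁻¹) = a⁻¹ * ((a * x * a⁻¹) * a) * a⁻¹ := by group
            _ = a⁻¹ * (a * (a * x * a⁻¹)) * a⁻¹ := by rw [← h2]
            _ = (a * x * a⁻¹) * a⁻¹ := by group
        rw [h4]
        have e : (a * x * a⁻¹) * a⁻¹ * a = a * x * a⁻¹ := by group
        rw [e]
        exact hx
  have h1 := Cfsg.Agent.H25.card_sup_mul_inf hN
  have h2 : B ⊓ Subgroup.zpowers a = ⊥ := by
    rw [eq_bot_iff]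
    rintro y ⟨hy1, hy2⟩
    have hdis : Disjoint (Subgroup.zpowers y) (⊥ : Subgroup G) := disjoint_bot_right
    by_contra hy
    have hy' : y ≠ 1 := fun h => hy (by rw [h]; exact Subgroup.one_mem _)
    have h3 : Subgroup.zpowers y = Subgroup.zpowers a := by
      haveI : Fact p.Prime := ⟨hp⟩
      have hle : Subgroup.zpowers y ≤ Subgroup.zpowers a := Subgroup.zpowers_le.mpr hy2
      have hc : Nat.card (Subgroup.zpowers y) ∣ p := by
        rw [← hcard]
        exact Subgroup.card_dvd_of_le hle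
      rcases (Nat.dvd_prime hp).mp hc with h4 | h4
      · exfalso
        rw [Nat.card_zpowers] at h4
        exact hy' (orderOf_eq_one_iff.mp h4)
      · exact Subgroup.eq_of_le_of_card_ge hle (by rw [h4, hcard])
    apply haB
    have : a ∈ Subgroup.zpowers y := by rw [h3]; exact Subgroup.mem_zpowers a
    exact (Subgroup.zpowers_le.mpr hy1) this
  rw [h2, Subgroup.card_bot, mul_one, hcard] at h1
  rw [h1, mul_comm]

/-- Coprime generation: a hyperplane centralizing a moved element. -/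
theorem exists_hyperplane {A K : Subgroup G} (hAc : ∀ a ∈ A, ∀ b ∈ A, a * b = b * a)
    (hAp : ∀ a ∈ A, a ^ p = 1) (hAK : A ≤ Subgroup.normalizer (K : Set G))
    (hK : (Nat.card K).Coprime p) {a : G} (ha : a ∈ A) (h : ∃ x ∈ K, a * x ≠ x * a) :
    ∃ B : Subgroup G, B ≤ A ∧ Nat.card A = p * Nat.card B ∧ a ∉ B ∧
      ∃ x ∈ K, x ∈ Subgroup.centralizer (B : Set G) ∧ a * x ≠ x * a := by
  classical
  have hp : p.Prime := Fact.out
  let 𝔖 : Set (Subgroup G) :=
    {B | B ≤ A ∧ ∃ x ∈ K, x ∈ Subgroup.centralizer (B : Set G) ∧ a * x ≠ x * a}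
  have hne : 𝔖.Nonempty := by
    obtain ⟨x, hx, hxa⟩ := h
    refine ⟨⊥, bot_le, x, hx, ?_, hxa⟩
    rw [Subgroup.mem_centralizer_iff]
    intro h hh
    rw [Subgroup.mem_bot.mp hh, one_mul, mul_one]
  obtain ⟨B, ⟨hBA, x, hxK, hxB, hxa⟩, hmax⟩ :=
    Set.exists_max_image 𝔖 (fun B => Nat.card B) (Set.toFinite _) hne
  have haB : a ∉ B := fun haB => hxa (Subgroup.mem_centralizer_iff.mp hxB a haB)
  by_cases hA : A ≤ B ⊔ Subgroup.zpowers a
  · refine ⟨B, hBA, ?_, haB, x, hxK, hxB, hxa⟩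
    have h1 : A = B ⊔ Subgroup.zpowers a :=
      le_antisymm hA (sup_le hBA (Subgroup.zpowers_le.mpr ha))
    have h2 := card_sup_zpowers_of_notMem (p := p) haB (hAp a ha) (fun b hb => hAc a ha b (hBA hb))
    rw [← h1] at h2
    exact h2
  · exfalso
    obtain ⟨b, hbA, hb⟩ := Set.not_subset.mp hA
    let K₁ : Subgroup G := K ⊓ Subgroup.centralizer (B : Set G)
    have hnorm : ∀ g ∈ A, g ∈ Subgroup.normalizer (K₁ : Set G) := by
      intro g hg
      apply Cfsg.Agent.H19.mem_normalizer_of_conj_le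
      rintro y ⟨hy1, hy2⟩
      refine ⟨(Subgroup.mem_normalizer_iff.mp (hAK hg) y).mp hy1, ?_⟩
      refine Subgroup.mem_centralizer_iff.mpr fun c hc => ?_
      have h1 := hAc g hg c (hBA hc)
      have h2 := Subgroup.mem_centralizer_iff.mp hy2 c hc
      calc c * (g * y * g⁻¹) = (c * g) * y * g⁻¹ := by group
        _ = g * (c * y) * g⁻¹ := by rw [← h1]; group
        _ = g * (y * c) * g⁻¹ := by rw [h2]
        _ = g * y * (g⁻¹ * (g * c * g⁻¹)) := by group
        _ = g * y * (g⁻¹ * c) := by rw [h1]; group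
        _ = g * y * g⁻¹ * c := by group
    have hcop₁ : ¬ p ∣ Nat.card K₁ := by
      intro h1
      have h2 : Nat.card K₁ ∣ Nat.card K := Subgroup.card_dvd_of_le inf_le_left
      have h3 := Nat.Coprime.eq_one_of_dvd (hK.symm) (h1.trans h2)
      exact hp.one_lt.ne' h3
    have hgen := le_cgen (p := p) (x := a) (y := b) (hAc a ha b hbA) (hAp a ha) (hAp b hbA) _ K₁ rfl
      (hnorm a ha) (hnorm b hbA) hcop₁
    -- some generator does not commute with `a`
    have hex : ∃ v ∈ K₁, ∃ i j : ℕ, ¬ (p ∣ i ∧ p ∣ j) ∧ Commute v (a ^ i * b ^ j) ∧ a * v ≠ v * a := by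
      by_contra hcon
      push Not at hcon
      have hle : cgen p a b K₁ ≤ Subgroup.centralizer ({a} : Set G) := by
        rw [cgen, Subgroup.closure_le]
        rintro v ⟨hv, i, j, hij, hc⟩
        have := hcon v hv i j (fun a b => hij ⟨a, b⟩) hc
        refine Subgroup.mem_centralizer_iff.mpr ?_
        intro c hc'
        rw [Set.mem_singleton_iff.mp hc']
        exact this
      have h1 := hle (hgen ⟨hxK, hxB⟩)
      exact hxa (Subgroup.mem_centralizer_iff.mp h1 a rfl)
    obtain ⟨v, ⟨hvK, hvB⟩, i, j, hij, hvc, hva⟩ := hex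
    set z := a ^ i * b ^ j with hz
    have hzA : z ∈ A := A.mul_mem (A.pow_mem ha i) (A.pow_mem hbA j)
    -- a larger member of the family
    have hmem : (B ⊔ Subgroup.zpowers z) ∈ 𝔖 := by
      refine ⟨sup_le hBA (Subgroup.zpowers_le.mpr hzA), v, hvK, ?_, hva⟩
      have : B ⊔ Subgroup.zpowers z ≤ Subgroup.centralizer ({v} : Set G) := by
        refine sup_le ?_ ?_
        · intro c hc
          refine Subgroup.mem_centralizer_iff.mpr fun y hy => ?_
          rw [Set.mem_singleton_iff.mp hy]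
          exact (Subgroup.mem_centralizer_iff.mp hvB c hc).symm
        · rw [Subgroup.zpowers_le]
          refine Subgroup.mem_centralizer_iff.mpr fun y hy => ?_
          rw [Set.mem_singleton_iff.mp hy]
          exact hvc
      refine Subgroup.mem_centralizer_iff.mpr fun c hc => ?_
      have h2 := Subgroup.mem_centralizer_iff.mp (this hc) v rfl
      exact h2.symm
    have hcardle := hmax _ hmem
    have hleB : B ⊔ Subgroup.zpowers z = B :=
      (Subgroup.eq_of_le_of_card_ge le_sup_left hcardle).symm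
    have hzB : z ∈ B := by
      rw [← hleB]
      exact Subgroup.mem_sup_right (Subgroup.mem_zpowers z)
    -- contradiction
    by_cases hj : p ∣ j
    · have hbj : b ^ j = 1 := by
        obtain ⟨m, rfl⟩ := hj
        rw [pow_mul, hAp b hbA, one_pow]
      have hi : ¬ p ∣ i := fun hi => hij ⟨hi, hj⟩
      rw [hz, hbj, mul_one] at hzB
      have hcop : i.Coprime p := (Nat.Prime.coprime_iff_not_dvd hp).mpr hi |>.symm
      obtain ⟨m, -, hm⟩ := Nat.exists_mul_mod_eq_one_of_coprime hcop hp.one_lt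
      have h3 : a = (a ^ i) ^ m := by
        rw [← pow_mul, ← Nat.div_add_mod (i * m) p, hm, pow_add, pow_mul, hAp a ha, one_pow, one_mul, pow_one]
      apply haB
      rw [h3]
      exact B.pow_mem hzB m
    · have hcop : j.Coprime p := (Nat.Prime.coprime_iff_not_dvd hp).mpr hj |>.symm
      obtain ⟨m, -, hm⟩ := Nat.exists_mul_mod_eq_one_of_coprime hcop hp.one_lt
      have h3 : b = (b ^ j) ^ m := by
        rw [← pow_mul, ← Nat.div_add_mod (j * m) p, hm, pow_add, pow_mul, hAp b hbA, one_pow, one_mul, pow_one]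
      apply hb
      have h4 : b ^ j = (a ^ i)⁻¹ * z := by rw [hz]; group
      rw [h3, h4]
      apply Subgroup.pow_mem
      exact Subgroup.mul_mem _ (Subgroup.mem_sup_right (Subgroup.inv_mem _ (Subgroup.npow_mem_zpowers a i)))
        (Subgroup.mem_sup_left hzB)

end Hyper

section FF

variable {G : Type*} [Group G] [Finite G] {p : ℕ} [Fact p.Prime]

/-- The standing hypotheses. -/
structure FFS (p : ℕ) (V H K : Subgroup G) : Prop where
  hV : IsElementaryAbelian p V
  hHV : H ≤ Subgroup.normalizer (V : Set G)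
  hf : H ⊓ Subgroup.centralizer (V : Set G) = ⊥
  hKH : K ≤ H
  hKn : H ≤ Subgroup.normalizer (K : Set G)
  hKc : (Nat.card K).Coprime p
  hC : ∀ a ∈ H, (∀ k ∈ K, a * k = k * a) → a ∈ K

theorem FFS.of_stmt {V H : Subgroup G} (hV : IsElementaryAbelian p V)
    (hHV : H ≤ Subgroup.normalizer (V : Set G)) (hf : H ⊓ Subgroup.centralizer (V : Set G) = ⊥)
    (hS1 : Subgroup.centralizer (Cfsg.pPrimeCore p ↥H : Set ↥H) ≤ Cfsg.pPrimeCore p ↥H) :
    FFS p V H ((Cfsg.pPrimeCore p ↥H).map H.subtype) := by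
  have hn : (Cfsg.pPrimeCore p ↥H).Normal := Cfsg.Agent.H03.pPrimeCore_normal'
  refine ⟨hV, hHV, hf, ?_, ?_, ?_, ?_⟩
  · rintro _ ⟨x, -, rfl⟩
    exact x.2
  · intro h hh
    apply Cfsg.Agent.H19.mem_normalizer_of_conj_le
    rintro _ ⟨x, hx, rfl⟩
    exact ⟨⟨h, hh⟩ * x * (⟨h, hh⟩ : H)⁻¹, hn.conj_mem x hx _, rfl⟩
  · rw [Nat.card_congr (Subgroup.equivMapOfInjective _ H.subtype H.subtype_injective).toEquiv.symm]
    exact Cfsg.Agent.H06.coprime_card_pPrimeCore p
  · intro a ha hc
    have h1 : (⟨a, ha⟩ : H) ∈ Cfsg.pPrimeCore p ↥H := by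
      apply hS1
      rw [Subgroup.mem_centralizer_iff]
      intro k hk
      apply Subtype.ext
      exact (hc k ⟨k, hk, rfl⟩).symm
    exact ⟨_, h1, rfl⟩

variable {V H K : Subgroup G}

/-- A `p`-element centralizing... : `p`-torsion in `K` is trivial. -/
theorem eq_one_of_mem_K (hK : (Nat.card K).Coprime p) {x : G} (hx : x ∈ K) {n : ℕ} (h : x ^ p ^ n = 1) : x = 1 := by
  have h1 : orderOf x ∣ Nat.card K := by
    have := orderOf_dvd_natCard (⟨x, hx⟩ : K)
    rwa [Subgroup.orderOf_mk] at this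
  have h2 : orderOf x ∣ p ^ n := orderOf_dvd_of_pow_eq_one h
  have h3 : (orderOf x).Coprime (p ^ n) := Nat.Coprime.coprime_dvd_left h1 (hK.pow_right n)
  exact orderOf_eq_one_iff.mp (Nat.Coprime.eq_one_of_dvd h3 h2)

/-- Elements of a best offender act with order `p`. -/
theorem FFS.off_facts (hF : FFS p V H K) {A : Subgroup G} (hAH : A ≤ H) (hA : IsBestOffenderOn p V A) :
    (∀ a ∈ A, ∀ b ∈ A, a * b = b * a) ∧ (∀ a ∈ A, a ^ p = 1) := by
  have hmem : ∀ x ∈ H, x ∈ Subgroup.centralizer (V : Set G) → x = 1 := fun x hx hc => by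
    have : x ∈ H ⊓ Subgroup.centralizer (V : Set G) := ⟨hx, hc⟩
    rw [hF.hf] at this
    exact this
  refine ⟨fun a ha b hb => ?_, fun a ha => hmem _ (H.pow_mem (hAH ha) p) (hA.2.2 a ha)⟩
  have h1 : ⁅a, b⁆ ∈ ⁅A, A⁆ := Subgroup.commutator_mem_commutator ha hb
  have h2 := hmem _ (H.mul_mem (H.mul_mem (H.mul_mem (hAH ha) (hAH hb)) (H.inv_mem (hAH ha))) (H.inv_mem (hAH hb))) (hA.2.1 h1)
  have h3 : a * b * a⁻¹ * b⁻¹ = 1 := h2
  calc a * b = (a * b * a⁻¹ * b⁻¹) * (b * a) := by group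
    _ = b * a := by rw [h3, one_mul]

theorem FFS.moved (hF : FFS p V H K) {a : G} (ha : a ∈ H) (hp : a ^ p = 1) (ha1 : a ≠ 1) :
    ∃ x ∈ K, a * x ≠ x * a := by
  by_contra hcon
  push Not at hcon
  have h1 := hF.hC a ha hcon
  apply ha1
  exact eq_one_of_mem_K hF.hKc h1 (n := 1) (by rwa [pow_one])

/-- The value of a hyperplane as in `exists_hyperplane`. -/
theorem FFS.value_step (hF : FFS p V H K) {A B : Subgroup G} (hAH : A ≤ H) (hA : IsBestOffenderOn p V A)
    (hBA : B ≤ A) (hcard : Nat.card A = p * Nat.card B) {a x : G} (ha : a ∈ A) (hxK : x ∈ K)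
    (hxB : x ∈ Subgroup.centralizer (B : Set G)) (hxa : a * x ≠ x * a) :
    offVal V B = offVal V A := by
  classical
  have hp : p.Prime := Fact.out
  obtain ⟨hAc, hAp⟩ := hF.off_facts hAH hA
  have hle : offVal V B ≤ offVal V A := hA.1 B hBA
  apply le_antisymm hle
  -- `a` moves `C_V(B)`
  have hmove : ∃ v ∈ V ⊓ Subgroup.centralizer (B : Set G), a * v ≠ v * a := by
    by_contra hcon
    push Not at hcon
    set y := x * a * x⁻¹ * a⁻¹ with hy
    have hyK : y ∈ K := by
      have h1 := (Subgroup.mem_normalizer_iff.mp (hF.hKn (hAH ha)) x).mp hxK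
      have e : y = x * (a * x⁻¹ * a⁻¹) := by rw [hy]; group
      rw [e]
      exact K.mul_mem hxK ((Subgroup.mem_normalizer_iff.mp (hF.hKn (hAH ha)) _).mp (K.inv_mem hxK))
    have hycomm : ∀ c ∈ B, c * y = y * c := by
      intro c hc
      have h1 := Subgroup.mem_centralizer_iff.mp hxB c hc
      have h2 := hAc a ha c (hBA hc)
      have h1' : c * x⁻¹ = x⁻¹ * c := by
        calc c * x⁻¹ = x⁻¹ * (x * c) * x⁻¹ := by group
          _ = x⁻¹ * (c * x) * x⁻¹ := by rw [h1]
          _ = x⁻¹ * c := by group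
      have h2' : c * a⁻¹ = a⁻¹ * c := by
        calc c * a⁻¹ = a⁻¹ * (a * c) * a⁻¹ := by group
          _ = a⁻¹ * (c * a) * a⁻¹ := by rw [h2]
          _ = a⁻¹ * c := by group
      rw [hy]
      calc c * (x * a * x⁻¹ * a⁻¹) = (c * x) * a * x⁻¹ * a⁻¹ := by group
        _ = x * (c * a) * x⁻¹ * a⁻¹ := by rw [h1]; group
        _ = x * a * (c * x⁻¹) * a⁻¹ := by rw [← h2]; group
        _ = x * a * x⁻¹ * (c * a⁻¹) := by rw [h1']; group
        _ = x * a * x⁻¹ * a⁻¹ * c := by rw [h2']; group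
    have hyV : ∀ v ∈ V ⊓ Subgroup.centralizer (B : Set G), y * v = v * y := by
      intro v hv
      have hv1 : a⁻¹ * v * a = v := by
        have := hcon v hv
        calc a⁻¹ * v * a = a⁻¹ * (v * a) := by group
          _ = a⁻¹ * (a * v) := by rw [this]
          _ = v := by group
      -- `x⁻¹ v x` lies in `C_V(B)`
      have hv2 : x⁻¹ * v * x ∈ V ⊓ Subgroup.centralizer (B : Set G) := by
        refine ⟨?_, ?_⟩
        · have := (Subgroup.mem_normalizer_iff.mp (hF.hHV (H.inv_mem (hF.hKH hxK))) v).mp hv.1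
          simpa using this
        · refine Subgroup.mem_centralizer_iff.mpr fun c hc => ?_
          have h1 := Subgroup.mem_centralizer_iff.mp hxB c hc
          have h3 := Subgroup.mem_centralizer_iff.mp hv.2 c hc
          have h1' : c * x⁻¹ = x⁻¹ * c := by
            calc c * x⁻¹ = x⁻¹ * (x * c) * x⁻¹ := by group
              _ = x⁻¹ * (c * x) * x⁻¹ := by rw [h1]
              _ = x⁻¹ * c := by group
          calc c * (x⁻¹ * v * x) = (c * x⁻¹) * v * x := by group
            _ = x⁻¹ * (c * v) * x := by rw [h1']; group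
            _ = x⁻¹ * v * (c * x) := by rw [h3]; group
            _ = x⁻¹ * v * (x * c) := by rw [h1]
            _ = x⁻¹ * v * x * c := by group
      have hv3 := hcon _ hv2
      rw [hy]
      have h4 : a * (x⁻¹ * v * x) * a⁻¹ = x⁻¹ * v * x := by rw [hv3]; group
      calc x * a * x⁻¹ * a⁻¹ * v = x * a * x⁻¹ * (a⁻¹ * v * a) * a⁻¹ := by group
        _ = x * (a * (x⁻¹ * v * x) * a⁻¹) * x⁻¹ * (x * a * x⁻¹ * a⁻¹) := by rw [hv1]; group
        _ = x * (x⁻¹ * v * x) * x⁻¹ * (x * a * x⁻¹ * a⁻¹) := by rw [h4]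
        _ = v * (x * a * x⁻¹ * a⁻¹) := by group
    -- Thompson's `A × B`
    have hQc : (Nat.card (Subgroup.zpowers y)).Coprime p := by
      rw [Nat.card_zpowers]
      have h1 : orderOf y ∣ Nat.card K := by
        have := orderOf_dvd_natCard (⟨y, hyK⟩ : K)
        rwa [Subgroup.orderOf_mk] at this
      exact Nat.Coprime.coprime_dvd_left h1 hF.hKc
    have hBp : IsPGroup p B := fun c => ⟨1, Subtype.ext (by simpa using hAp c (hBA c.2))⟩
    have hcent : ∀ {u w : G}, u * w = w * u → w ∈ Subgroup.centralizer (Subgroup.zpowers u : Set G) := by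
      intro u w huw
      refine Subgroup.mem_centralizer_iff.mpr ?_
      rintro _ ⟨n, rfl⟩
      exact (Commute.zpow_left huw n).eq
    have hQV := Cfsg.Agent.H01.thompson_PxQ p B (Subgroup.zpowers y) V hBp hQc (Cfsg.Agent.H02.ea_isPGroup hF.hV)
      (fun c hc => hcent (hycomm c hc).symm) (hBA.trans (hAH.trans hF.hHV))
      (Subgroup.zpowers_le.mpr (hF.hHV (hF.hKH hyK))) (fun v hv => hcent (hyV v hv))
    have hy1 : y = 1 := by
      have : y ∈ H ⊓ Subgroup.centralizer (V : Set G) := ⟨hF.hKH hyK, hQV (Subgroup.mem_zpowers y)⟩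
      rw [hF.hf] at this
      exact this
    apply hxa
    have h5 : x * a * x⁻¹ * a⁻¹ = 1 := hy1
    have h6 : x * a * x⁻¹ = a := mul_inv_eq_one.mp h5
    calc a * x = (x * a * x⁻¹) * x := by rw [h6]
      _ = x * a := by group
  obtain ⟨v, hvB, hva⟩ := hmove
  have hXY : V ⊓ Subgroup.centralizer (A : Set G) ≤ V ⊓ Subgroup.centralizer (B : Set G) :=
    inf_le_inf_left _ (Subgroup.centralizer_le hBA)
  have hne : Nat.card ↥(V ⊓ Subgroup.centralizer (A : Set G)) ≠ Nat.card ↥(V ⊓ Subgroup.centralizer (B : Set G)) := by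
    intro e
    have h1 := Subgroup.eq_of_le_of_card_ge hXY e.ge
    have h2 : v ∈ V ⊓ Subgroup.centralizer (A : Set G) := by rw [h1]; exact hvB
    exact hva (Subgroup.mem_centralizer_iff.mp h2.2 a ha)
  obtain ⟨m, hm⟩ := Subgroup.card_dvd_of_le hXY
  have hYp : IsPGroup p ↥(V ⊓ Subgroup.centralizer (B : Set G)) :=
    (Cfsg.Agent.H02.ea_isPGroup hF.hV).to_le inf_le_left
  obtain ⟨k, hk⟩ := IsPGroup.iff_card.mp hYp
  have hm1 : m ≠ 1 := fun h => hne (by rw [hm, h, mul_one])
  have hmdvd : m ∣ p ^ k := by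
    rw [← hk, hm]
    exact dvd_mul_left _ _
  obtain ⟨j, -, hj⟩ := (Nat.dvd_prime_pow hp).mp hmdvd
  have hpm : p ≤ m := by
    rw [hj]
    rcases j with _ | j
    · exact absurd (by simpa using hj) hm1
    · calc p = p ^ 1 := (pow_one p).symm
        _ ≤ p ^ (j + 1) := Nat.pow_le_pow_right hp.pos (by omega)
  unfold offVal
  rw [hcard, hm]
  calc p * Nat.card B * Nat.card ↥(V ⊓ Subgroup.centralizer (A : Set G))
      = Nat.card B * (Nat.card ↥(V ⊓ Subgroup.centralizer (A : Set G)) * p) := by ring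
    _ ≤ Nat.card B * (Nat.card ↥(V ⊓ Subgroup.centralizer (A : Set G)) * m) :=
      Nat.mul_le_mul_left _ (Nat.mul_le_mul_left _ hpm)

/-- Subgroups of a best offender with the same value are best offenders. -/
theorem best_of_value {A B : Subgroup G} (hA : IsBestOffenderOn p V A) (hBA : B ≤ A)
    (h : offVal V B = offVal V A) : IsBestOffenderOn p V B := by
  refine ⟨fun C hC => ?_, (Subgroup.commutator_mono hBA hBA).trans hA.2.1, fun a ha => hA.2.2 a (hBA ha)⟩
  have h1 := hA.1 C (hC.trans hBA)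
  change offVal V C ≤ offVal V B
  rw [h]
  exact h1

/-- Hyperplanes of the same value. -/
theorem FFS.hyper (hF : FFS p V H K) {A : Subgroup G} (hAH : A ≤ H) (hA : IsBestOffenderOn p V A)
    {a : G} (ha : a ∈ A) (ha1 : a ≠ 1) :
    ∃ B : Subgroup G, B ≤ A ∧ Nat.card A = p * Nat.card B ∧ a ∉ B ∧ offVal V B = offVal V A ∧
      IsBestOffenderOn p V B := by
  obtain ⟨hAc, hAp⟩ := hF.off_facts hAH hA
  have hAK : A ≤ Subgroup.normalizer (K : Set G) := hAH.trans hF.hKn
  obtain ⟨B, hBA, hcard, haB, x, hxK, hxB, hxa⟩ :=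
    exists_hyperplane hAc hAp hAK hF.hKc ha (hF.moved (hAH ha) (hAp a ha) ha1)
  have hval := hF.value_step hAH hA hBA hcard ha hxK hxB hxa
  exact ⟨B, hBA, hcard, haB, hval, best_of_value hA hBA hval⟩

lemma offVal_bot : offVal V (⊥ : Subgroup G) = Nat.card V := by
  unfold offVal
  rw [Subgroup.card_bot, one_mul]
  have : V ⊓ Subgroup.centralizer ((⊥ : Subgroup G) : Set G) = V := by
    apply inf_eq_left.mpr
    intro v _
    refine Subgroup.mem_centralizer_iff.mpr fun c hc => ?_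
    have : c = 1 := hc
    rw [this, one_mul, mul_one]
  rw [this]

/-- S0610: the value of a best offender. -/
theorem FFS.val_eq_card (hF : FFS p V H K) : ∀ (n : ℕ) (A : Subgroup G), Nat.card A = n → A ≤ H →
    IsBestOffenderOn p V A → offVal V A = Nat.card V := by
  intro n
  induction n using Nat.strong_induction_on with
  | _ n ih =>
  intro A hn hAH hA
  have hp : p.Prime := Fact.out
  by_cases hbot : ∀ x ∈ A, x = 1
  · have : A = ⊥ := (Subgroup.eq_bot_iff_forall A).mpr hbot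
    rw [this, offVal_bot]
  · push Not at hbot
    obtain ⟨a, ha, ha1⟩ := hbot
    obtain ⟨B, hBA, hcard, -, hval, hB⟩ := hF.hyper hAH hA ha ha1
    have hlt : Nat.card B < n := by
      rw [← hn, hcard]
      have : 0 < Nat.card B := Nat.card_pos
      nlinarith [hp.two_le]
    rw [← hval]
    exact ih _ hlt B rfl (hBA.trans hAH) hB

/-- Faithfulness on `V`. -/
theorem FFS.eq_one_of_comm_V (hF : FFS p V H K) {x : G} (hx : x ∈ H) (h : ∀ v ∈ V, v * x = x * v) : x = 1 := by
  have : x ∈ H ⊓ Subgroup.centralizer (V : Set G) := ⟨hx, Subgroup.mem_centralizer_iff.mpr h⟩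
  rw [hF.hf] at this
  exact this

section tv

variable {a : G}

lemma mem_centralizer_zpowers {u w : G} (huw : u * w = w * u) :
    w ∈ Subgroup.centralizer (Subgroup.zpowers u : Set G) := by
  refine Subgroup.mem_centralizer_iff.mpr ?_
  rintro _ ⟨n, rfl⟩
  exact (Commute.zpow_left huw n).eq

theorem commV_of_ea' (hV : IsElementaryAbelian p V) : ∀ x ∈ V, ∀ y ∈ V, x * y = y * x :=
  Cfsg.Agent.H02.commV_of_ea hV

/-- The commutator map of an element normalizing an abelian `V`. -/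
def tvHom (hc : ∀ x ∈ V, ∀ y ∈ V, x * y = y * x) (ha : a ∈ Subgroup.normalizer (V : Set G)) : V →* V where
  toFun v := ⟨⁅(v : G), a⁆, Cfsg.Agent.H02.comm_mem ha v.2⟩
  map_one' := by
    apply Subtype.ext
    simp
  map_mul' := by
    rintro ⟨v, hv⟩ ⟨w, hw⟩
    apply Subtype.ext
    change ⁅v * w, a⁆ = ⁅v, a⁆ * ⁅w, a⁆
    have h1 := Cfsg.Agent.H02.conj_mem_of_normalizer ha (V.inv_mem hw)
    have h2 := Cfsg.Agent.H02.conj_mem_of_normalizer ha (V.inv_mem hv)
    rw [commutatorElement_def, commutatorElement_def, commutatorElement_def]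
    have e1 : v * w * a * (v * w)⁻¹ * a⁻¹ = v * (w * (a * w⁻¹ * a⁻¹) * (a * v⁻¹ * a⁻¹)) := by group
    have e2 : v * a * v⁻¹ * a⁻¹ * (w * a * w⁻¹ * a⁻¹) = v * ((a * v⁻¹ * a⁻¹) * (w * (a * w⁻¹ * a⁻¹))) := by group
    rw [e1, e2, hc _ (V.mul_mem hw h1) _ h2]

theorem tvHom_apply (hc : ∀ x ∈ V, ∀ y ∈ V, x * y = y * x) (ha : a ∈ Subgroup.normalizer (V : Set G)) (v : V) :
    ((tvHom hc ha v : V) : G) = ⁅(v : G), a⁆ := rfl

theorem comm_zpowers_le (hc : ∀ x ∈ V, ∀ y ∈ V, x * y = y * x) (ha : a ∈ Subgroup.normalizer (V : Set G)) :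
    ⁅V, Subgroup.zpowers a⁆ = (tvHom hc ha).range.map V.subtype := by
  classical
  apply le_antisymm
  · rw [Subgroup.commutator_le]
    intro v hv z hz
    rw [← mem_powers_iff_mem_zpowers] at hz
    obtain ⟨n, rfl⟩ := Submonoid.mem_powers_iff _ _ |>.mp hz
    induction n generalizing v with
    | zero =>
      simp only [pow_zero, commutatorElement_one_right]
      exact Subgroup.one_mem _
    | succ n ih =>
      rw [pow_succ, Cfsg.Agent.H02.comm_mul_eq]
      refine Subgroup.mul_mem _ ?_ ?_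
      · exact ⟨_, ⟨⟨v, hv⟩, rfl⟩, rfl⟩
      · exact ih _ (Cfsg.Agent.H02.conj_mem_of_normalizer ha hv) (pow_mem (Submonoid.mem_powers _) _)
  · rintro _ ⟨_, ⟨v, rfl⟩, rfl⟩
    exact Subgroup.commutator_mem_commutator v.2 (Subgroup.mem_zpowers a)

theorem card_tvHom (hc : ∀ x ∈ V, ∀ y ∈ V, x * y = y * x) (ha : a ∈ Subgroup.normalizer (V : Set G)) :
    Nat.card ↥⁅V, Subgroup.zpowers a⁆ * Nat.card ↥(V ⊓ Subgroup.centralizer (Subgroup.zpowers a : Set G)) = Nat.card V := by
  classical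
  rw [comm_zpowers_le hc ha, Nat.card_congr (Subgroup.equivMapOfInjective _ V.subtype V.subtype_injective).toEquiv.symm]
  have h1 := (tvHom hc ha).ker.card_mul_index
  rw [Subgroup.index_ker] at h1
  have h2 : Nat.card (tvHom hc ha).ker = Nat.card ↥(V ⊓ Subgroup.centralizer (Subgroup.zpowers a : Set G)) := by
    have e : (tvHom hc ha).ker.map V.subtype = V ⊓ Subgroup.centralizer (Subgroup.zpowers a : Set G) := by
      ext x
      constructor
      · rintro ⟨⟨v, hv⟩, hk, rfl⟩
        refine ⟨hv, mem_centralizer_zpowers ?_⟩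
        have h3 : ⁅v, a⁆ = 1 := congrArg Subtype.val (MonoidHom.mem_ker.mp hk)
        exact (commutatorElement_eq_one_iff_commute.mp h3).eq.symm
      · rintro ⟨hv, hx⟩
        refine ⟨⟨x, hv⟩, ?_, rfl⟩
        refine MonoidHom.mem_ker.mpr ?_
        apply Subtype.ext
        have h3 := Subgroup.mem_centralizer_iff.mp hx a (Subgroup.mem_zpowers a)
        exact commutatorElement_eq_one_iff_commute.mpr h3.symm
    rw [← e]
    exact Nat.card_congr (Subgroup.equivMapOfInjective _ V.subtype V.subtype_injective).toEquiv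
  rw [← h1, h2, mul_comm]

end tv

/-- S0611. -/
theorem FFS.min_facts (hF : FFS p V H K) {A : Subgroup G} (hAH : A ≤ H) (hA : IsBestOffenderOn p V A)
    (hAV : ⁅V, A⁆ ≠ ⊥) (hmin : ∀ B : Subgroup G, B ≤ A → IsBestOffenderOn p V B → ⁅V, B⁆ ≠ ⊥ → B = A) :
    Nat.card A = p ∧ Nat.card ↥(⁅V, A⁆) = p ∧ (V ⊓ Subgroup.centralizer (A : Set G)).relIndex V = p := by
  classical
  have hp : p.Prime := Fact.out
  have hbot : ¬ ∀ x ∈ A, x = 1 := by
    intro h
    apply hAV
    rw [(Subgroup.eq_bot_iff_forall A).mpr h]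
    exact Subgroup.commutator_bot_right V
  push Not at hbot
  obtain ⟨a, ha, ha1⟩ := hbot
  obtain ⟨B, hBA, hcard, haB, hval, hB⟩ := hF.hyper hAH hA ha ha1
  have hVB : ⁅V, B⁆ = ⊥ := by
    by_contra hne
    have := hmin B hBA hB hne
    exact haB (this ▸ ha)
  have hBbot : B = ⊥ := by
    rw [Subgroup.eq_bot_iff_forall]
    intro x hx
    apply hF.eq_one_of_comm_V (hBA.trans hAH hx)
    intro v hv
    have h1 : ⁅v, x⁆ = 1 := by
      have : ⁅v, x⁆ ∈ ⁅V, B⁆ := Subgroup.commutator_mem_commutator hv hx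
      rw [hVB] at this
      exact this
    exact (commutatorElement_eq_one_iff_commute.mp h1).eq
  have hcA : Nat.card A = p := by
    rw [hcard, hBbot, Subgroup.card_bot, mul_one]
  have hAz : A = Subgroup.zpowers a := by
    have hle : Subgroup.zpowers a ≤ A := Subgroup.zpowers_le.mpr ha
    refine (Subgroup.eq_of_le_of_card_ge hle ?_).symm
    rw [hcA, Nat.card_zpowers, orderOf_eq_prime ((hF.off_facts hAH hA).2 a ha) ha1]
  have hvalA := hF.val_eq_card _ A rfl hAH hA
  unfold offVal at hvalA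
  rw [hcA] at hvalA
  have hpos : 0 < Nat.card ↥(V ⊓ Subgroup.centralizer (A : Set G)) := Nat.card_pos
  have hmid := card_tvHom (commV_of_ea' hF.hV) (hF.hHV (hAH ha))
  rw [← hAz, ← hvalA] at hmid
  have hmid' : Nat.card ↥(⁅V, A⁆) = p := Nat.eq_of_mul_eq_mul_right hpos hmid
  refine ⟨hcA, hmid', ?_⟩
  have h1 := Subgroup.card_mul_index ((V ⊓ Subgroup.centralizer (A : Set G)).subgroupOf V)
  have h2 : Nat.card ↥((V ⊓ Subgroup.centralizer (A : Set G)).subgroupOf V) = Nat.card ↥(V ⊓ Subgroup.centralizer (A : Set G)) :=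
    Nat.card_congr (Subgroup.subgroupOfEquivOfLe inf_le_left).toEquiv
  rw [h2, ← hvalA, mul_comm] at h1
  exact Nat.eq_of_mul_eq_mul_right hpos (by rw [Subgroup.relIndex]; linarith)

theorem FFS.card_dvd_prime_cases {C D : Subgroup G} (hCD : C ≤ D) (hD : Nat.card D = p) : C = ⊥ ∨ C = D := by
  have hp : p.Prime := Fact.out
  have h1 : Nat.card C ∣ p := hD ▸ Subgroup.card_dvd_of_le hCD
  rcases (Nat.dvd_prime hp).mp h1 with h2 | h2
  · exact Or.inl (Subgroup.card_eq_one.mp h2)
  · exact Or.inr (Subgroup.eq_of_le_of_card_ge hCD (by rw [h2, hD]))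

/-- An atom outside a hyperplane. -/
theorem FFS.exists_atom (hF : FFS p V H K) {A A₁ : Subgroup G} (hAH : A ≤ H) (hA : IsBestOffenderOn p V A)
    (hA₁ : A₁ ≤ A) (hcard : Nat.card A = p * Nat.card A₁) :
    ∃ D : Subgroup G, D ≤ A ∧ Nat.card D = p ∧ ¬ D ≤ A₁ ∧ offVal V D = offVal V A ∧ IsBestOffenderOn p V D := by
  classical
  have hp : p.Prime := Fact.out
  obtain ⟨hAc, hAp⟩ := hF.off_facts hAH hA
  have hpos₁ : 0 < Nat.card A₁ := Nat.card_pos
  let 𝔐 : Set (Subgroup G) := {B | B ≤ A ∧ offVal V B = offVal V A ∧ ¬ B ≤ A₁}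
  have hne : 𝔐.Nonempty := by
    refine ⟨A, le_rfl, rfl, fun h => ?_⟩
    have := Subgroup.card_le_of_le h
    nlinarith [hp.two_le]
  obtain ⟨B, ⟨hBA, hval, hBA₁⟩, hminB⟩ := Set.exists_min_image 𝔐 (fun B => Nat.card B) (Set.toFinite _) hne
  have hB : IsBestOffenderOn p V B := best_of_value hA hBA hval
  refine ⟨B, hBA, ?_, hBA₁, hval, hB⟩
  have hBp : IsPGroup p B := fun c => ⟨1, Subtype.ext (by simpa using hAp c (hBA c.2))⟩
  obtain ⟨e, he⟩ := IsPGroup.iff_card.mp hBp
  have hNA : B ≤ Subgroup.normalizer (A₁ : Set G) := by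
    intro b hb
    apply Cfsg.Agent.H19.mem_normalizer_of_conj_le
    intro c hc
    have : b * c * b⁻¹ = c := by rw [hAc b (hBA hb) c (hA₁ hc)]; group
    rwa [this]
  have h1 := Cfsg.Agent.H25.card_sup_mul_inf hNA
  have h2 : Nat.card (A₁ ⊔ B : Subgroup G) ≤ Nat.card A := Subgroup.card_le_of_le (sup_le hA₁ hBA)
  have hle : Nat.card B ≤ p * Nat.card ↥(A₁ ⊓ B) := by
    have h3 : Nat.card A₁ * Nat.card B ≤ Nat.card A₁ * (p * Nat.card ↥(A₁ ⊓ B)) := by
      calc Nat.card A₁ * Nat.card B = Nat.card (A₁ ⊔ B : Subgroup G) * Nat.card ↥(A₁ ⊓ B) := h1.symm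
        _ ≤ Nat.card A * Nat.card ↥(A₁ ⊓ B) := Nat.mul_le_mul_right _ h2
        _ = Nat.card A₁ * (p * Nat.card ↥(A₁ ⊓ B)) := by rw [hcard]; ring
    exact Nat.le_of_mul_le_mul_left h3 hpos₁
  have hBne : Nat.card B ≠ 1 := fun h => hBA₁ (by
    rw [Subgroup.card_eq_one.mp h]
    exact bot_le)
  by_cases hbot : ∀ x ∈ A₁ ⊓ B, x = 1
  · have h3 : A₁ ⊓ B = ⊥ := (Subgroup.eq_bot_iff_forall _).mpr hbot
    rw [h3, Subgroup.card_bot, mul_one] at hle
    rcases e with _ | e
    · rw [pow_zero] at he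
      exact absurd he hBne
    · rw [he] at hle ⊢
      have h4 : p ^ (e + 1) = p ^ e * p := pow_succ p e
      have h5 : 0 < p ^ e := pow_pos hp.pos e
      rcases e with _ | e
      · simp
      · exfalso
        have : p * p ≤ p ^ (e + 1 + 1) := by
          calc p * p = p ^ 2 := (sq p).symm
            _ ≤ p ^ (e + 1 + 1) := Nat.pow_le_pow_right hp.pos (by omega)
        nlinarith [hp.two_le]
  · exfalso
    push Not at hbot
    obtain ⟨a, ⟨haA₁, haB⟩, ha1⟩ := hbot
    obtain ⟨B₂, hB₂B, hcard₂, haB₂, hval₂, -⟩ := hF.hyper (hBA.trans hAH) hB haB ha1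
    have hB₂pos : 0 < Nat.card B₂ := Nat.card_pos
    have hB₂A₁ : B₂ ≤ A₁ := by
      by_contra hc
      have h3 := hminB B₂ ⟨hB₂B.trans hBA, hval₂.trans hval, hc⟩
      change Nat.card B ≤ Nat.card B₂ at h3
      nlinarith [hp.two_le]
    have hchain : B₂ ≤ A₁ ⊓ B := le_inf hB₂A₁ hB₂B
    obtain ⟨m, hm⟩ := Subgroup.card_dvd_of_le hchain
    obtain ⟨n, hn⟩ := Subgroup.card_dvd_of_le (inf_le_right : A₁ ⊓ B ≤ B)
    have hmn : m * n = p := by
      have h3 : Nat.card B₂ * (m * n) = Nat.card B₂ * p := by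
        rw [← mul_assoc, ← hm, ← hn, hcard₂]
        ring
      exact Nat.eq_of_mul_eq_mul_left hB₂pos h3
    have hm1 : m ≠ 1 := by
      rintro rfl
      have h3 := Subgroup.eq_of_le_of_card_ge hchain (by rw [hm, mul_one])
      exact haB₂ (h3 ▸ (⟨haA₁, haB⟩ : a ∈ A₁ ⊓ B))
    have hn1 : n ≠ 1 := by
      rintro rfl
      have h3 := Subgroup.eq_of_le_of_card_ge (inf_le_right : A₁ ⊓ B ≤ B) (by rw [hn, mul_one])
      exact hBA₁ (h3 ▸ inf_le_left)
    rcases (Nat.prime_mul_iff.mp (hmn ▸ hp)) with ⟨-, h⟩ | ⟨-, h⟩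
    · exact hn1 h
    · exact hm1 h

/-- The direct decomposition of a best offender. -/
theorem FFS.decomp (hF : FFS p V H K) : ∀ (n : ℕ) (A : Subgroup G), Nat.card A = n → A ≤ H →
    IsBestOffenderOn p V A → ∃ (k : ℕ) (B : Fin k → Subgroup G),
      (∀ i, B i ≤ A ∧ IsBestOffenderOn p V (B i) ∧ ⁅V, B i⁆ ≠ ⊥ ∧
        ∀ C : Subgroup G, C ≤ B i → IsBestOffenderOn p V C → ⁅V, C⁆ ≠ ⊥ → C = B i) ∧
      iSupIndep B ∧ ⨆ i, B i = A := by
  intro n
  induction n using Nat.strong_induction_on with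
  | _ n ih =>
  intro A hn hAH hA
  classical
  have hp : p.Prime := Fact.out
  by_cases hbot : ∀ x ∈ A, x = 1
  · have hAb : A = ⊥ := (Subgroup.eq_bot_iff_forall A).mpr hbot
    refine ⟨0, Fin.elim0, fun i => i.elim0, fun i => i.elim0, ?_⟩
    rw [hAb]
    exact iSup_of_empty _
  · push Not at hbot
    obtain ⟨a, ha, ha1⟩ := hbot
    obtain ⟨A₁, hA₁A, hcard, -, hval, hA₁⟩ := hF.hyper hAH hA ha ha1
    obtain ⟨hAc, hAp⟩ := hF.off_facts hAH hA
    have hlt : Nat.card A₁ < n := by
      rw [← hn, hcard]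
      have : 0 < Nat.card A₁ := Nat.card_pos
      nlinarith [hp.two_le]
    obtain ⟨k, B, hB, hind, hsup⟩ := ih _ hlt A₁ rfl (hA₁A.trans hAH) hA₁
    obtain ⟨D, hDA, hDcard, hDA₁, -, hD⟩ := hF.exists_atom hAH hA hA₁A hcard
    have hBA₁ : ∀ i, B i ≤ A₁ := fun i => (hB i).1
    have hDinf : D ⊓ A₁ = ⊥ := by
      rcases FFS.card_dvd_prime_cases (inf_le_left : D ⊓ A₁ ≤ D) hDcard with h | h
      · exact h
      · exact absurd (h ▸ inf_le_right) hDA₁
    have hDV : ⁅V, D⁆ ≠ ⊥ := by
      intro h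
      have hx : ∀ x ∈ D, x = 1 := by
        intro x hx
        apply hF.eq_one_of_comm_V (hDA.trans hAH hx)
        intro v hv
        have h1 : ⁅v, x⁆ = 1 := by
          have : ⁅v, x⁆ ∈ ⁅V, D⁆ := Subgroup.commutator_mem_commutator hv hx
          rw [h] at this
          exact this
        exact (commutatorElement_eq_one_iff_commute.mp h1).eq
      have h2 := (Subgroup.eq_bot_iff_forall D).mpr hx
      rw [h2, Subgroup.card_bot] at hDcard
      exact hp.one_lt.ne hDcard
    refine ⟨k + 1, Fin.cons D B, ?_, ?_, ?_⟩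
    · intro i
      refine Fin.cases ?_ (fun m => ?_) i
      · refine ⟨hDA, hD, hDV, fun C hCD hC hCV => ?_⟩
        rcases FFS.card_dvd_prime_cases hCD hDcard with h | h
        · exfalso
          apply hCV
          rw [h]
          exact Subgroup.commutator_bot_right V
        · exact h
      · obtain ⟨h1, h2, h3, h4⟩ := hB m
        exact ⟨h1.trans hA₁A, h2, h3, h4⟩
    · rw [iSupIndep_def]
      intro i
      refine Fin.cases ?_ (fun m => ?_) i
      · rw [Fin.cons_zero, Subgroup.disjoint_def]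
        intro x hx hx2
        have hle : (⨆ j, ⨆ (_ : j ≠ (0 : Fin (k + 1))), (Fin.cons D B : Fin (k + 1) → Subgroup G) j) ≤ A₁ := by
          refine iSup₂_le fun j hj => ?_
          obtain ⟨l, rfl⟩ := Fin.exists_succ_eq.mpr hj
          rw [Fin.cons_succ]
          exact hBA₁ l
        have : x ∈ D ⊓ A₁ := ⟨hx, hle hx2⟩
        rw [hDinf] at this
        exact this
      · rw [Fin.cons_succ, Subgroup.disjoint_def]
        intro x hx hx2
        let Y : Subgroup G := ⨆ (j : Fin k) (_ : j ≠ m), B j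
        have hYA₁ : Y ≤ A₁ := iSup₂_le fun j _ => hBA₁ j
        have hle : (⨆ j, ⨆ (_ : j ≠ m.succ), (Fin.cons D B : Fin (k + 1) → Subgroup G) j) ≤ Y ⊔ D := by
          refine iSup₂_le fun j hj => ?_
          refine Fin.cases ?_ (fun l => ?_) j hj
          · intro _
            rw [Fin.cons_zero]
            exact le_sup_right
          · intro hl
            rw [Fin.cons_succ]
            have hlm : l ≠ m := fun h => hl (by rw [h])
            exact le_sup_of_le_left (le_iSup₂_of_le l hlm le_rfl)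
        have hN : D ≤ Subgroup.normalizer (Y : Set G) := by
          intro d hd
          apply Cfsg.Agent.H19.mem_normalizer_of_conj_le
          intro c hc
          have : d * c * d⁻¹ = c := by rw [hAc d (hDA hd) c (hA₁A (hYA₁ hc))]; group
          rwa [this]
        obtain ⟨y, hy, d, hd, e⟩ := Cfsg.Agent.H01.exists_mul_of_mem_sup hN (hle hx2)
        have hdA₁ : d ∈ A₁ := by
          have h1 : d = y⁻¹ * x := by rw [e]; group
          rw [h1]
          exact A₁.mul_mem (A₁.inv_mem (hYA₁ hy)) (hBA₁ m hx)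
        have hd1 : d = 1 := by
          have : d ∈ D ⊓ A₁ := ⟨hd, hdA₁⟩
          rw [hDinf] at this
          exact this
        rw [hd1, mul_one] at e
        have hdisj := (iSupIndep_def.mp hind) m
        exact (Subgroup.disjoint_def.mp hdisj) hx (e ▸ hy)
    · apply le_antisymm
      · refine iSup_le fun i => ?_
        refine Fin.cases ?_ (fun m => ?_) i
        · rw [Fin.cons_zero]
          exact hDA
        · rw [Fin.cons_succ]
          exact (hBA₁ m).trans hA₁A
      · have hge : A₁ ⊔ D ≤ ⨆ i, (Fin.cons D B : Fin (k + 1) → Subgroup G) i := by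
          refine sup_le ?_ ?_
          · rw [← hsup]
            refine iSup_le fun m => ?_
            have := le_iSup (Fin.cons D B : Fin (k + 1) → Subgroup G) m.succ
            rwa [Fin.cons_succ] at this
          · have := le_iSup (Fin.cons D B : Fin (k + 1) → Subgroup G) 0
            rwa [Fin.cons_zero] at this
        have hN : D ≤ Subgroup.normalizer (A₁ : Set G) := by
          intro d hd
          apply Cfsg.Agent.H19.mem_normalizer_of_conj_le
          intro c hc
          have : d * c * d⁻¹ = c := by rw [hAc d (hDA hd) c (hA₁A hc)]; group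
          rwa [this]
        have h1 := Cfsg.Agent.H25.card_sup_mul_inf hN
        rw [inf_comm, hDinf, Subgroup.card_bot, mul_one, hDcard] at h1
        have h2 : A₁ ⊔ D = A := by
          refine Subgroup.eq_of_le_of_card_ge (sup_le hA₁A hDA) ?_
          rw [h1, hcard, mul_comm]
        rw [← h2]
        exact hge

end FF

end Cfsg.Agent.H14
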