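import Mathlib
import Cfsg.Agent.Lib.H14.BO1
/-! Transvection toolkit for the structure theorem on failure of factorization. -/
set_option autoImplicit false
set_option linter.unusedSectionVars false
set_option linter.unusedVariables false
set_option linter.style.longLine false
namespace Cfsg.Agent.H14
open Cfsg
open scoped commutatorElement

variable {G : Type*} [Group G] {p : ℕ} [Fact p.Prime]

/-- The commutator `[V, a]`. -/
def tvL (V : Subgroup G) (a : G) : Subgroup G := ⁅V, Subgroup.zpowers a⁆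

/-- Transvections of `H` on `V`. -/
structure Tv (p : ℕ) (V H : Subgroup G) (a : G) : Prop where
  mem : a ∈ H
  pow : a ^ p = 1
  ne : a ≠ 1
  card : Nat.card (tvL V a) = p

/-- Iterated conjugation: the multiplicative form of `(1+N)^n`. -/
lemma conj_pow_of_fix {c x y : G} (h : c * x * c⁻¹ = y * x) (hcy : c * y = y * c) (n : ℕ) :
    c ^ n * x * (c ^ n)⁻¹ = y ^ n * x := by
  induction n with
  | zero => simp
  | succ n ih =>
    have e : c ^ (n + 1) * x * (c ^ (n + 1))⁻¹ = c * (c ^ n * x * (c ^ n)⁻¹) * c⁻¹ := by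
      rw [pow_succ']; group
    rw [e, ih]
    have hcy' : c * y ^ n * c⁻¹ = y ^ n := by
      have : Commute c (y ^ n) := (show Commute c y from hcy).pow_right n
      rw [this.eq]; group
    calc c * (y ^ n * x) * c⁻¹ = (c * y ^ n * c⁻¹) * (c * x * c⁻¹) := by group
      _ = y ^ n * (y * x) := by rw [hcy', h]
      _ = y ^ (n + 1) * x := by rw [pow_succ]; group

/-- The stability step. -/
lemma fix_step {c x y : G} {n : ℕ} (hn : c ^ n = 1) (h : c * x * c⁻¹ = y * x) (hcy : c * y = y * c) :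
    y ^ n = 1 := by
  have := conj_pow_of_fix h hcy n
  rw [hn] at this
  simpa using this.symm

/-- The stability step for an element of order prime to `p`. -/
lemma fix_step_of_coprime {c x y : G} {n : ℕ} (hn : c ^ n = 1) (hcop : n.Coprime p) (hy : y ^ p = 1)
    (h : c * x * c⁻¹ = y * x) (hcy : c * y = y * c) : y = 1 := by
  have h1 := fix_step hn h hcy
  have h2 : orderOf y ∣ n := orderOf_dvd_of_pow_eq_one h1
  have h3 : orderOf y ∣ p := orderOf_dvd_of_pow_eq_one hy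
  exact orderOf_eq_one_iff.mp (Nat.eq_one_of_dvd_coprimes hcop h2 h3)

variable {V H K : Subgroup G} [Finite G]

namespace FFS

variable (hF : FFS p V H K)
include hF

lemma conj_memV {g v : G} (hg : g ∈ H) (hv : v ∈ V) : g * v * g⁻¹ ∈ V :=
  Cfsg.Agent.H02.conj_mem_of_normalizer (hF.hHV hg) hv

lemma comm_V {x y : G} (hx : x ∈ V) (hy : y ∈ V) : x * y = y * x := commV_of_ea' hF.hV x hx y hy

lemma pow_V {x : G} (hx : x ∈ V) : x ^ p = 1 := by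
  exact hF.hV.2 x hx

lemma pow_K {x : G} (hx : x ∈ K) : x ^ Nat.card K = 1 := by
  have h : (⟨x, hx⟩ : K) ^ Nat.card K = 1 := pow_card_eq_one'
  have h2 := congrArg Subtype.val h
  rwa [Subgroup.coe_pow, Subgroup.coe_one] at h2

end FFS

lemma tvL_le (hF : FFS p V H K) {a : G} (ha : a ∈ H) : tvL V a ≤ V := by
  unfold tvL
  rw [Subgroup.commutator_le]
  intro v hv g hg
  have h1 : g ∈ H := (Subgroup.zpowers_le.mpr ha) hg
  exact Cfsg.Agent.H02.comm_mem (hF.hHV h1) hv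

lemma comm_mem_tvL (hF : FFS p V H K) {a v : G} (hv : v ∈ V) : a * v * a⁻¹ * v⁻¹ ∈ tvL V a := by
  have h : ⁅v, a⁆ ∈ tvL V a := Subgroup.commutator_mem_commutator hv (Subgroup.mem_zpowers a)
  have h2 := Subgroup.inv_mem _ h
  have e : ⁅v, a⁆⁻¹ = a * v * a⁻¹ * v⁻¹ := by
    rw [commutatorElement_def]; group
  rwa [e] at h2

lemma exists_of_mem_tvL (hF : FFS p V H K) {a ℓ : G} (ha : a ∈ H) (hl : ℓ ∈ tvL V a) :
    ∃ v ∈ V, ℓ = a * v * a⁻¹ * v⁻¹ := by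
  have hc := commV_of_ea' hF.hV
  have ha' := hF.hHV ha
  unfold tvL at hl
  rw [comm_zpowers_le hc ha'] at hl
  obtain ⟨_, ⟨⟨v, hv⟩, rfl⟩, rfl⟩ := hl
  refine ⟨v⁻¹, V.inv_mem hv, ?_⟩
  change ⁅v, a⁆ = _
  rw [commutatorElement_def]
  have h1 : a * v⁻¹ * a⁻¹ ∈ V := hF.conj_memV ha (V.inv_mem hv)
  have h2 := hc _ hv _ h1
  calc v * a * v⁻¹ * a⁻¹ = v * (a * v⁻¹ * a⁻¹) := by group
    _ = a * v⁻¹ * a⁻¹ * v := h2
    _ = a * v⁻¹ * a⁻¹ * v⁻¹⁻¹ := by rw [inv_inv]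

/-- A subgroup of prime order is generated by any nontrivial element. -/
lemma mem_pow_of_prime_card {M : Subgroup G} (hM : Nat.card M = p) {ℓ m : G} (hl : ℓ ∈ M) (hl1 : ℓ ≠ 1)
    (hm : m ∈ M) : ∃ n : ℕ, m = ℓ ^ n := by
  have hle : Subgroup.zpowers ℓ ≤ M := Subgroup.zpowers_le.mpr hl
  rcases FFS.card_dvd_prime_cases (p := p) hle hM with h | h
  · exact absurd (Subgroup.zpowers_eq_bot.mp h) hl1
  · rw [← h, ← mem_powers_iff_mem_zpowers] at hm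
    obtain ⟨n, rfl⟩ := Submonoid.mem_powers_iff _ _ |>.mp hm
    exact ⟨n, rfl⟩

lemma zpowers_eq_of_prime_card {M : Subgroup G} (hM : Nat.card M = p) {ℓ : G} (hl : ℓ ∈ M) (hl1 : ℓ ≠ 1) :
    Subgroup.zpowers ℓ = M := by
  have hle : Subgroup.zpowers ℓ ≤ M := Subgroup.zpowers_le.mpr hl
  rcases FFS.card_dvd_prime_cases (p := p) hle hM with h | h
  · exact absurd (Subgroup.zpowers_eq_bot.mp h) hl1
  · exact h

lemma eq_bot_or_of_inf {M N : Subgroup G} (hM : Nat.card M = p) {ℓ : G} (hl : ℓ ∈ M) (hl1 : ℓ ≠ 1) (hlN : ℓ ∈ N) :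
    M ≤ N := by
  rw [← zpowers_eq_of_prime_card hM hl hl1]
  exact Subgroup.zpowers_le.mpr hlN

/-- A transvection fixes its centre. -/
lemma tvL_fix (hF : FFS p V H K) {a ℓ : G} (ha : Tv p V H a) (hl : ℓ ∈ tvL V a) : a * ℓ = ℓ * a := by
  classical
  have hp : p.Prime := Fact.out
  by_cases hl1 : ℓ = 1
  · simp [hl1]
  have hlV := tvL_le hF ha.mem hl
  have h1 : a * ℓ * a⁻¹ ∈ tvL V a := by
    have h2 := comm_mem_tvL hF (a := a) hlV
    have h3 := Subgroup.mul_mem _ h2 hl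
    have e : a * ℓ * a⁻¹ * ℓ⁻¹ * ℓ = a * ℓ * a⁻¹ := by group
    rwa [e] at h3
  obtain ⟨k, hk⟩ := mem_pow_of_prime_card ha.card hl hl1 h1
  have hord : orderOf ℓ = p := orderOf_eq_prime (hF.pow_V hlV) hl1
  have hpow : ∀ n : ℕ, a ^ n * ℓ * (a ^ n)⁻¹ = ℓ ^ (k ^ n) := by
    intro n
    induction n with
    | zero => simp
    | succ n ih =>
      have e : a ^ (n + 1) * ℓ * (a ^ (n + 1))⁻¹ = a ^ n * (a * ℓ * a⁻¹) * (a ^ n)⁻¹ := by
        rw [pow_succ]; group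
      rw [e, hk, pow_succ k n, pow_mul]
      have : a ^ n * ℓ ^ k * (a ^ n)⁻¹ = (a ^ n * ℓ * (a ^ n)⁻¹) ^ k := by
        rw [conj_pow]
      rw [this, ih]
  have h2 := hpow p
  rw [ha.pow, one_mul, inv_one, mul_one] at h2
  have h3 : k ^ p ≡ k [MOD p] := by
    have := ZMod.natCast_eq_natCast_iff (k ^ p) k p
    rw [← this]
    push_cast
    exact ZMod.pow_card _
  have h4 : ℓ ^ (k ^ p) = ℓ ^ k := by
    rw [pow_eq_pow_iff_modEq, hord]
    exact h3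
  have h5 : a * ℓ * a⁻¹ = ℓ := by rw [hk, ← h4, ← h2]
  calc a * ℓ = a * ℓ * a⁻¹ * a := by group
    _ = ℓ * a := by rw [h5]

lemma tvL_conj (hF : FFS p V H K) {g a : G} (hg : g ∈ H) :
    tvL V (g * a * g⁻¹) = (tvL V a).map (MulAut.conj g).toMonoidHom := by
  unfold tvL
  rw [Subgroup.map_commutator]
  have h1 : V.map (MulAut.conj g).toMonoidHom = V := by
    exact Subgroup.mem_normalizer_iff_map_conj_eq.mp (hF.hHV hg)
  rw [h1]
  congr 1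
  rw [MonoidHom.map_zpowers]
  rfl


lemma Tv.conj (hF : FFS p V H K) {g a : G} (ha : Tv p V H a) (hg : g ∈ H) : Tv p V H (g * a * g⁻¹) := by
  refine ⟨H.mul_mem (H.mul_mem hg ha.mem) (H.inv_mem hg), ?_, ?_, ?_⟩
  · rw [conj_pow, ha.pow]; group
  · intro h
    apply ha.ne
    have : a = g⁻¹ * (g * a * g⁻¹) * g := by group
    rw [this, h]; group
  · rw [tvL_conj hF hg]
    rw [← ha.card]
    exact Nat.card_congr (Subgroup.equivMapOfInjective _ _ (MulAut.conj g).injective).toEquiv.symm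

/-- Membership of a conjugated centre. -/
lemma conj_mem_tvL (hF : FFS p V H K) {g a ℓ : G} (hg : g ∈ H) (hl : ℓ ∈ tvL V a) :
    g * ℓ * g⁻¹ ∈ tvL V (g * a * g⁻¹) := by
  rw [tvL_conj hF hg]
  exact ⟨ℓ, hl, rfl⟩

/-- Two transvections whose centres lie in each other's axes commute. -/
lemma tv_comm (hF : FFS p V H K) {s t : G} (hs : s ∈ H) (ht : t ∈ H)
    (h1 : ∀ ℓ ∈ tvL V s, t * ℓ = ℓ * t) (h2 : ∀ m ∈ tvL V t, s * m = m * s) : s * t = t * s := by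
  have key : (s * t)⁻¹ * (t * s) = 1 := by
    apply hF.eq_one_of_comm_V (H.mul_mem (H.inv_mem (H.mul_mem hs ht)) (H.mul_mem ht hs))
    intro v hv
    obtain ⟨ℓ, hℓ⟩ : ∃ ℓ, ℓ = s * v * s⁻¹ * v⁻¹ := ⟨_, rfl⟩
    obtain ⟨m, hm⟩ : ∃ m, m = t * v * t⁻¹ * v⁻¹ := ⟨_, rfl⟩
    have hlL : ℓ ∈ tvL V s := hℓ ▸ comm_mem_tvL hF hv
    have hmL : m ∈ tvL V t := hm ▸ comm_mem_tvL hF hv
    have hlV := tvL_le hF hs hlL
    have hmV := tvL_le hF ht hmL
    have e1 : s * v * s⁻¹ = ℓ * v := by rw [hℓ]; group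
    have e2 : t * v * t⁻¹ = m * v := by rw [hm]; group
    have e3 : s * (t * v * t⁻¹) * s⁻¹ = m * (ℓ * v) := by
      rw [e2]
      calc s * (m * v) * s⁻¹ = (s * m) * s⁻¹ * (s * v * s⁻¹) := by group
        _ = m * s * s⁻¹ * (s * v * s⁻¹) := by rw [h2 m hmL]
        _ = m * (ℓ * v) := by rw [e1]; group
    have e4 : t * (s * v * s⁻¹) * t⁻¹ = ℓ * (m * v) := by
      rw [e1]
      calc t * (ℓ * v) * t⁻¹ = (t * ℓ) * t⁻¹ * (t * v * t⁻¹) := by group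
        _ = ℓ * t * t⁻¹ * (t * v * t⁻¹) := by rw [h1 ℓ hlL]
        _ = ℓ * (m * v) := by rw [e2]; group
    have e5 : m * (ℓ * v) = ℓ * (m * v) := by
      rw [← mul_assoc, ← mul_assoc, hF.comm_V hmV hlV]
    have e6 : (s * t) * v * (s * t)⁻¹ = (t * s) * v * (t * s)⁻¹ := by
      have a1 : (s * t) * v * (s * t)⁻¹ = s * (t * v * t⁻¹) * s⁻¹ := by group
      have a2 : (t * s) * v * (t * s)⁻¹ = t * (s * v * s⁻¹) * t⁻¹ := by group
      rw [a1, a2, e3, e4, e5]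
    calc v * ((s * t)⁻¹ * (t * s)) = (s * t)⁻¹ * ((s * t) * v * (s * t)⁻¹) * (t * s) := by group
      _ = (s * t)⁻¹ * ((t * s) * v * (t * s)⁻¹) * (t * s) := by rw [e6]
      _ = (s * t)⁻¹ * (t * s) * v := by group
  exact inv_mul_eq_one.mp key

/-- The `p'`-stability used below. -/
lemma K_fix_step (hF : FFS p V H K) {c x y : G} (hc : c ∈ K) (hy : y ∈ V)
    (h : c * x * c⁻¹ = y * x) (hcy : c * y = y * c) : y = 1 :=
  fix_step_of_coprime (hF.pow_K hc) hF.hKc (hF.pow_V hy) h hcy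

/-- An element of `K` stabilizing a chain acts trivially. -/
lemma K_fix_step' (hF : FFS p V H K) {c x : G} (hc : c ∈ K) (hx : x ∈ V)
    (hy : c * (c * x * c⁻¹ * x⁻¹) = (c * x * c⁻¹ * x⁻¹) * c) : c * x = x * c := by
  have hcH := hF.hKH hc
  have hV1 : c * x * c⁻¹ * x⁻¹ ∈ V := V.mul_mem (hF.conj_memV hcH hx) (V.inv_mem hx)
  have h1 := K_fix_step hF hc hV1 (x := x) (by group) hy
  calc c * x = (c * x * c⁻¹ * x⁻¹) * x * c := by group
    _ = x * c := by rw [h1, one_mul]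

/-- A transvection conjugate under `K`. -/
def Tset (K : Subgroup G) (a : G) : Set G := {t | ∃ k ∈ K, t = k * a * k⁻¹}

lemma self_mem_Tset (a : G) : a ∈ Tset K a := ⟨1, K.one_mem, by simp⟩

lemma conj_mem_K (hF : FFS p V H K) {g k : G} (hg : g ∈ H) (hk : k ∈ K) : g * k * g⁻¹ ∈ K :=
  Cfsg.Agent.H02.conj_mem_of_normalizer (hF.hKn hg) hk

lemma Tset_inv_mul_mem (hF : FFS p V H K) {a s t : G} (ha : a ∈ H) (hs : s ∈ Tset K a) (ht : t ∈ Tset K a) :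
    t⁻¹ * s ∈ K := by
  obtain ⟨k, hk, rfl⟩ := hs
  obtain ⟨m, hm, rfl⟩ := ht
  have h1 : a⁻¹ * (m⁻¹ * k) * a⁻¹⁻¹ ∈ K := conj_mem_K hF (H.inv_mem ha) (K.mul_mem (K.inv_mem hm) hk)
  have e : (m * a * m⁻¹)⁻¹ * (k * a * k⁻¹) = m * (a⁻¹ * (m⁻¹ * k) * a⁻¹⁻¹) * k⁻¹ := by group
  rw [e]
  exact K.mul_mem (K.mul_mem hm h1) (K.inv_mem hk)

lemma Tset_tv (hF : FFS p V H K) {a t : G} (ha : Tv p V H a) (ht : t ∈ Tset K a) : Tv p V H t := by
  obtain ⟨k, hk, rfl⟩ := ht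
  exact ha.conj hF (hF.hKH hk)

/-- **Distinctness**: `s, t` congruent mod `K`, with the centre of `s` in the axis of `t`, are equal. -/
lemma tv_distinct (hF : FFS p V H K) {s t : G} (hs : Tv p V H s) (ht : Tv p V H t) (hK : t⁻¹ * s ∈ K)
    (h : ∀ ℓ ∈ tvL V s, t * ℓ = ℓ * t) : s = t := by
  have hfs := fun ℓ hl => tvL_fix hF hs (ℓ := ℓ) hl
  have hft := fun ℓ hl => tvL_fix hF ht (ℓ := ℓ) hl
  have ht1 := fun ℓ hl => h ℓ hl
  have hti : ∀ ℓ ∈ tvL V s, t⁻¹ * ℓ = ℓ * t⁻¹ := by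
    intro ℓ hl
    have := ht1 ℓ hl
    calc t⁻¹ * ℓ = t⁻¹ * (ℓ * t) * t⁻¹ := by group
      _ = t⁻¹ * (t * ℓ) * t⁻¹ := by rw [this]
      _ = ℓ * t⁻¹ := by group
  have hti' : ∀ ℓ ∈ tvL V t, t⁻¹ * ℓ = ℓ * t⁻¹ := by
    intro ℓ hl
    have := hft ℓ hl
    calc t⁻¹ * ℓ = t⁻¹ * (ℓ * t) * t⁻¹ := by group
      _ = t⁻¹ * (t * ℓ) * t⁻¹ := by rw [this]
      _ = ℓ * t⁻¹ := by group
  -- `c` fixes the centre of `s`
  have hc1 : ∀ ℓ ∈ tvL V s, (t⁻¹ * s) * ℓ = ℓ * (t⁻¹ * s) := by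
    intro ℓ hl
    rw [mul_assoc, hfs ℓ hl, ← mul_assoc, hti ℓ hl, mul_assoc]
  -- `c` fixes the centre of `t`
  have hc2 : ∀ m ∈ tvL V t, (t⁻¹ * s) * m = m * (t⁻¹ * s) := by
    intro m hm
    have hmV := tvL_le hF ht.mem hm
    obtain ⟨ℓ, hℓ⟩ : ∃ ℓ, ℓ = s * m * s⁻¹ * m⁻¹ := ⟨_, rfl⟩
    have hl : ℓ ∈ tvL V s := hℓ ▸ comm_mem_tvL hF hmV
    have e1 : s * m * s⁻¹ = ℓ * m := by rw [hℓ]; group
    have e2 : (t⁻¹ * s) * m * (t⁻¹ * s)⁻¹ = ℓ * m := by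
      calc (t⁻¹ * s) * m * (t⁻¹ * s)⁻¹ = t⁻¹ * (s * m * s⁻¹) * t := by group
        _ = t⁻¹ * ℓ * m * t := by rw [e1]; group
        _ = ℓ * t⁻¹ * m * t := by rw [hti ℓ hl]
        _ = ℓ * (t⁻¹ * m) * t := by group
        _ = ℓ * (m * t⁻¹) * t := by rw [hti' m hm]
        _ = ℓ * m := by group
    have h1 := K_fix_step hF hK (tvL_le hF hs.mem hl) e2 (hc1 ℓ hl)
    have e3 : (t⁻¹ * s) * m * (t⁻¹ * s)⁻¹ = m := by rw [e2, h1, one_mul]
    calc (t⁻¹ * s) * m = (t⁻¹ * s) * m * (t⁻¹ * s)⁻¹ * (t⁻¹ * s) := by group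
      _ = m * (t⁻¹ * s) := by rw [e3]
  -- `c` fixes `V`
  have hc3 : (t⁻¹ * s) = 1 := by
    apply hF.eq_one_of_comm_V (H.mul_mem (H.inv_mem ht.mem) hs.mem)
    intro v hv
    obtain ⟨ℓ, hℓ⟩ : ∃ ℓ, ℓ = s * v * s⁻¹ * v⁻¹ := ⟨_, rfl⟩
    have hl : ℓ ∈ tvL V s := hℓ ▸ comm_mem_tvL hF hv
    obtain ⟨m, hm⟩ : ∃ m, m = t⁻¹ * v * t⁻¹⁻¹ * v⁻¹ := ⟨_, rfl⟩
    have hm' : m ∈ tvL V t := by
      have h1 : ⁅v, t⁻¹⁆ ∈ tvL V t := Subgroup.commutator_mem_commutator hv (Subgroup.inv_mem _ (Subgroup.mem_zpowers t))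
      have h2 := Subgroup.inv_mem _ h1
      have e : ⁅v, t⁻¹⁆⁻¹ = m := by rw [commutatorElement_def, hm]; group
      rwa [e] at h2
    have e1 : s * v * s⁻¹ = ℓ * v := by rw [hℓ]; group
    have e2 : t⁻¹ * v * t = m * v := by rw [hm]; group
    have e3 : (t⁻¹ * s) * v * (t⁻¹ * s)⁻¹ = (ℓ * m) * v := by
      calc (t⁻¹ * s) * v * (t⁻¹ * s)⁻¹ = t⁻¹ * (s * v * s⁻¹) * t := by group
        _ = t⁻¹ * ℓ * v * t := by rw [e1]; group
        _ = ℓ * t⁻¹ * v * t := by rw [hti ℓ hl]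
        _ = ℓ * (t⁻¹ * v * t) := by group
        _ = (ℓ * m) * v := by rw [e2]; group
    have hy : (t⁻¹ * s) * (ℓ * m) = (ℓ * m) * (t⁻¹ * s) := by
      rw [← mul_assoc, hc1 ℓ hl, mul_assoc, hc2 m hm', ← mul_assoc]
    have hyV : ℓ * m ∈ V := V.mul_mem (tvL_le hF hs.mem hl) (tvL_le hF ht.mem hm')
    have h1 := K_fix_step hF hK hyV e3 hy
    have e4 : (t⁻¹ * s) * v * (t⁻¹ * s)⁻¹ = v := by rw [e3, h1, one_mul]
    calc v * (t⁻¹ * s) = (t⁻¹ * s) * v * (t⁻¹ * s)⁻¹ * (t⁻¹ * s) := by rw [e4]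
      _ = (t⁻¹ * s) * v := by group
  exact (inv_mul_eq_one.mp hc3).symm

/-- The data of a pair of transvections in `a^K` not commuting. -/
structure PD (p : ℕ) (V H K : Subgroup G) (a b u w : G) (c : ℕ) : Prop where
  ta : Tv p V H a
  tb : Tv p V H b
  hba : b ∈ Tset K a
  hu : u ∈ tvL V a
  hw : w ∈ tvL V b
  hu1 : u ≠ 1
  hw1 : w ≠ 1
  hau : a * w * a⁻¹ = u * w
  hbu : b * u * b⁻¹ = w ^ c * u
  hc : (c : ZMod p) ≠ 0

theorem exists_PD (hF : FFS p V H K) {a x : G} (ha : Tv p V H a) (hx : x ∈ K) (hax : a * x ≠ x * a) :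
    ∃ u w c, PD p V H K a (x * a * x⁻¹) u w c := by
  have hxH := hF.hKH hx
  have hb := ha.conj hF hxH (g := x)
  have hbT : x * a * x⁻¹ ∈ Tset K a := ⟨x, hx, rfl⟩
  obtain ⟨b, hbdef⟩ : ∃ b, b = x * a * x⁻¹ := ⟨_, rfl⟩
  rw [← hbdef] at hb hbT ⊢
  have hab : a ≠ b := by
    intro h
    apply hax
    rw [hbdef] at h
    calc a * x = x * a * x⁻¹ * x := by rw [← h]
      _ = x * a := by group
  have h1 : ¬ ∀ ℓ ∈ tvL V a, b * ℓ = ℓ * b := fun h =>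
    hab (tv_distinct hF ha hb (Tset_inv_mul_mem hF ha.mem (self_mem_Tset a) hbT) h)
  have h2 : ¬ ∀ m ∈ tvL V b, a * m = m * a := fun h =>
    hab (tv_distinct hF hb ha (Tset_inv_mul_mem hF ha.mem hbT (self_mem_Tset a)) h).symm
  push Not at h1 h2
  obtain ⟨w, hw, haw⟩ := h2
  obtain ⟨ℓ, hl, hbl⟩ := h1
  have hwV := tvL_le hF hb.mem hw
  have hw1 : w ≠ 1 := by
    rintro rfl
    simp at haw
  obtain ⟨u, hudef⟩ : ∃ u, u = a * w * a⁻¹ * w⁻¹ := ⟨_, rfl⟩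
  have hu : u ∈ tvL V a := hudef ▸ comm_mem_tvL hF hwV
  have huV := tvL_le hF ha.mem hu
  have hu1 : u ≠ 1 := by
    intro h
    rw [h] at hudef
    apply haw
    have : a * w * a⁻¹ = w := by
      have e : a * w * a⁻¹ = (a * w * a⁻¹ * w⁻¹) * w := by group
      rw [e, ← hudef, one_mul]
    calc a * w = a * w * a⁻¹ * a := by group
      _ = w * a := by rw [this]
  have hbu : b * u ≠ u * b := by
    intro h
    obtain ⟨n, rfl⟩ := mem_pow_of_prime_card ha.card hu hu1 hl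
    exact hbl ((show Commute b u from h).pow_right n).eq
  obtain ⟨y, hydef⟩ : ∃ y, y = b * u * b⁻¹ * u⁻¹ := ⟨_, rfl⟩
  have hy : y ∈ tvL V b := hydef ▸ comm_mem_tvL hF huV
  have hy1 : y ≠ 1 := by
    intro h
    rw [h] at hydef
    apply hbu
    have : b * u * b⁻¹ = u := by
      have e : b * u * b⁻¹ = (b * u * b⁻¹ * u⁻¹) * u := by group
      rw [e, ← hydef, one_mul]
    calc b * u = b * u * b⁻¹ * b := by group
      _ = u * b := by rw [this]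
  obtain ⟨c, hc⟩ := mem_pow_of_prime_card hb.card hw hw1 hy
  refine ⟨u, w, c, ha, hb, hbT, hu, hw, hu1, hw1, ?_, ?_, ?_⟩
  · rw [hudef]; group
  · rw [← hc, hydef]; group
  · intro h0
    apply hy1
    rw [hc]
    obtain ⟨d, rfl⟩ := (ZMod.natCast_eq_zero_iff c p).mp h0
    rw [pow_mul, hF.pow_V hwV, one_pow]

namespace PD

variable {a b u w : G} {c : ℕ} (hF : FFS p V H K) (hP : PD p V H K a b u w c)
include hF hP

lemma uV : u ∈ V := tvL_le hF hP.ta.mem hP.hu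
lemma wV : w ∈ V := tvL_le hF hP.tb.mem hP.hw

lemma au : a * u = u * a := tvL_fix hF hP.ta hP.hu
lemma bw : b * w = w * b := tvL_fix hF hP.tb hP.hw

lemma zp_a : Subgroup.zpowers u = tvL V a := zpowers_eq_of_prime_card hP.ta.card hP.hu hP.hu1
lemma zp_b : Subgroup.zpowers w = tvL V b := zpowers_eq_of_prime_card hP.tb.card hP.hw hP.hw1

lemma ordw : orderOf w = p := orderOf_eq_prime (hF.pow_V (hP.wV hF)) hP.hw1
lemma ordu : orderOf u = p := orderOf_eq_prime (hF.pow_V (hP.uV hF)) hP.hu1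

lemma ba_mem : b * a⁻¹ ∈ K := by
  obtain ⟨k, hk, h⟩ := hP.hba
  have h1 : a * k⁻¹ * a⁻¹ ∈ K := conj_mem_K hF hP.ta.mem (K.inv_mem hk)
  have e : b * a⁻¹ = k * (a * k⁻¹ * a⁻¹) := by rw [h]; group
  rw [e]
  exact K.mul_mem hk h1

/-- `y := w^c ≠ 1`. -/
lemma y_ne : w ^ c ≠ 1 := by
  intro h
  apply hP.hc
  have h1 := orderOf_dvd_of_pow_eq_one h
  rw [hP.ordw hF] at h1
  exact (ZMod.natCast_eq_zero_iff c p).mpr h1

/-- `b` moves `u`. -/
lemma b_moves_u : b * u ≠ u * b := by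
  intro h
  have h1 : b * u * b⁻¹ = u := by rw [h]; group
  rw [hP.hbu] at h1
  exact hP.y_ne hF (by simpa using h1)

lemma a_moves_w : a * w ≠ w * a := by
  intro h
  have h1 : a * w * a⁻¹ = w := by rw [h]; group
  rw [hP.hau] at h1
  exact hP.hu1 (by simpa using h1)

end PD

end Cfsg.Agent.H14
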