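import Mathlib
import Cfsg.Agent.Lib.Lead.DicksonSL
/-! A group acting faithfully on a plane through two "root" elements is `SL₂(p)`. -/
set_option autoImplicit false
set_option linter.unusedSectionVars false
set_option linter.unusedVariables false
set_option linter.style.longLine false
namespace Cfsg.Agent.H14
open Matrix MatrixGroups
open Cfsg.Agent.Lead.DicksonSL (xE yE closure_xy)

theorem sl2_iso_of_module {Γ A : Type*} [Group Γ] [AddCommGroup A] [Finite A] (p : ℕ) [Fact p.Prime]
    [Module (ZMod p) A] (hcard : Nat.card A = p ^ 2)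
    (act : Γ →* Module.End (ZMod p) A) (hρ : Function.Injective act) (a b : Γ)
    (hgen : ∀ S : Subgroup Γ, a ∈ S → b ∈ S → S = ⊤)
    (U X : A) (c : ZMod p) (hc : c ≠ 0) (hU : U ≠ 0)
    (haU : act a U = U) (haX : act a X = U + X) (hbX : act b X = X) (hbU : act b U = c • X + U) :
    ∃ φ : Γ ≃* SL(2, ZMod p), φ a = xE 1 ∧ φ b = yE c := by
  classical
  have hp : p.Prime := Fact.out
  haveI : Module.Finite (ZMod p) A := Module.Finite.of_finite
  -- linear independence
  have hli : LinearIndependent (ZMod p) ![U, X] := by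
    rw [LinearIndependent.pair_iff]
    intro s t hst
    have h5 := congrArg (act a) hst
    rw [map_add, map_smul, map_smul, haU, haX, map_zero] at h5
    have h6 : t • U = 0 := by
      have : s • U + t • (U + X) - (s • U + t • X) = t • U := by
        rw [smul_add]; abel
      rw [← this, h5, hst, sub_zero]
    have ht : t = 0 := by
      rcases smul_eq_zero.mp h6 with h | h
      · exact h
      · exact absurd h hU
    rw [ht, zero_smul, add_zero] at hst
    refine ⟨?_, ht⟩
    rcases smul_eq_zero.mp hst with h | h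
    · exact h
    · exact absurd h hU
  have hfin : Module.finrank (ZMod p) A = 2 := by
    have h5 := Module.natCard_eq_pow_finrank (K := ZMod p) (V := A)
    rw [hcard, Nat.card_eq_fintype_card, ZMod.card] at h5
    exact (Nat.pow_right_injective hp.two_le h5).symm
  let B : Module.Basis (Fin 2) (ZMod p) A :=
    basisOfLinearIndependentOfCardEqFinrank hli (by simp [hfin])
  have hB0 : B 0 = U := by simp [B]
  have hB1 : B 1 = X := by simp [B]
  let M : Γ → Matrix (Fin 2) (Fin 2) (ZMod p) := fun g => LinearMap.toMatrix B B (act g)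
  have M_one : M 1 = 1 := by
    change LinearMap.toMatrix B B (act 1) = 1
    rw [map_one]
    exact LinearMap.toMatrix_id B
  have M_mul : ∀ g h, M (g * h) = M g * M h := by
    intro g h
    change LinearMap.toMatrix B B (act (g * h)) = _
    rw [map_mul]
    exact LinearMap.toMatrix_comp B B B _ _
  have hr00 : B.repr U 0 = 1 := by rw [← hB0, B.repr_self]; simp
  have hr01 : B.repr U 1 = 0 := by rw [← hB0, B.repr_self]; simp
  have hr10 : B.repr X 0 = 0 := by rw [← hB1, B.repr_self]; simp
  have hr11 : B.repr X 1 = 1 := by rw [← hB1, B.repr_self]; simp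
  have Ma : M a = !![1, 1; 0, 1] := by
    ext i j
    change LinearMap.toMatrix B B (act a) i j = _
    rw [LinearMap.toMatrix_apply]
    fin_cases i <;> fin_cases j <;> simp [hB0, hB1, haU, haX, hr00, hr01, hr10, hr11]
  have Mb : M b = !![1, 0; c, 1] := by
    ext i j
    change LinearMap.toMatrix B B (act b) i j = _
    rw [LinearMap.toMatrix_apply]
    fin_cases i <;> fin_cases j <;> simp [hB0, hB1, hbU, hbX, hr00, hr01, hr10, hr11]
  -- determinants
  let S : Subgroup Γ :=
    { carrier := {g | (M g).det = 1}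
      one_mem' := by
        change (M 1).det = 1
        rw [M_one, det_one]
      mul_mem' := by
        intro g h hg hh
        change (M (g * h)).det = 1
        rw [M_mul, det_mul, show (M g).det = 1 from hg, show (M h).det = 1 from hh, one_mul]
      inv_mem' := by
        intro g hg
        change (M g⁻¹).det = 1
        have h5 : (M g⁻¹).det * (M g).det = 1 := by
          rw [← det_mul, ← M_mul, inv_mul_cancel, M_one, det_one]
        rwa [show (M g).det = 1 from hg, mul_one] at h5 }
  have hS : S = ⊤ := hgen S (by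
      change (M a).det = 1
      rw [Ma]; simp [det_fin_two]) (by
      change (M b).det = 1
      rw [Mb]; simp [det_fin_two])
  have hdet : ∀ g, (M g).det = 1 := by
    intro g
    have : g ∈ S := by rw [hS]; trivial
    exact this
  let m : Γ →* SL(2, ZMod p) :=
    { toFun := fun g => ⟨M g, hdet g⟩
      map_one' := Subtype.ext M_one
      map_mul' := fun g h => Subtype.ext (M_mul g h) }
  have hinj : Function.Injective m := by
    intro g h hgh
    have h5 : M g = M h := congrArg Subtype.val hgh
    have h6 : act g = act h := (LinearMap.toMatrix B B).injective h5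
    exact hρ h6
  have hma : m a = xE 1 := Subtype.ext Ma
  have hmb : m b = yE c := Subtype.ext Mb
  have hsurj : Function.Surjective m := by
    intro g
    have h5 : m.range = ⊤ := by
      rw [eq_top_iff, ← closure_xy p c hc, Subgroup.closure_le]
      rintro _ (rfl | rfl)
      · exact ⟨a, hma⟩
      · exact ⟨b, hmb⟩
    have : g ∈ m.range := by rw [h5]; trivial
    exact this
  exact ⟨MulEquiv.ofBijective m ⟨hinj, hsurj⟩, hma, hmb⟩

theorem sl2_iso_of_plane_aux {Γ W : Type*} [Group Γ] [CommGroup W] [Finite W] (p : ℕ) [Fact p.Prime]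
    [Module (ZMod p) (Additive W)] (hcard : Nat.card W = p ^ 2)
    (ρ : Γ →* MulAut W) (hρ : Function.Injective ρ) (a b : Γ)
    (hgen : ∀ S : Subgroup Γ, a ∈ S → b ∈ S → S = ⊤)
    (u w : W) (c : ℕ) (hc : (c : ZMod p) ≠ 0) (hu1 : u ≠ 1)
    (h1 : ρ a u = u) (h2 : ρ a w = u * w) (h3 : ρ b w = w) (h4 : ρ b u = w ^ c * u) :
    ∃ φ : Γ ≃* SL(2, ZMod p), φ a = xE 1 ∧ φ b = yE (c : ZMod p) := by
  classical
  let act : Γ →* Module.End (ZMod p) (Additive W) :=
    { toFun := fun g => (MonoidHom.toAdditive (ρ g).toMonoidHom).toZModLinearMap p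
      map_one' := by
        refine LinearMap.ext fun x => ?_
        change Additive.ofMul (ρ 1 (Additive.toMul x)) = x
        rw [map_one]; rfl
      map_mul' := fun g h => by
        refine LinearMap.ext fun x => ?_
        change Additive.ofMul (ρ (g * h) (Additive.toMul x)) = Additive.ofMul (ρ g (ρ h (Additive.toMul x)))
        rw [map_mul]; rfl }
  have hact : Function.Injective act := by
    intro g h hgh
    apply hρ
    ext x
    have := LinearMap.congr_fun hgh (Additive.ofMul x)
    exact Additive.ofMul.injective this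
  refine sl2_iso_of_module p (by rw [show Nat.card (Additive W) = Nat.card W from Nat.card_congr Additive.toMul, hcard]) act hact a b hgen (Additive.ofMul u) (Additive.ofMul w) (c : ZMod p) hc
    (fun h => hu1 (Additive.ofMul.injective h)) ?_ ?_ ?_ ?_
  · change Additive.ofMul (ρ a u) = _
    rw [h1]
  · change Additive.ofMul (ρ a w) = _
    rw [h2]; rfl
  · change Additive.ofMul (ρ b w) = _
    rw [h3]
  · change Additive.ofMul (ρ b u) = _
    rw [h4, ofMul_mul, ofMul_pow, Nat.cast_smul_eq_nsmul]

/-- The multiplicative form. -/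
theorem sl2_iso_of_plane {Γ W : Type*} [Group Γ] [CommGroup W] [Finite W] (p : ℕ) [Fact p.Prime]
    (hexp : ∀ x : W, x ^ p = 1) (hcard : Nat.card W = p ^ 2)
    (ρ : Γ →* MulAut W) (hρ : Function.Injective ρ) (a b : Γ)
    (hgen : ∀ S : Subgroup Γ, a ∈ S → b ∈ S → S = ⊤)
    (u w : W) (c : ℕ) (hc : (c : ZMod p) ≠ 0) (hu1 : u ≠ 1)
    (h1 : ρ a u = u) (h2 : ρ a w = u * w) (h3 : ρ b w = w) (h4 : ρ b u = w ^ c * u) :
    ∃ φ : Γ ≃* SL(2, ZMod p), φ a = xE 1 ∧ φ b = yE (c : ZMod p) := by
  letI instM : Module (ZMod p) (Additive W) := AddCommGroup.zmodModule (n := p) (fun x => by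
    change Additive.ofMul (Additive.toMul x ^ p) = 0
    rw [hexp]; rfl)
  exact sl2_iso_of_plane_aux p hcard ρ hρ a b hgen u w c hc hu1 h1 h2 h3 h4

/-- The version for a group given as abelian by a hypothesis. -/
theorem sl2_iso_of_plane' {Γ W : Type*} [Group Γ] [Group W] [Finite W] (p : ℕ) [Fact p.Prime]
    (hcomm : ∀ x y : W, x * y = y * x)
    (hexp : ∀ x : W, x ^ p = 1) (hcard : Nat.card W = p ^ 2)
    (ρ : Γ →* MulAut W) (hρ : Function.Injective ρ) (a b : Γ)
    (hgen : ∀ S : Subgroup Γ, a ∈ S → b ∈ S → S = ⊤)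
    (u w : W) (c : ℕ) (hc : (c : ZMod p) ≠ 0) (hu1 : u ≠ 1)
    (h1 : ρ a u = u) (h2 : ρ a w = u * w) (h3 : ρ b w = w) (h4 : ρ b u = w ^ c * u) :
    ∃ φ : Γ ≃* SL(2, ZMod p), φ a = xE 1 ∧ φ b = yE (c : ZMod p) := by
  letI instC : CommGroup W := { (inferInstance : Group W) with mul_comm := hcomm }
  exact sl2_iso_of_plane p hexp hcard ρ hρ a b hgen u w c hc hu1 h1 h2 h3 h4

end Cfsg.Agent.H14
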