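import Mathlib
import Cfsg.Agent.Lib.H14.BO2
import Cfsg.Agent.Lib.H14.BOSL
/-! The plane spanned by two transvection centres. -/
set_option autoImplicit false
set_option linter.unusedSectionVars false
set_option linter.unusedVariables false
set_option linter.style.longLine false
namespace Cfsg.Agent.H14
open Cfsg
open scoped commutatorElement
open Matrix MatrixGroups
open Cfsg.Agent.Lead.DicksonSL (xE yE)
open Cfsg.Agent.H14 (e00 e01 e10 e11 sl_ext e00_mul e01_mul e10_mul e11_mul)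

variable {G : Type*} [Group G] {p : ℕ} [Fact p.Prime]

/-- The stabilizer of the chain `V ≥ W`. -/
def Stb (V W : Subgroup G) (hW : W ≤ V) : Subgroup G where
  carrier := {g | g ∈ Subgroup.normalizer (V : Set G) ∧ ∀ v ∈ V, g * v * g⁻¹ * v⁻¹ ∈ W}
  one_mem' := ⟨Subgroup.one_mem _, fun v _ => by simp⟩
  mul_mem' := by
    rintro g h ⟨hg, hgW⟩ ⟨hh, hhW⟩
    refine ⟨Subgroup.mul_mem _ hg hh, fun v hv => ?_⟩
    have hm := hhW v hv
    have h1 := hgW _ (hW hm)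
    have h2 := hgW v hv
    obtain ⟨m, hmdef⟩ : ∃ m, m = h * v * h⁻¹ * v⁻¹ := ⟨_, rfl⟩
    rw [← hmdef] at hm h1
    have e : g * h * v * (g * h)⁻¹ * v⁻¹ = (g * m * g⁻¹ * m⁻¹) * m * (g * v * g⁻¹ * v⁻¹) := by
      rw [hmdef]; group
    rw [e]
    exact W.mul_mem (W.mul_mem h1 hm) h2
  inv_mem' := by
    rintro g ⟨hg, hgW⟩
    refine ⟨Subgroup.inv_mem _ hg, fun v hv => ?_⟩
    have h1 : g⁻¹ * v * g⁻¹⁻¹ ∈ V := Cfsg.Agent.H02.conj_mem_of_normalizer (Subgroup.inv_mem _ hg) hv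
    have h2 := hgW _ h1
    have h3 := W.inv_mem h2
    have e : (g * (g⁻¹ * v * g⁻¹⁻¹) * g⁻¹ * (g⁻¹ * v * g⁻¹⁻¹)⁻¹)⁻¹ = g⁻¹ * v * g⁻¹⁻¹ * v⁻¹ := by group
    rwa [e] at h3

lemma conj_mem_of_stb {V W : Subgroup G} {g x : G} (hW : W ≤ V) (hg : ∀ v ∈ V, g * v * g⁻¹ * v⁻¹ ∈ W) (hx : x ∈ W) :
    g * x * g⁻¹ ∈ W := by
  have h1 := W.mul_mem (hg x (hW hx)) hx
  have e : g * x * g⁻¹ * x⁻¹ * x = g * x * g⁻¹ := by group
  rwa [e] at h1

variable {V H K : Subgroup G} [Finite G]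

/-- Subgroups of an abelian group normalize each other. -/
lemma le_normalizer_of_comm {X Y : Subgroup G} (h : ∀ x ∈ X, ∀ y ∈ Y, x * y = y * x) :
    Y ≤ Subgroup.normalizer (X : Set G) := by
  intro y hy
  apply Cfsg.Agent.H19.mem_normalizer_of_conj_le
  intro x hx
  rw [← h x hx y hy]
  simpa using hx

/-- The plane. -/
def plW (V : Subgroup G) (a b : G) : Subgroup G := tvL V a ⊔ tvL V b

/-- The group generated by the two transvections. -/
def plE (a b : G) : Subgroup G := Subgroup.zpowers a ⊔ Subgroup.zpowers b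

lemma left_mem_plE (a b : G) : a ∈ plE a b := (le_sup_left : Subgroup.zpowers a ≤ plE a b) (Subgroup.mem_zpowers a)
lemma right_mem_plE (a b : G) : b ∈ plE a b := (le_sup_right : Subgroup.zpowers b ≤ plE a b) (Subgroup.mem_zpowers b)

lemma plE_le {a b : G} {S : Subgroup G} (ha : a ∈ S) (hb : b ∈ S) : plE a b ≤ S :=
  sup_le (Subgroup.zpowers_le.mpr ha) (Subgroup.zpowers_le.mpr hb)

namespace PD

variable {a b u w : G} {c : ℕ} (hF : FFS p V H K) (hP : PD p V H K a b u w c)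
include hF hP

lemma W_le_V : plW V a b ≤ V := sup_le (tvL_le hF hP.ta.mem) (tvL_le hF hP.tb.mem)

lemma E_le_H : plE a b ≤ H := plE_le hP.ta.mem hP.tb.mem

lemma inf_bot : tvL V a ⊓ tvL V b = ⊥ := by
  rw [Subgroup.eq_bot_iff_forall]
  rintro z ⟨hza, hzb⟩
  by_contra hz
  have h1 := zpowers_eq_of_prime_card hP.ta.card hza hz
  have h2 := zpowers_eq_of_prime_card hP.tb.card hzb hz
  have h3 : w ∈ tvL V a := by rw [← h1, h2]; exact hP.hw
  exact hP.a_moves_w hF (tvL_fix hF hP.ta h3)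

lemma tvL_norm : tvL V b ≤ Subgroup.normalizer ((tvL V a : Subgroup G) : Set G) :=
  le_normalizer_of_comm fun x hx y hy => hF.comm_V (tvL_le hF hP.ta.mem hx) (tvL_le hF hP.tb.mem hy)

lemma card_W : Nat.card (plW V a b) = p ^ 2 := by
  have h := Cfsg.Agent.H25.card_sup_mul_inf (hP.tvL_norm hF)
  rw [hP.inf_bot hF, Subgroup.card_bot, mul_one, hP.ta.card, hP.tb.card] at h
  rw [pow_two]
  exact h

lemma a_stb : a ∈ Stb V (plW V a b) (hP.W_le_V hF) :=
  ⟨hF.hHV hP.ta.mem, fun v hv => (le_sup_left : tvL V a ≤ plW V a b) (comm_mem_tvL hF hv)⟩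

lemma b_stb : b ∈ Stb V (plW V a b) (hP.W_le_V hF) :=
  ⟨hF.hHV hP.tb.mem, fun v hv => (le_sup_right : tvL V b ≤ plW V a b) (comm_mem_tvL hF hv)⟩

lemma E_le_stb : plE a b ≤ Stb V (plW V a b) (hP.W_le_V hF) := plE_le (hP.a_stb hF) (hP.b_stb hF)

lemma E_comm {g v : G} (hg : g ∈ plE a b) (hv : v ∈ V) : g * v * g⁻¹ * v⁻¹ ∈ plW V a b :=
  (hP.E_le_stb hF hg).2 v hv

lemma E_conj_W {g x : G} (hg : g ∈ plE a b) (hx : x ∈ plW V a b) : g * x * g⁻¹ ∈ plW V a b :=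
  conj_mem_of_stb (hP.W_le_V hF) (fun v hv => hP.E_comm hF hg hv) hx

lemma E_norm_W : plE a b ≤ Subgroup.normalizer ((plW V a b : Subgroup G) : Set G) := fun g hg =>
  Cfsg.Agent.H19.mem_normalizer_of_conj_le fun x hx => hP.E_conj_W hF hg hx

/-- `[V, E] = W`. -/
lemma comm_VE : ⁅V, plE a b⁆ = plW V a b := by
  apply le_antisymm
  · rw [Subgroup.commutator_le]
    intro v hv g hg
    have h1 := hP.E_comm hF hg hv
    have h2 := Subgroup.inv_mem _ h1
    have e : (g * v * g⁻¹ * v⁻¹)⁻¹ = ⁅v, g⁆ := by rw [commutatorElement_def]; group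
    rwa [e] at h2
  · apply sup_le
    · exact Subgroup.commutator_mono le_rfl le_sup_left
    · exact Subgroup.commutator_mono le_rfl le_sup_right

/-- `E ≤ K⟨a⟩`. -/
lemma E_fac {g : G} (hg : g ∈ plE a b) : ∃ k ∈ K, ∃ n : ℕ, g = k * a ^ n := by
  have hA : Subgroup.zpowers a ≤ Subgroup.normalizer (K : Set G) :=
    (Subgroup.zpowers_le.mpr hP.ta.mem).trans hF.hKn
  have hle : plE a b ≤ K ⊔ Subgroup.zpowers a := by
    apply plE_le
    · exact (le_sup_right : Subgroup.zpowers a ≤ _) (Subgroup.mem_zpowers a)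
    · have e : b = (b * a⁻¹) * a := by group
      rw [e]
      exact Subgroup.mul_mem _ ((le_sup_left : K ≤ _) (hP.ba_mem hF))
        ((le_sup_right : Subgroup.zpowers a ≤ _) (Subgroup.mem_zpowers a))
  obtain ⟨k, hk, z, hz, rfl⟩ := Cfsg.Agent.H01.exists_mul_of_mem_sup hA (hle hg)
  rw [← mem_powers_iff_mem_zpowers] at hz
  obtain ⟨n, rfl⟩ := Submonoid.mem_powers_iff _ _ |>.mp hz
  exact ⟨k, hk, n, rfl⟩

/-- `a^n` acting on `w`. -/
lemma pow_a_w (n : ℕ) : a ^ n * w * (a ^ n)⁻¹ = u ^ n * w := conj_pow_of_fix hP.hau (hP.au hF) n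

/-- `C_E(W) = 1`. -/
lemma E_faithful {g : G} (hg : g ∈ plE a b) (hW : ∀ m ∈ plW V a b, g * m = m * g) : g = 1 := by
  have huW : u ∈ plW V a b := (le_sup_left : tvL V a ≤ _) hP.hu
  have hwW : w ∈ plW V a b := (le_sup_right : tvL V b ≤ _) hP.hw
  obtain ⟨k, hk, n, rfl⟩ := hP.E_fac hF hg
  have h1 := hW u huW
  have h2 := hW w hwW
  have hcu : Commute (a ^ n) u := (show Commute a u from hP.au hF).pow_left n
  have hku : k * u = u * k := by
    have e1 : k * a ^ n * u = k * u * a ^ n := by rw [mul_assoc, hcu.eq, ← mul_assoc]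
    have e2 : u * (k * a ^ n) = u * k * a ^ n := by group
    rw [e1, e2] at h1
    exact mul_right_cancel h1
  have h3 : (k * a ^ n) * w * (k * a ^ n)⁻¹ = w := by rw [h2]; group
  have h4 : k * (a ^ n * w * (a ^ n)⁻¹) * k⁻¹ = w := by
    have e : k * (a ^ n * w * (a ^ n)⁻¹) * k⁻¹ = (k * a ^ n) * w * (k * a ^ n)⁻¹ := by group
    rw [e, h3]
  rw [hP.pow_a_w hF n] at h4
  have hkun : Commute k (u ^ n) := (show Commute k u from hku).pow_right n
  have h5 : k * w * k⁻¹ = (u ^ n)⁻¹ * w := by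
    have e : k * (u ^ n * w) * k⁻¹ = (k * u ^ n) * w * k⁻¹ := by group
    rw [e, hkun.eq] at h4
    calc k * w * k⁻¹ = (u ^ n)⁻¹ * (u ^ n * k * w * k⁻¹) := by group
      _ = (u ^ n)⁻¹ * w := by rw [h4]
  have hy : (u ^ n)⁻¹ ∈ V := V.inv_mem (V.pow_mem (hP.uV hF) n)
  have hun : u ^ n = 1 := by
    have h6 := K_fix_step hF hk hy h5 (by
      have := (hkun.inv_right).eq
      exact this)
    exact inv_eq_one.mp h6
  have hpn : p ∣ n := by
    have := orderOf_dvd_of_pow_eq_one hun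
    rwa [hP.ordu hF] at this
  have han : a ^ n = 1 := by
    obtain ⟨d, rfl⟩ := hpn
    rw [pow_mul, hP.ta.pow, one_pow]
  rw [han, mul_one] at hg hW ⊢
  apply hF.eq_one_of_comm_V (hF.hKH hk)
  intro v hv
  symm
  apply K_fix_step' hF hk hv
  exact hW _ (hP.E_comm hF hg hv)

/-- The isomorphism with `SL₂(p)`. -/
theorem exists_iso : ∃ φ : plE a b ≃* SL(2, ZMod p),
    φ ⟨a, left_mem_plE a b⟩ = xE 1 ∧ φ ⟨b, right_mem_plE a b⟩ = yE (c : ZMod p) := by
  have hnorm := hP.E_norm_W hF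
  let ρ : plE a b →* MulAut (plW V a b) :=
    (Subgroup.normalizerMonoidHom (plW V a b)).comp (Subgroup.inclusion hnorm)
  have hρ_apply : ∀ (g : plE a b) (x : plW V a b), ((ρ g x : plW V a b) : G) = (g : G) * x * (g : G)⁻¹ := fun g x => rfl
  have huW : u ∈ plW V a b := (le_sup_left : tvL V a ≤ _) hP.hu
  have hwW : w ∈ plW V a b := (le_sup_right : tvL V b ≤ _) hP.hw
  refine sl2_iso_of_plane' p ?_ ?_ (hP.card_W hF) ρ ?_ ⟨a, left_mem_plE a b⟩ ⟨b, right_mem_plE a b⟩ ?_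
    ⟨u, huW⟩ ⟨w, hwW⟩ c hP.hc ?_ ?_ ?_ ?_ ?_
  · intro x y
    exact Subtype.ext (hF.comm_V (hP.W_le_V hF x.2) (hP.W_le_V hF y.2))
  · intro x
    exact Subtype.ext (hF.pow_V (hP.W_le_V hF x.2))
  · rw [injective_iff_map_eq_one]
    intro g hg
    apply Subtype.ext
    apply hP.E_faithful hF g.2
    intro m hm
    have h1 : ρ g ⟨m, hm⟩ = ⟨m, hm⟩ := by rw [hg]; rfl
    have h2 := congrArg Subtype.val h1
    rw [hρ_apply] at h2
    change (g : G) * m * (g : G)⁻¹ = m at h2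
    calc (g : G) * m = (g : G) * m * (g : G)⁻¹ * g := by group
      _ = m * g := by rw [h2]
  · intro S ha hb
    rw [eq_top_iff]
    rintro ⟨e, he⟩ -
    have hle : plE a b ≤ S.map (plE a b).subtype :=
      plE_le ⟨_, ha, rfl⟩ ⟨_, hb, rfl⟩
    obtain ⟨e', he', rfl⟩ := hle he
    exact he'
  · intro h
    exact hP.hu1 (congrArg Subtype.val h)
  · apply Subtype.ext
    rw [hρ_apply]
    change a * u * a⁻¹ = u
    rw [hP.au hF]; group
  · apply Subtype.ext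
    rw [hρ_apply]
    exact hP.hau
  · apply Subtype.ext
    rw [hρ_apply]
    change b * w * b⁻¹ = w
    rw [hP.bw hF]; group
  · apply Subtype.ext
    rw [hρ_apply]
    exact hP.hbu

/-- `p` is `2` or `3`. -/
theorem p_cases : p = 2 ∨ p = 3 := by
  by_contra hcon
  push Not at hcon
  obtain ⟨hp2, hp3⟩ := hcon
  have hp : p.Prime := Fact.out
  have h2 : (2 : ZMod p) ≠ 0 := by
    intro h
    have h3 : ((2 : ℕ) : ZMod p) = 0 := by exact_mod_cast h
    rw [ZMod.natCast_eq_zero_iff] at h3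
    exact hp2 ((Nat.prime_dvd_prime_iff_eq hp Nat.prime_two).mp h3)
  obtain ⟨φ, hφa, hφb⟩ := hP.exists_iso hF
  let d₀ : SL(2, ZMod p) := ⟨!![2, 0; 0, 2⁻¹], by simp [det_fin_two, h2]⟩
  have hd : d₀ * xE (1 : ZMod p) = xE 1 ^ 4 * d₀ := by
    rw [Cfsg.Agent.Lead.DicksonSL.xE_pow]
    have h00 : e00 d₀ = 2 := rfl
    have h01 : e01 d₀ = 0 := rfl
    have h10 : e10 d₀ = 0 := rfl
    have h11 : e11 d₀ = 2⁻¹ := rfl
    apply sl_ext <;> simp only [e00_mul, e01_mul, e10_mul, e11_mul, Cfsg.Agent.Lead.DicksonSL.e00_xE,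
      Cfsg.Agent.Lead.DicksonSL.e01_xE, Cfsg.Agent.Lead.DicksonSL.e10_xE, Cfsg.Agent.Lead.DicksonSL.e11_xE, h00, h01, h10, h11]
    · ring
    · push_cast
      field_simp
      ring
    · ring
    · ring
  obtain ⟨d, hdd⟩ : ∃ d, φ d = d₀ := φ.surjective d₀
  have hda : d * ⟨a, left_mem_plE a b⟩ = ⟨a, left_mem_plE a b⟩ ^ 4 * d := by
    apply φ.injective
    rw [map_mul, map_mul, map_pow, hdd, hφa, hd]
  have hda' : (d : G) * a = a ^ 4 * (d : G) := congrArg Subtype.val hda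
  obtain ⟨k, hk, n, hdk⟩ := hP.E_fac hF d.2
  rw [hdk] at hda'
  have h5 : a ^ n * a = a * a ^ n := (pow_succ a n).symm.trans (pow_succ' a n)
  have h6 : k * a * a ^ n = a ^ 4 * k * a ^ n := by
    calc k * a * a ^ n = k * (a * a ^ n) := by group
      _ = k * a ^ n * a := by rw [mul_assoc, h5]
      _ = a ^ 4 * (k * a ^ n) := hda'
      _ = a ^ 4 * k * a ^ n := by group
  have h7 : k * a = a ^ 4 * k := mul_right_cancel h6
  have h8 : a ^ 3 = k * (a * k⁻¹ * a⁻¹) := by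
    have e : k * (a * k⁻¹ * a⁻¹) = (k * a) * k⁻¹ * a⁻¹ := by group
    rw [e, h7]
    group
  have h9 : a ^ 3 ∈ K := by
    rw [h8]
    exact K.mul_mem hk (conj_mem_K hF hP.ta.mem (K.inv_mem hk))
  have h10 : a ^ 3 = 1 := by
    apply eq_one_of_mem_K (p := p) hF.hKc h9 (n := 1)
    rw [pow_one, ← pow_mul, mul_comm, pow_mul, hP.ta.pow, one_pow]
  have h11 : orderOf a = p := orderOf_eq_prime hP.ta.pow hP.ta.ne
  have h12 := orderOf_dvd_of_pow_eq_one h10
  rw [h11] at h12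
  exact hp3 ((Nat.prime_dvd_prime_iff_eq hp Nat.prime_three).mp h12)

/-- `T` is invariant under `b`. -/
lemma Tset_conj_b {t : G} (ht : t ∈ Tset K a) : b * t * b⁻¹ ∈ Tset K a := by
  obtain ⟨k, hk, rfl⟩ := ht
  refine ⟨(b * a⁻¹) * (a * k * a⁻¹), K.mul_mem (hP.ba_mem hF) (conj_mem_K hF hP.ta.mem hk), ?_⟩
  group

lemma Tset_conj_b_pow (n : ℕ) : b ^ n * a * (b ^ n)⁻¹ ∈ Tset K a := by
  induction n with
  | zero => simpa using self_mem_Tset a
  | succ n ih =>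
    have h := hP.Tset_conj_b hF ih
    have e : b ^ (n + 1) * a * (b ^ (n + 1))⁻¹ = b * (b ^ n * a * (b ^ n)⁻¹) * b⁻¹ := by
      rw [pow_succ']; group
    rwa [e]

/-- Every point of the plane lies on the centre of a transvection in `T ∩ E`. -/
theorem exists_tv_of_mem_W {x : G} (hx : x ∈ plW V a b) (hx1 : x ≠ 1) :
    ∃ t ∈ Tset K a, t ∈ plE a b ∧ x ∈ tvL V t := by
  obtain ⟨s, hs, r, hr, rfl⟩ := Cfsg.Agent.H01.exists_mul_of_mem_sup (hP.tvL_norm hF) hx
  have hsV := tvL_le hF hP.ta.mem hs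
  have hrV := tvL_le hF hP.tb.mem hr
  by_cases hs1 : s = 1
  · subst hs1
    rw [one_mul]
    exact ⟨b, hP.hba, right_mem_plE a b, hr⟩
  · have hbs : b * s ≠ s * b := by
      intro h
      apply hP.b_moves_u hF
      obtain ⟨n, hn⟩ := mem_pow_of_prime_card hP.ta.card hs hs1 hP.hu
      rw [hn]
      exact ((show Commute b s from h).pow_right n).eq
    obtain ⟨y, hy⟩ : ∃ y, y = b * s * b⁻¹ * s⁻¹ := ⟨_, rfl⟩
    have hyL : y ∈ tvL V b := hy ▸ comm_mem_tvL hF hsV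
    have hy1 : y ≠ 1 := by
      intro h
      rw [h] at hy
      apply hbs
      have e : b * s * b⁻¹ = s := by
        have e2 : b * s * b⁻¹ = (b * s * b⁻¹ * s⁻¹) * s := by group
        rw [e2, ← hy, one_mul]
      calc b * s = b * s * b⁻¹ * b := by group
        _ = s * b := by rw [e]
    obtain ⟨n, hn⟩ := mem_pow_of_prime_card hP.tb.card hyL hy1 hr
    have h1 : b * s * b⁻¹ = y * s := by rw [hy]; group
    have h2 := conj_pow_of_fix h1 (tvL_fix hF hP.tb hyL) n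
    have hbn : b ^ n ∈ H := H.pow_mem hP.tb.mem n
    refine ⟨b ^ n * a * (b ^ n)⁻¹, hP.Tset_conj_b_pow hF n, ?_, ?_⟩
    · exact Subgroup.mul_mem _ (Subgroup.mul_mem _ (Subgroup.pow_mem _ (right_mem_plE a b) n) (left_mem_plE a b))
        (Subgroup.inv_mem _ (Subgroup.pow_mem _ (right_mem_plE a b) n))
    · have h3 := conj_mem_tvL hF (a := a) hbn hs
      rw [h2, ← hn, hF.comm_V hrV hsV] at h3
      exact h3

end PD

/-- A subgroup of `V` of order bigger than `p` meets the axis. -/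
lemma exists_fixed (hF : FFS p V H K) {t : G} (ht : Tv p V H t) {M : Subgroup G} (hM : M ≤ V)
    (hcard : p < Nat.card M) : ∃ x ∈ M, x ≠ 1 ∧ t * x = x * t := by
  classical
  letI : Fintype M := Fintype.ofFinite M
  letI : Fintype (tvL V t) := Fintype.ofFinite _
  let f : M → tvL V t := fun x => ⟨t * x * t⁻¹ * (x : G)⁻¹, comm_mem_tvL hF (hM x.2)⟩
  have hlt : Fintype.card (tvL V t) < Fintype.card M := by
    rw [← Nat.card_eq_fintype_card, ← Nat.card_eq_fintype_card, ht.card]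
    exact hcard
  obtain ⟨x, y, hxy, hf⟩ := Fintype.exists_ne_map_eq_of_card_lt f hlt
  have hf' : t * (x : G) * t⁻¹ * (x : G)⁻¹ = t * (y : G) * t⁻¹ * (y : G)⁻¹ := congrArg Subtype.val hf
  have hxV := hM x.2
  have hyV := hM y.2
  refine ⟨x * (y : G)⁻¹, M.mul_mem x.2 (M.inv_mem y.2), ?_, ?_⟩
  · intro h
    exact hxy (Subtype.ext (mul_inv_eq_one.mp h))
  · have h1 : t * y * t⁻¹ ∈ V := hF.conj_memV ht.mem hyV
    have h2 : t * x * t⁻¹ ∈ V := hF.conj_memV ht.mem hxV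
    have h3 : t * (x * (y : G)⁻¹) * t⁻¹ = x * (y : G)⁻¹ := by
      have e1 : t * (x * (y : G)⁻¹) * t⁻¹ = (t * x * t⁻¹) * (t * y * t⁻¹)⁻¹ := by group
      have e2 : t * (x : G) * t⁻¹ = (t * y * t⁻¹ * (y : G)⁻¹) * x := by
        rw [← hf']; group
      rw [e1, e2]
      have hc : (y : G)⁻¹ * x = x * (y : G)⁻¹ := hF.comm_V (V.inv_mem hyV) hxV
      calc t * y * t⁻¹ * (y : G)⁻¹ * x * (t * y * t⁻¹)⁻¹
          = t * y * t⁻¹ * ((y : G)⁻¹ * x) * (t * y * t⁻¹)⁻¹ := by group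
        _ = t * y * t⁻¹ * (x * (y : G)⁻¹) * (t * y * t⁻¹)⁻¹ := by rw [hc]
        _ = x * (y : G)⁻¹ := by
          rw [hF.comm_V h1 (V.mul_mem hxV (V.inv_mem hyV))]; group
    calc t * (x * (y : G)⁻¹) = t * (x * (y : G)⁻¹) * t⁻¹ * t := by group
      _ = x * (y : G)⁻¹ * t := by rw [h3]

namespace PD

variable {a b u w : G} {c : ℕ} (hF : FFS p V H K) (hP : PD p V H K a b u w c)
include hF hP

/-- The main claim: the whole class lies in `E`. -/
theorem T_sub_E {t : G} (ht : t ∈ Tset K a) : t ∈ plE a b := by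
  have hp : p.Prime := Fact.out
  have htv := Tset_tv hF hP.ta ht
  have hlt : p < Nat.card (plW V a b) := by
    rw [hP.card_W hF, pow_two]
    nlinarith [hp.two_le]
  obtain ⟨x, hx, hx1, hfix⟩ := exists_fixed hF htv (hP.W_le_V hF) hlt
  obtain ⟨t', ht', ht'E, hxt⟩ := hP.exists_tv_of_mem_W hF hx hx1
  have ht'tv := Tset_tv hF hP.ta ht'
  have : t' = t := by
    apply tv_distinct hF ht'tv htv (Tset_inv_mul_mem hF hP.ta.mem ht' ht)
    intro ℓ hl
    obtain ⟨n, rfl⟩ := mem_pow_of_prime_card ht'tv.card hxt hx1 hl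
    exact ((show Commute t x from hfix).pow_right n).eq
  exact this ▸ ht'E

end PD

end Cfsg.Agent.H14
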