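import Mathlib
import Cfsg.Agent.Lib.H14.BO3
import Cfsg.Agent.Lib.H01.CoprimeAb
/-! Plane data of a minimal offender. -/
set_option autoImplicit false
set_option linter.unusedSectionVars false
set_option linter.unusedVariables false
set_option linter.style.longLine false
namespace Cfsg.Agent.H14
open Cfsg
open scoped commutatorElement
open Matrix MatrixGroups
open Cfsg.Agent.Lead.DicksonSL (xE yE)

variable {G : Type*} [Group G] {p : ℕ} [Fact p.Prime] {V H K : Subgroup G} [Finite G]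

/-- A minimal offender is generated by a transvection. -/
theorem tv_of_min (hF : FFS p V H K) {A : Subgroup G} (hAH : A ≤ H) (hA : IsBestOffenderOn p V A)
    (hAV : ⁅V, A⁆ ≠ ⊥) (hmin : ∀ B : Subgroup G, B ≤ A → IsBestOffenderOn p V B → ⁅V, B⁆ ≠ ⊥ → B = A) :
    ∃ a, A = Subgroup.zpowers a ∧ Tv p V H a := by
  obtain ⟨h1, h2, -⟩ := hF.min_facts hAH hA hAV hmin
  have hbot : ¬ ∀ x ∈ A, x = 1 := by
    intro h
    apply hAV
    rw [(Subgroup.eq_bot_iff_forall A).mpr h]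
    exact Subgroup.commutator_bot_right V
  push Not at hbot
  obtain ⟨a, ha, ha1⟩ := hbot
  have hz : Subgroup.zpowers a = A := zpowers_eq_of_prime_card h1 ha ha1
  refine ⟨a, hz.symm, hAH ha, (hF.off_facts hAH hA).2 a ha, ha1, ?_⟩
  unfold tvL
  rw [hz]
  exact h2

lemma mem_centralizer_of_comm_gen {a x : G} (h : a * x = x * a) : x ∈ Subgroup.centralizer (Subgroup.zpowers a : Set G) :=
  mem_centralizer_zpowers h

/-- The form needed by the statements. -/
lemma map_zpowers_conj (a x : G) :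
    (Subgroup.zpowers a).map (MulAut.conj x).toMonoidHom = Subgroup.zpowers (x * a * x⁻¹) := by
  rw [MonoidHom.map_zpowers]
  rfl

/-- S0613 in terms of `a`. -/
theorem pair_main (hF : FFS p V H K) {a x : G} (ha : Tv p V H a) (hx : x ∈ K) (hax : a * x ≠ x * a) :
    (p = 2 ∨ p = 3) ∧ Nat.card ↥(⁅V, plE a (x * a * x⁻¹)⁆) = p ^ 2 ∧
      plE a (x * a * x⁻¹) ⊓ Subgroup.centralizer ((⁅V, plE a (x * a * x⁻¹)⁆ : Subgroup G) : Set G) = ⊥ ∧
      Nonempty (↥(plE a (x * a * x⁻¹)) ≃* SL(2, ZMod p)) := by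
  obtain ⟨u, w, c, hP⟩ := exists_PD hF ha hx hax
  obtain ⟨φ, -, -⟩ := hP.exists_iso hF
  refine ⟨hP.p_cases hF, ?_, ?_, ⟨φ⟩⟩
  · rw [hP.comm_VE hF]
    exact hP.card_W hF
  · rw [Subgroup.eq_bot_iff_forall]
    rintro g ⟨hg, hgc⟩
    rw [hP.comm_VE hF] at hgc
    apply hP.E_faithful hF hg
    intro m hm
    exact (Subgroup.mem_centralizer_iff.mp hgc m hm).symm

/-- `[K, a]`. -/
def kc (K : Subgroup G) (a : G) : Subgroup G := ⁅K, Subgroup.zpowers a⁆

/-- `[K, a]⟨a⟩`. -/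
def ec (K : Subgroup G) (a : G) : Subgroup G := kc K a ⊔ Subgroup.zpowers a

/-- `[V, E]`. -/
def wc (V K : Subgroup G) (a : G) : Subgroup G := ⁅V, ec K a⁆

/-- `C_V(E)`. -/
def zc (V K : Subgroup G) (a : G) : Subgroup G := V ⊓ Subgroup.centralizer (ec K a : Set G)

lemma self_mem_ec (K : Subgroup G) (a : G) : a ∈ ec K a :=
  (le_sup_right : Subgroup.zpowers a ≤ ec K a) (Subgroup.mem_zpowers a)

lemma kc_le_ec (K : Subgroup G) (a : G) : kc K a ≤ ec K a := le_sup_left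

lemma Tset_sub_ec {a t : G} (ht : t ∈ Tset K a) : t ∈ ec K a := by
  obtain ⟨k, hk, rfl⟩ := ht
  have h1 : ⁅k, a⁆ ∈ kc K a := Subgroup.commutator_mem_commutator hk (Subgroup.mem_zpowers a)
  have e : k * a * k⁻¹ = ⁅k, a⁆ * a := by rw [commutatorElement_def]; group
  rw [e]
  exact Subgroup.mul_mem _ (kc_le_ec K a h1) (self_mem_ec K a)

lemma ec_le_of_T {a : G} {S : Subgroup G} (hS : ∀ t ∈ Tset K a, t ∈ S) : ec K a ≤ S := by
  have ha : a ∈ S := hS a (self_mem_Tset a)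
  refine sup_le ?_ (Subgroup.zpowers_le.mpr ha)
  unfold kc
  rw [Subgroup.commutator_le]
  rintro k hk _ ⟨n, rfl⟩
  have h1 : k * a * k⁻¹ ∈ S := hS _ ⟨k, hk, rfl⟩
  have h2 := S.zpow_mem h1 n
  rw [conj_zpow] at h2
  have h3 : a ^ n ∈ S := S.zpow_mem ha n
  have e : ⁅k, (fun x => a ^ x) n⁆ = (k * a ^ n * k⁻¹) * (a ^ n)⁻¹ := by
    change ⁅k, a ^ n⁆ = _
    rw [commutatorElement_def]
  rw [e]
  exact S.mul_mem h2 (S.inv_mem h3)

lemma kc_le_K (hF : FFS p V H K) {a : G} (ha : a ∈ H) : kc K a ≤ K := by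
  unfold kc
  rw [Subgroup.commutator_le]
  intro k hk g hg
  have hgH : g ∈ H := (Subgroup.zpowers_le.mpr ha) hg
  have e : ⁅k, g⁆ = k * (g * k⁻¹ * g⁻¹) := by rw [commutatorElement_def]; group
  rw [e]
  exact K.mul_mem hk (conj_mem_K hF hgH (K.inv_mem hk))

lemma ec_le_H (hF : FFS p V H K) {a : G} (ha : a ∈ H) : ec K a ≤ H :=
  sup_le ((kc_le_K hF ha).trans hF.hKH) (Subgroup.zpowers_le.mpr ha)

/-- `K` normalizes `[K, a]`. -/
lemma K_norm_kc (hF : FFS p V H K) {a g : G} (ha : a ∈ H) (hg : g ∈ K) :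
    g ∈ Subgroup.normalizer ((kc K a : Subgroup G) : Set G) := by
  apply Cfsg.Agent.H19.mem_normalizer_of_conj_le
  have hle : kc K a ≤ (kc K a).comap (MulAut.conj g).toMonoidHom := by
    unfold kc
    rw [Subgroup.commutator_le]
    intro k hk z hz
    change g * ⁅k, z⁆ * g⁻¹ ∈ ⁅K, Subgroup.zpowers a⁆
    have e : g * ⁅k, z⁆ * g⁻¹ = ⁅g * k, z⁆ * ⁅g, z⁆⁻¹ := by
      simp only [commutatorElement_def]; group
    rw [e]
    exact Subgroup.mul_mem _ (Subgroup.commutator_mem_commutator (K.mul_mem hg hk) hz)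
      (Subgroup.inv_mem _ (Subgroup.commutator_mem_commutator hg hz))
  intro x hx
  exact hle hx

/-- `K` normalizes `E`. -/
lemma K_norm_ec (hF : FFS p V H K) {a g : G} (hg : g ∈ K) :
    g ∈ Subgroup.normalizer ((ec K a : Subgroup G) : Set G) := by
  apply Cfsg.Agent.H19.mem_normalizer_of_conj_le
  have hle : ec K a ≤ (ec K a).comap (MulAut.conj g).toMonoidHom := by
    apply ec_le_of_T
    rintro t ⟨k, hk, rfl⟩
    change g * (k * a * k⁻¹) * g⁻¹ ∈ ec K a
    have e : g * (k * a * k⁻¹) * g⁻¹ = (g * k) * a * (g * k)⁻¹ := by group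
    rw [e]
    exact Tset_sub_ec ⟨g * k, K.mul_mem hg hk, rfl⟩
  intro x hx
  exact hle hx

lemma conj_normalizer_comm {g : G} {X Y : Subgroup G} (hX : g ∈ Subgroup.normalizer (X : Set G))
    (hY : g ∈ Subgroup.normalizer (Y : Set G)) : g ∈ Subgroup.normalizer ((⁅X, Y⁆ : Subgroup G) : Set G) :=
  Cfsg.Agent.H01.mem_normalizer_commutator hX hY

lemma norm_wc (hF : FFS p V H K) {a g : G} (hg : g ∈ H) (hgE : g ∈ Subgroup.normalizer ((ec K a : Subgroup G) : Set G)) :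
    g ∈ Subgroup.normalizer ((wc V K a : Subgroup G) : Set G) :=
  conj_normalizer_comm (hF.hHV hg) hgE

/-- The centralizer part. -/
lemma norm_zc (hF : FFS p V H K) {a g : G} (hg : g ∈ H) (hgE : g ∈ Subgroup.normalizer ((ec K a : Subgroup G) : Set G)) :
    g ∈ Subgroup.normalizer ((zc V K a : Subgroup G) : Set G) := by
  apply Cfsg.Agent.H19.mem_normalizer_of_conj_le
  rintro x ⟨hxV, hxC⟩
  refine ⟨hF.conj_memV hg hxV, ?_⟩
  refine Subgroup.mem_centralizer_iff.mpr ?_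
  intro e he
  have h1 : g⁻¹ * e * g⁻¹⁻¹ ∈ ec K a :=
    Cfsg.Agent.H02.conj_mem_of_normalizer (Subgroup.inv_mem _ hgE) he
  have h2 := Subgroup.mem_centralizer_iff.mp hxC _ h1
  calc e * (g * x * g⁻¹) = g * ((g⁻¹ * e * g⁻¹⁻¹) * x) * g⁻¹ := by group
    _ = g * (x * (g⁻¹ * e * g⁻¹⁻¹)) * g⁻¹ := by rw [h2]
    _ = g * x * g⁻¹ * e := by group

namespace PD

variable {a b u w : G} {c : ℕ} (hF : FFS p V H K) (hP : PD p V H K a b u w c)
include hF hP

lemma ec_eq : ec K a = plE a b := by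
  apply le_antisymm
  · exact ec_le_of_T fun t ht => hP.T_sub_E hF ht
  · exact plE_le (self_mem_ec K a) (Tset_sub_ec hP.hba)

lemma wc_eq : wc V K a = plW V a b := by
  unfold wc
  rw [hP.ec_eq hF, hP.comm_VE hF]

lemma mem_zc_iff {z : G} : z ∈ zc V K a ↔ z ∈ V ∧ a * z = z * a ∧ b * z = z * b := by
  constructor
  · rintro ⟨hz, hc⟩
    refine ⟨hz, Subgroup.mem_centralizer_iff.mp hc a (self_mem_ec K a), ?_⟩
    exact Subgroup.mem_centralizer_iff.mp hc b (Tset_sub_ec hP.hba)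
  · rintro ⟨hz, h1, h2⟩
    refine ⟨hz, Subgroup.mem_centralizer_iff.mpr ?_⟩
    have hle : ec K a ≤ Subgroup.centralizer ({z} : Set G) := by
      rw [hP.ec_eq hF]
      exact plE_le (Subgroup.mem_centralizer_singleton_iff.mpr h1) (Subgroup.mem_centralizer_singleton_iff.mpr h2)
    intro h hh
    exact Subgroup.mem_centralizer_singleton_iff.mp (hle hh)

lemma fix_of_zc {g z : G} (hg : g ∈ ec K a) (hz : z ∈ zc V K a) : g * z = z * g :=
  Subgroup.mem_centralizer_iff.mp hz.2 g hg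

/-- `W ⊓ Z = 1`. -/
theorem wc_inf_zc : wc V K a ⊓ zc V K a = ⊥ := by
  rw [Subgroup.eq_bot_iff_forall, hP.wc_eq hF]
  rintro z ⟨hzW, hzZ⟩
  obtain ⟨hzV, h1, h2⟩ := (hP.mem_zc_iff hF).mp hzZ
  obtain ⟨s, hs, r, hr, rfl⟩ := Cfsg.Agent.H01.exists_mul_of_mem_sup (hP.tvL_norm hF) hzW
  have has : a * s = s * a := tvL_fix hF hP.ta hs
  have hbr : b * r = r * b := tvL_fix hF hP.tb hr
  have har : a * r = r * a := by
    have e : s * (a * r) = s * (r * a) := by
      calc s * (a * r) = a * s * r := by rw [← mul_assoc, has]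
        _ = s * r * a := by rw [mul_assoc]; exact h1
        _ = s * (r * a) := by group
    exact mul_left_cancel e
  have hbs : b * s = s * b := by
    have e : (b * s) * r = (s * b) * r := by
      calc (b * s) * r = b * (s * r) := by group
        _ = s * r * b := h2
        _ = s * (r * b) := by group
        _ = s * (b * r) := by rw [hbr]
        _ = (s * b) * r := by group
    exact mul_right_cancel e
  have hr1 : r = 1 := by
    by_contra hne
    obtain ⟨n, hn⟩ := mem_pow_of_prime_card hP.tb.card hr hne hP.hw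
    apply hP.a_moves_w hF
    rw [hn]
    exact ((show Commute a r from har).pow_right n).eq
  have hs1 : s = 1 := by
    by_contra hne
    obtain ⟨n, hn⟩ := mem_pow_of_prime_card hP.ta.card hs hne hP.hu
    apply hP.b_moves_u hF
    rw [hn]
    exact ((show Commute b s from hbs).pow_right n).eq
  rw [hr1, hs1, one_mul]

end PD

/-- Splitting off a moved vector. -/
lemma fix_split (hF : FFS p V H K) {t s v : G} (ht : Tv p V H t) (hs : s ∈ V) (hmove : t * s ≠ s * t) (hv : v ∈ V) :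
    ∃ n : ℕ, t * (v * (s ^ n)⁻¹) = (v * (s ^ n)⁻¹) * t := by
  obtain ⟨y, hy⟩ : ∃ y, y = t * s * t⁻¹ * s⁻¹ := ⟨_, rfl⟩
  have hyL : y ∈ tvL V t := hy ▸ comm_mem_tvL hF hs
  have hy1 : y ≠ 1 := by
    intro h
    rw [h] at hy
    apply hmove
    have e : t * s * t⁻¹ = s := by
      have e2 : t * s * t⁻¹ = (t * s * t⁻¹ * s⁻¹) * s := by group
      rw [e2, ← hy, one_mul]
    calc t * s = t * s * t⁻¹ * t := by group
      _ = s * t := by rw [e]
  obtain ⟨m, hm⟩ : ∃ m, m = t * v * t⁻¹ * v⁻¹ := ⟨_, rfl⟩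
  have hmL : m ∈ tvL V t := hm ▸ comm_mem_tvL hF hv
  obtain ⟨n, hn⟩ := mem_pow_of_prime_card ht.card hyL hy1 hmL
  refine ⟨n, ?_⟩
  have hyV := tvL_le hF ht.mem hyL
  have e1 : t * s ^ n * t⁻¹ = y ^ n * s ^ n := by
    rw [← conj_pow]
    have : t * s * t⁻¹ = y * s := by rw [hy]; group
    rw [this]
    exact (show Commute y s from hF.comm_V hyV hs).mul_pow n
  have e2 : t * v * t⁻¹ = y ^ n * v := by rw [← hn, hm]; group
  have e3 : t * (v * (s ^ n)⁻¹) * t⁻¹ = v * (s ^ n)⁻¹ := by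
    have e4 : t * (v * (s ^ n)⁻¹) * t⁻¹ = (t * v * t⁻¹) * (t * s ^ n * t⁻¹)⁻¹ := by group
    rw [e4, e1, e2]
    have hc : v * y ^ n = y ^ n * v := hF.comm_V hv (V.pow_mem hyV n)
    have hc2 : (s ^ n)⁻¹ * (y ^ n)⁻¹ = (y ^ n)⁻¹ * (s ^ n)⁻¹ := by
      have := hF.comm_V (V.inv_mem (V.pow_mem hs n)) (V.inv_mem (V.pow_mem hyV n))
      exact this
    calc y ^ n * v * (y ^ n * s ^ n)⁻¹ = y ^ n * v * ((s ^ n)⁻¹ * (y ^ n)⁻¹) := by group
      _ = y ^ n * v * ((y ^ n)⁻¹ * (s ^ n)⁻¹) := by rw [hc2]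
      _ = y ^ n * (v * (y ^ n)⁻¹) * (s ^ n)⁻¹ := by group
      _ = y ^ n * ((y ^ n)⁻¹ * v) * (s ^ n)⁻¹ := by
        rw [hF.comm_V hv (V.inv_mem (V.pow_mem hyV n))]
      _ = v * (s ^ n)⁻¹ := by group
  calc t * (v * (s ^ n)⁻¹) = t * (v * (s ^ n)⁻¹) * t⁻¹ * t := by group
    _ = (v * (s ^ n)⁻¹) * t := by rw [e3]

namespace PD

variable {a b u w : G} {c : ℕ} (hF : FFS p V H K) (hP : PD p V H K a b u w c)
include hF hP

/-- `WZ = V`. -/
theorem wc_sup_zc : wc V K a ⊔ zc V K a = V := by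
  apply le_antisymm
  · refine sup_le ?_ inf_le_left
    rw [hP.wc_eq hF]
    exact hP.W_le_V hF
  · intro v hv
    obtain ⟨n, hn⟩ := fix_split hF hP.ta (hP.wV hF) (hP.a_moves_w hF) hv
    have hv1 : v * (w ^ n)⁻¹ ∈ V := V.mul_mem hv (V.inv_mem (V.pow_mem (hP.wV hF) n))
    obtain ⟨m, hm⟩ := fix_split hF hP.tb (hP.uV hF) (hP.b_moves_u hF) hv1
    have hv2 : v * (w ^ n)⁻¹ * (u ^ m)⁻¹ ∈ V := V.mul_mem hv1 (V.inv_mem (V.pow_mem (hP.uV hF) m))
    have hcom : Commute a ((u ^ m)⁻¹) := ((show Commute a u from hP.au hF).pow_right m).inv_right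
    have hz : v * (w ^ n)⁻¹ * (u ^ m)⁻¹ ∈ zc V K a := by
      rw [hP.mem_zc_iff hF]
      refine ⟨hv2, ?_, hm⟩
      exact ((show Commute a _ from hn).mul_right hcom).eq
    have hW : u ^ m ∈ wc V K a := by
      rw [hP.wc_eq hF]
      exact Subgroup.pow_mem _ ((le_sup_left : tvL V a ≤ _) hP.hu) m
    have hW' : w ^ n ∈ wc V K a := by
      rw [hP.wc_eq hF]
      exact Subgroup.pow_mem _ ((le_sup_right : tvL V b ≤ _) hP.hw) n
    have e : v = (u ^ m * w ^ n) * (v * (w ^ n)⁻¹ * (u ^ m)⁻¹) := by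
      have hv' := hF.comm_V (V.mul_mem (V.pow_mem (hP.uV hF) m) (V.pow_mem (hP.wV hF) n)) hv2
      rw [hv']
      group
    rw [e]
    exact Subgroup.mul_mem _ (Subgroup.mem_sup_left (Subgroup.mul_mem _ hW hW')) (Subgroup.mem_sup_right hz)

/-- No line of the plane is invariant under `[K, a]`. -/
theorem no_inv_line {M : Subgroup G} (hMW : M ≤ wc V K a) (hMc : Nat.card M = p)
    (hnorm : kc K a ≤ Subgroup.normalizer (M : Set G)) : False := by
  have hp : p.Prime := Fact.out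
  have hMne : ¬ ∀ x ∈ M, x = 1 := by
    intro h
    rw [(Subgroup.eq_bot_iff_forall M).mpr h, Subgroup.card_bot] at hMc
    exact hp.one_lt.ne hMc
  push Not at hMne
  obtain ⟨x, hx, hx1⟩ := hMne
  rw [hP.wc_eq hF] at hMW
  obtain ⟨t, ht, htE, hxt⟩ := hP.exists_tv_of_mem_W hF (hMW hx) hx1
  have htv := Tset_tv hF hP.ta ht
  have hML : tvL V t = M := by
    rw [← zpowers_eq_of_prime_card htv.card hxt hx1, zpowers_eq_of_prime_card hMc hx hx1]
  have hah := hP.ta.mem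
  have h1 : ∀ k ∈ kc K a, t * k = k * t := by
    intro k hk
    have hkK := kc_le_K hF hah hk
    have hkH := hF.hKH hkK
    have hs : k * t * k⁻¹ ∈ Tset K a := by
      obtain ⟨g, hg, rfl⟩ := ht
      refine ⟨k * g, K.mul_mem hkK hg, by group⟩
    have hstv := Tset_tv hF hP.ta hs
    have h2 : k * t * k⁻¹ = t := by
      apply tv_distinct hF hstv htv (Tset_inv_mul_mem hF hah hs ht)
      intro ℓ hl
      rw [tvL_conj hF hkH, hML] at hl
      obtain ⟨ℓ', hℓ', rfl⟩ := hl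
      have h3 : k * ℓ' * k⁻¹ ∈ M := Cfsg.Agent.H02.conj_mem_of_normalizer (hnorm hk) hℓ'
      rw [← hML] at h3
      exact tvL_fix hF htv h3
    calc t * k = k * t * k⁻¹ * k := by rw [h2]
      _ = k * t := by group
  have h2 : ∀ k ∈ kc K a, a * k = k * a := by
    obtain ⟨g, hg, rfl⟩ := ht
    intro k hk
    have h3 : g * k * g⁻¹ ∈ kc K a := Cfsg.Agent.H02.conj_mem_of_normalizer (K_norm_kc hF hah hg) hk
    have h4 := h1 _ h3
    have h5 : g * (a * k) * g⁻¹ = g * (k * a) * g⁻¹ := by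
      calc g * (a * k) * g⁻¹ = g * a * g⁻¹ * (g * k * g⁻¹) := by group
        _ = g * k * g⁻¹ * (g * a * g⁻¹) := h4
        _ = g * (k * a) * g⁻¹ := by group
    exact mul_left_cancel (mul_right_cancel h5)
  have h3 : ∀ k ∈ K, a * k = k * a := by
    intro k hk
    obtain ⟨m, hm⟩ : ∃ m, m = a * k * a⁻¹ * k⁻¹ := ⟨_, rfl⟩
    have hmc : m ∈ kc K a := by
      have h4 : ⁅k, a⁆ ∈ kc K a := Subgroup.commutator_mem_commutator hk (Subgroup.mem_zpowers a)
      have h5 := Subgroup.inv_mem _ h4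
      have e : ⁅k, a⁆⁻¹ = m := by rw [commutatorElement_def, hm]; group
      rwa [e] at h5
    have h4 : m ^ p = 1 := fix_step hP.ta.pow (x := k) (by rw [hm]; group) (h2 m hmc)
    have h5 : m = 1 := eq_one_of_mem_K (p := p) hF.hKc (kc_le_K hF hah hmc) (n := 1) (by rwa [pow_one])
    have h6 : a * k * a⁻¹ = k := by
      have e : a * k * a⁻¹ = (a * k * a⁻¹ * k⁻¹) * k := by group
      rw [e, ← hm, h5, one_mul]
    calc a * k = a * k * a⁻¹ * a := by group
      _ = k * a := by rw [h6]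
  have h4 : a ∈ K := hF.hC a hah h3
  exact hP.ta.ne (eq_one_of_mem_K (p := p) hF.hKc h4 (n := 1) (by rw [pow_one]; exact hP.ta.pow))

/-- `C_V([K, a]) = C_V(E)`. -/
theorem zc_eq_cent : V ⊓ Subgroup.centralizer (kc K a : Set G) = zc V K a := by
  have hK1 := kc_le_ec K a
  apply le_antisymm
  · rintro v ⟨hv, hc⟩
    have hv' : v ∈ wc V K a ⊔ zc V K a := by rw [hP.wc_sup_zc hF]; exact hv
    have hnm : zc V K a ≤ Subgroup.normalizer ((wc V K a : Subgroup G) : Set G) :=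
      le_normalizer_of_comm fun x hx y hy => by
        rw [hP.wc_eq hF] at hx
        exact hF.comm_V (hP.W_le_V hF hx) hy.1
    obtain ⟨x, hx, z, hz, rfl⟩ := Cfsg.Agent.H01.exists_mul_of_mem_sup hnm hv'
    have hx1 : x = 1 := by
      by_contra hne
      have hfix : ∀ k ∈ kc K a, k * x = x * k := by
        intro k hk
        have h1 := Subgroup.mem_centralizer_iff.mp hc k hk
        have h2 := hP.fix_of_zc hF (hK1 hk) hz
        have e : (k * x) * z = (x * k) * z := by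
          calc (k * x) * z = k * (x * z) := by group
            _ = x * z * k := h1
            _ = x * (z * k) := by group
            _ = x * (k * z) := by rw [h2]
            _ = (x * k) * z := by group
        exact mul_right_cancel e
      have hMc : Nat.card (Subgroup.zpowers x) = p := by
        rw [Nat.card_zpowers]
        apply orderOf_eq_prime _ hne
        rw [hP.wc_eq hF] at hx
        exact hF.pow_V (hP.W_le_V hF hx)
      refine hP.no_inv_line hF (M := Subgroup.zpowers x) (Subgroup.zpowers_le.mpr hx) hMc ?_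
      intro k hk
      apply Cfsg.Agent.H19.mem_normalizer_of_conj_le
      rintro _ ⟨n, rfl⟩
      have hc2 : Commute k x := hfix k hk
      have e : k * (fun i => x ^ i) n * k⁻¹ = x ^ n := by
        change k * x ^ n * k⁻¹ = x ^ n
        rw [(hc2.zpow_right n).eq]; group
      rw [e]
      exact Subgroup.zpow_mem_zpowers x n
    rw [hx1, one_mul]
    exact hz
  · rintro z ⟨hz, hc⟩
    refine ⟨hz, Subgroup.mem_centralizer_iff.mpr fun k hk => ?_⟩
    exact Subgroup.mem_centralizer_iff.mp hc k (hK1 hk)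

end PD

/-- Coprime action: no fixed points gives `[X, A] = X`. -/
theorem comm_eq_self_of_inf (hF : FFS p V H K) {X A : Subgroup G} (hX : X ≤ V) (hA : A ≤ K)
    (hAX : A ≤ Subgroup.normalizer (X : Set G)) (h : X ⊓ Subgroup.centralizer (A : Set G) = ⊥) : ⁅X, A⁆ = X := by
  haveI : IsMulCommutative X := ⟨⟨fun x y => Subtype.ext (hF.comm_V (hX x.2) (hX y.2))⟩⟩
  have hpg : IsPGroup p X := fun x => ⟨1, Subtype.ext (by simpa using hF.pow_V (hX x.2))⟩
  obtain ⟨n, hn⟩ := IsPGroup.iff_card.mp hpg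
  have hcop : (Nat.card A).Coprime (Nat.card X) := by
    rw [hn]
    exact Nat.Coprime.pow_right n (Nat.Coprime.coprime_dvd_left (Subgroup.card_dvd_of_le hA) hF.hKc)
  have h2 := (Cfsg.Agent.H01.abelian_decomposition A X hAX hcop).2
  rwa [h, bot_sup_eq] at h2

lemma norm_inf_cent {g : G} {X A : Subgroup G} (hX : g ∈ Subgroup.normalizer (X : Set G))
    (hA : g ∈ Subgroup.normalizer (A : Set G)) :
    g ∈ Subgroup.normalizer ((X ⊓ Subgroup.centralizer (A : Set G) : Subgroup G) : Set G) := by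
  apply Cfsg.Agent.H19.mem_normalizer_of_conj_le
  rintro x ⟨hxX, hxC⟩
  refine ⟨Cfsg.Agent.H02.conj_mem_of_normalizer hX hxX, Subgroup.mem_centralizer_iff.mpr ?_⟩
  intro e he
  have h1 : g⁻¹ * e * g⁻¹⁻¹ ∈ A :=
    Cfsg.Agent.H02.conj_mem_of_normalizer (Subgroup.inv_mem _ hA) he
  have h2 := Subgroup.mem_centralizer_iff.mp hxC _ h1
  calc e * (g * x * g⁻¹) = g * ((g⁻¹ * e * g⁻¹⁻¹) * x) * g⁻¹ := by group
    _ = g * (x * (g⁻¹ * e * g⁻¹⁻¹)) * g⁻¹ := by rw [h2]
    _ = g * x * g⁻¹ * e := by group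

/-- Two planes are equal, or the first lies in the fixed points of the second. -/
theorem dich1 (hF : FFS p V H K) {a₁ b₁ u₁ w₁ a₂ b₂ u₂ w₂ : G} {c₁ c₂ : ℕ}
    (hP₁ : PD p V H K a₁ b₁ u₁ w₁ c₁) (hP₂ : PD p V H K a₂ b₂ u₂ w₂ c₂) :
    wc V K a₁ = wc V K a₂ ∨ wc V K a₁ ≤ zc V K a₂ := by
  have hp : p.Prime := Fact.out
  have hW₁V : wc V K a₁ ≤ V := by rw [hP₁.wc_eq hF]; exact hP₁.W_le_V hF
  have hcard₁ : Nat.card (wc V K a₁) = p ^ 2 := by rw [hP₁.wc_eq hF]; exact hP₁.card_W hF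
  have hcard₂ : Nat.card (wc V K a₂) = p ^ 2 := by rw [hP₂.wc_eq hF]; exact hP₂.card_W hF
  have hKW : K ≤ Subgroup.normalizer ((wc V K a₁ : Subgroup G) : Set G) := fun g hg =>
    norm_wc hF (hF.hKH hg) (K_norm_ec hF hg)
  have hK2 : kc K a₂ ≤ K := kc_le_K hF hP₂.ta.mem
  have hK1 : kc K a₁ ≤ K := kc_le_K hF hP₁.ta.mem
  obtain ⟨C, hC⟩ : ∃ C, C = wc V K a₁ ⊓ Subgroup.centralizer (kc K a₂ : Set G) := ⟨_, rfl⟩
  have hCle : C ≤ wc V K a₁ := hC ▸ inf_le_left
  have hdvd : Nat.card C ∣ p ^ 2 := hcard₁ ▸ Subgroup.card_dvd_of_le hCle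
  obtain ⟨k, hk, hck⟩ := (Nat.dvd_prime_pow hp).mp hdvd
  interval_cases k
  · left
    have hbot : C = ⊥ := Subgroup.card_eq_one.mp (by simpa using hck)
    have h1 := comm_eq_self_of_inf hF hW₁V hK2 (hK2.trans hKW) (hC ▸ hbot)
    have h2 : wc V K a₁ ≤ wc V K a₂ := by
      rw [← h1]
      exact Subgroup.commutator_mono hW₁V (kc_le_ec K a₂)
    exact Subgroup.eq_of_le_of_card_ge h2 (by rw [hcard₁, hcard₂])
  · exfalso
    refine hP₁.no_inv_line hF (M := C) hCle (by simpa using hck) ?_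
    intro g hg
    rw [hC]
    exact norm_inf_cent (hKW (hK1 hg)) (K_norm_kc hF hP₂.ta.mem (hK1 hg))
  · right
    have hCW : C = wc V K a₁ := Subgroup.eq_of_le_of_card_ge hCle (by rw [hcard₁, hck])
    rw [← hP₂.zc_eq_cent hF, ← hCW, hC]
    exact le_inf (inf_le_left.trans hW₁V) inf_le_right

end Cfsg.Agent.H14
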