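import Mathlib
import Cfsg.Agent.Lib.H14.BO4
import Cfsg.Agent.Lib.Lead.SL23
/-! `[K, a]` and the dichotomy for two planes. -/
set_option autoImplicit false
set_option linter.unusedSectionVars false
set_option linter.unusedVariables false
set_option linter.style.longLine false
namespace Cfsg.Agent.H14
open Cfsg
open scoped commutatorElement
open Matrix MatrixGroups
open Cfsg.Agent.Lead.DicksonSL (xE yE)

theorem sl3_noncomm : ∃ i j : SL(2, ZMod 3), i ^ 3 * j ^ 3 ≠ j ^ 3 * i ^ 3 := by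
  refine ⟨⟨!![0, 1; 2, 0], by simp [det_fin_two]; decide⟩, ⟨!![1, 1; 1, 2], by simp [det_fin_two]; decide⟩, ?_⟩
  decide

variable {G : Type*} [Group G] {p : ℕ} [Fact p.Prime] {V H K : Subgroup G} [Finite G]

lemma zp_norm_kc (hF : FFS p V H K) {a : G} (ha : a ∈ H) :
    Subgroup.zpowers a ≤ Subgroup.normalizer ((kc K a : Subgroup G) : Set G) := fun g hg =>
  conj_normalizer_comm (hF.hKn ((Subgroup.zpowers_le.mpr ha) hg)) (Subgroup.le_normalizer hg)

lemma kc_inf_zp (hF : FFS p V H K) {a : G} (ha : Tv p V H a) : kc K a ⊓ Subgroup.zpowers a = ⊥ := by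
  rw [Subgroup.eq_bot_iff_forall]
  rintro g ⟨hg, n, rfl⟩
  apply eq_one_of_mem_K (p := p) hF.hKc (kc_le_K hF ha.mem hg) (n := 1)
  change (a ^ n) ^ p ^ 1 = 1
  rw [pow_one, ← zpow_natCast, ← _root_.zpow_mul, mul_comm, _root_.zpow_mul, zpow_natCast, ha.pow, _root_.one_zpow]

lemma card_ec (hF : FFS p V H K) {a : G} (ha : Tv p V H a) : Nat.card (ec K a) = Nat.card (kc K a) * p := by
  have h := Cfsg.Agent.H25.card_sup_mul_inf (zp_norm_kc hF ha.mem)
  rw [kc_inf_zp hF ha, Subgroup.card_bot, mul_one, Nat.card_zpowers, orderOf_eq_prime ha.pow ha.ne] at h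
  exact h

lemma Tv.cube_mem_kc (hF : FFS p V H K) {a e : G} (ha : Tv p V H a) (hp3 : p = 3) (he : e ∈ ec K a) : e ^ 3 ∈ kc K a := by
  obtain ⟨k, hk, g, hg, rfl⟩ := Cfsg.Agent.H01.exists_mul_of_mem_sup (zp_norm_kc hF ha.mem) he
  have hg3 : g ^ 3 = 1 := by
    obtain ⟨n, rfl⟩ := hg
    change (a ^ n) ^ 3 = 1
    rw [← zpow_natCast, ← _root_.zpow_mul, mul_comm, _root_.zpow_mul, zpow_natCast]
    have := ha.pow
    rw [hp3] at this
    rw [this, _root_.one_zpow]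
  have h1 : g * k * g⁻¹ ∈ kc K a := Cfsg.Agent.H02.conj_mem_of_normalizer (zp_norm_kc hF ha.mem hg) hk
  have h2 : (g * g) * k * (g * g)⁻¹ ∈ kc K a :=
    Cfsg.Agent.H02.conj_mem_of_normalizer (zp_norm_kc hF ha.mem ((Subgroup.zpowers a).mul_mem hg hg)) hk
  have e1 : (k * g) ^ 3 = k * (g * k * g⁻¹) * ((g * g) * k * (g * g)⁻¹) * g ^ 3 := by
    simp only [pow_succ, pow_zero]; group
  rw [e1, hg3, mul_one]
  exact Subgroup.mul_mem _ (Subgroup.mul_mem _ hk h1) h2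

/-- S0614 in terms of `a`. -/
theorem Tv.kc_main (hF : FFS p V H K) {a : G} (ha : Tv p V H a) :
    (p = 2 ∧ IsPGroup 3 (kc K a)) ∨ (p = 3 ∧ IsPGroup 2 (kc K a) ∧ ¬ IsMulCommutative (kc K a)) := by
  obtain ⟨x, hx, hax⟩ := hF.moved ha.mem ha.pow ha.ne
  obtain ⟨u, w, c, hP⟩ := exists_PD hF ha hx hax
  obtain ⟨φ, -, -⟩ := hP.exists_iso hF
  have hcard : Nat.card (ec K a) = Nat.card (SL(2, ZMod p)) := by
    rw [hP.ec_eq hF]
    exact Nat.card_congr φ.toEquiv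
  rw [Cfsg.Agent.Lead.card_SL_two', ZMod.card, card_ec hF ha] at hcard
  rcases hP.p_cases hF with h2 | h3
  · left
    refine ⟨h2, ?_⟩
    subst h2
    have h3 : Nat.card (kc K a) = 3 ^ 1 := by omega
    exact IsPGroup.of_card h3
  · right
    refine ⟨h3, ?_, ?_⟩
    · subst h3
      have h4 : Nat.card (kc K a) = 2 ^ 3 := by omega
      exact IsPGroup.of_card h4
    · intro hcomm
      subst h3
      obtain ⟨i, j, hij⟩ := sl3_noncomm
      apply hij
      obtain ⟨e₁, he₁⟩ := φ.surjective i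
      obtain ⟨e₂, he₂⟩ := φ.surjective j
      have h₁ : (e₁ : G) ^ 3 ∈ kc K a := Tv.cube_mem_kc hF ha rfl (by rw [hP.ec_eq hF]; exact e₁.2)
      have h₂ : (e₂ : G) ^ 3 ∈ kc K a := Tv.cube_mem_kc hF ha rfl (by rw [hP.ec_eq hF]; exact e₂.2)
      have hc : (e₁ : G) ^ 3 * (e₂ : G) ^ 3 = (e₂ : G) ^ 3 * (e₁ : G) ^ 3 :=
        congrArg Subtype.val (mul_comm' (⟨_, h₁⟩ : kc K a) ⟨_, h₂⟩)
      have hc' : e₁ ^ 3 * e₂ ^ 3 = e₂ ^ 3 * e₁ ^ 3 := Subtype.ext hc
      have := congrArg φ hc'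
      simpa [map_mul, map_pow, he₁, he₂] using this

end Cfsg.Agent.H14
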