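import Mathlib
import Cfsg.Agent.Lib.H14.BO5
/-! The dichotomy for two planes and the global structure. -/
set_option autoImplicit false
set_option linter.unusedSectionVars false
set_option linter.unusedVariables false
set_option linter.style.longLine false
namespace Cfsg.Agent.H14
open Cfsg
open scoped commutatorElement
open Matrix MatrixGroups
open Cfsg.Agent.Lead.DicksonSL (xE yE)

variable {G : Type*} [Group G] {p : ℕ} [Fact p.Prime] {V H K : Subgroup G} [Finite G]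

lemma tvL_le_wc {a t : G} (ht : t ∈ Tset K a) : tvL V t ≤ wc V K a :=
  Subgroup.commutator_mono le_rfl (Subgroup.zpowers_le.mpr (Tset_sub_ec ht))

theorem exists_PD_of_tv (hF : FFS p V H K) {a : G} (ha : Tv p V H a) : ∃ b u w c, PD p V H K a b u w c := by
  obtain ⟨x, hx, hax⟩ := hF.moved ha.mem ha.pow ha.ne
  obtain ⟨u, w, c, hP⟩ := exists_PD hF ha hx hax
  exact ⟨_, u, w, c, hP⟩

namespace PD
variable {a b u w : G} {c : ℕ} (hF : FFS p V H K) (hP : PD p V H K a b u w c)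
include hF hP

lemma ec_comm_mem {g v : G} (hg : g ∈ ec K a) (hv : v ∈ V) : g * v * g⁻¹ * v⁻¹ ∈ wc V K a := by
  rw [hP.wc_eq hF]
  rw [hP.ec_eq hF] at hg
  exact hP.E_comm hF hg hv

lemma wc_le_V : wc V K a ≤ V := by rw [hP.wc_eq hF]; exact hP.W_le_V hF

lemma card_wc : Nat.card (wc V K a) = p ^ 2 := by rw [hP.wc_eq hF]; exact hP.card_W hF

lemma ec_faithful {g : G} (hg : g ∈ ec K a) (h : ∀ m ∈ wc V K a, g * m = m * g) : g = 1 := by
  rw [hP.wc_eq hF] at h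
  rw [hP.ec_eq hF] at hg
  exact hP.E_faithful hF hg h

/-- Every element of `V` splits. -/
lemma split {v : G} (hv : v ∈ V) : ∃ x ∈ wc V K a, ∃ z ∈ zc V K a, v = x * z := by
  have hv' : v ∈ wc V K a ⊔ zc V K a := by rw [hP.wc_sup_zc hF]; exact hv
  have hnm : zc V K a ≤ Subgroup.normalizer ((wc V K a : Subgroup G) : Set G) :=
    le_normalizer_of_comm fun x hx y hy => hF.comm_V (hP.wc_le_V hF hx) hy.1
  exact Cfsg.Agent.H01.exists_mul_of_mem_sup hnm hv'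

end PD

section dich

variable {a₁ b₁ u₁ w₁ a₂ b₂ u₂ w₂ : G} {c₁ c₂ : ℕ} (hF : FFS p V H K)
    (hP₁ : PD p V H K a₁ b₁ u₁ w₁ c₁) (hP₂ : PD p V H K a₂ b₂ u₂ w₂ c₂)
include hF hP₁ hP₂

theorem ec_comm_of_orth (h₁ : wc V K a₁ ≤ zc V K a₂) (h₂ : wc V K a₂ ≤ zc V K a₁)
    {g₁ g₂ : G} (hg₁ : g₁ ∈ ec K a₁) (hg₂ : g₂ ∈ ec K a₂) : g₁ * g₂ = g₂ * g₁ := by
  have key : ∀ t ∈ Tset K a₁, ∀ s ∈ Tset K a₂, t * s = s * t := by
    intro t ht s hs
    have htv := Tset_tv hF hP₁.ta ht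
    have hstv := Tset_tv hF hP₂.ta hs
    apply tv_comm hF htv.mem hstv.mem
    · intro ℓ hl
      exact hP₂.fix_of_zc hF (Tset_sub_ec hs) (h₁ (tvL_le_wc ht hl))
    · intro m hm
      exact hP₁.fix_of_zc hF (Tset_sub_ec ht) (h₂ (tvL_le_wc hs hm))
  have h3 : ∀ s ∈ Tset K a₂, ec K a₁ ≤ Subgroup.centralizer ({s} : Set G) := fun s hs =>
    ec_le_of_T fun t ht => Subgroup.mem_centralizer_singleton_iff.mpr (key t ht s hs)
  have h4 : ec K a₂ ≤ Subgroup.centralizer ({g₁} : Set G) :=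
    ec_le_of_T fun s hs => Subgroup.mem_centralizer_singleton_iff.mpr
      (Subgroup.mem_centralizer_singleton_iff.mp (h3 s hs hg₁)).symm
  exact (Subgroup.mem_centralizer_singleton_iff.mp (h4 hg₂)).symm

theorem zc_le_of_wc_eq (h : wc V K a₁ = wc V K a₂) : zc V K a₁ ≤ zc V K a₂ := by
  rw [← hP₂.zc_eq_cent hF]
  intro z hz
  refine ⟨hz.1, Subgroup.mem_centralizer_iff.mpr fun k hk => ?_⟩
  have hkK := kc_le_K hF hP₂.ta.mem hk
  have hkH := hF.hKH hkK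
  have h1 : k * z * k⁻¹ ∈ zc V K a₁ := Cfsg.Agent.H02.conj_mem_of_normalizer (norm_zc hF hkH (K_norm_ec hF hkK)) hz
  have h2 : k * z * k⁻¹ * z⁻¹ ∈ zc V K a₁ := Subgroup.mul_mem _ h1 (Subgroup.inv_mem _ hz)
  have h3 : k * z * k⁻¹ * z⁻¹ ∈ wc V K a₁ := by
    rw [h]
    exact hP₂.ec_comm_mem hF (kc_le_ec K a₂ hk) hz.1
  have h4 : k * z * k⁻¹ * z⁻¹ = 1 := by
    have : k * z * k⁻¹ * z⁻¹ ∈ wc V K a₁ ⊓ zc V K a₁ := ⟨h3, h2⟩
    rw [hP₁.wc_inf_zc hF] at this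
    exact this
  have h5 : k * z * k⁻¹ = z := by
    have e : k * z * k⁻¹ = (k * z * k⁻¹ * z⁻¹) * z := by group
    rw [e, h4, one_mul]
  calc k * z = k * z * k⁻¹ * k := by group
    _ = z * k := by rw [h5]

theorem mem_ec_of_wc_eq (h : wc V K a₁ = wc V K a₂) : a₂ ∈ ec K a₁ := by
  classical
  have hp : p.Prime := Fact.out
  have hZ : zc V K a₁ = zc V K a₂ :=
    le_antisymm (zc_le_of_wc_eq hF hP₁ hP₂ h) (zc_le_of_wc_eq hF hP₂ hP₁ h.symm)
  have ha₂ := hP₂.ta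
  have hx : u₂ ∈ wc V K a₁ := by
    rw [h]
    exact tvL_le_wc (self_mem_Tset a₂) hP₂.hu
  obtain ⟨t, ht, htE, hxt⟩ := (by
    rw [hP₁.wc_eq hF] at hx
    exact hP₁.exists_tv_of_mem_W hF hx hP₂.hu1 : ∃ t ∈ Tset K a₁, t ∈ plE a₁ b₁ ∧ u₂ ∈ tvL V t)
  have htv := Tset_tv hF hP₁.ta ht
  have htE' : t ∈ ec K a₁ := Tset_sub_ec ht
  have hL : tvL V t = tvL V a₂ := by
    rw [← zpowers_eq_of_prime_card htv.card hxt hP₂.hu1, zpowers_eq_of_prime_card ha₂.card hP₂.hu hP₂.hu1]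
  -- a vector moved by `t`
  have hmoved : ∃ v ∈ wc V K a₁, t * v ≠ v * t := by
    by_contra hcon
    push Not at hcon
    apply htv.ne
    apply hF.eq_one_of_comm_V htv.mem
    intro v hv
    obtain ⟨x, hx, z, hz, rfl⟩ := hP₁.split hF hv
    have h1 := hcon x hx
    have h2 := hP₁.fix_of_zc hF htE' hz
    calc x * z * t = x * (z * t) := by group
      _ = x * (t * z) := by rw [h2]
      _ = (x * t) * z := by group
      _ = (t * x) * z := by rw [h1]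
      _ = t * (x * z) := by group
  obtain ⟨v, hvW, hvm⟩ := hmoved
  have hvV := hP₁.wc_le_V hF hvW
  obtain ⟨y, hy⟩ : ∃ y, y = t * v * t⁻¹ * v⁻¹ := ⟨_, rfl⟩
  have hyL : y ∈ tvL V t := hy ▸ comm_mem_tvL hF hvV
  have hy1 : y ≠ 1 := by
    intro h1
    rw [h1] at hy
    apply hvm
    have e : t * v * t⁻¹ = v := by
      have e2 : t * v * t⁻¹ = (t * v * t⁻¹ * v⁻¹) * v := by group
      rw [e2, ← hy, one_mul]
    calc t * v = t * v * t⁻¹ * t := by group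
      _ = v * t := by rw [e]
  obtain ⟨m, hm⟩ : ∃ m, m = a₂ * v * a₂⁻¹ * v⁻¹ := ⟨_, rfl⟩
  have hmL : m ∈ tvL V t := by
    rw [hL]
    exact hm ▸ comm_mem_tvL hF hvV
  obtain ⟨n, hn⟩ := mem_pow_of_prime_card htv.card hyL hy1 hmL
  have hfixt : ∀ ℓ ∈ tvL V t, t * ℓ = ℓ * t := fun ℓ hl => tvL_fix hF htv hl
  have e1 : t * v * t⁻¹ = y * v := by rw [hy]; group
  have e2 := conj_pow_of_fix e1 (hfixt y hyL) n
  have e3 : a₂ * v * a₂⁻¹ = t ^ n * v * (t ^ n)⁻¹ := by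
    rw [e2, ← hn, hm]; group
  -- `g` is trivial on `V`
  have hg1 : (t ^ n)⁻¹ * a₂ = 1 := by
    apply hF.eq_one_of_comm_V (H.mul_mem (H.inv_mem (H.pow_mem htv.mem n)) ha₂.mem)
    obtain ⟨g, hgdef⟩ : ∃ g, g = (t ^ n)⁻¹ * a₂ := ⟨_, rfl⟩
    rw [← hgdef]
    have hC : V ≤ Subgroup.centralizer ({g} : Set G) := by
      rw [← hP₁.wc_sup_zc hF]
      apply sup_le
      · -- the plane is `L ⟨v⟩`
        have hvL : v ∉ tvL V t := fun hh => hvm (hfixt v hh)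
        have hcardsup := card_sup_zpowers_of_notMem (p := p) (B := tvL V t) hvL (hF.pow_V hvV)
          (fun b hb => hF.comm_V hvV (tvL_le hF htv.mem hb))
        rw [htv.card] at hcardsup
        have hle : tvL V t ⊔ Subgroup.zpowers v ≤ wc V K a₁ :=
          sup_le (tvL_le_wc ht) (Subgroup.zpowers_le.mpr hvW)
        have heq : tvL V t ⊔ Subgroup.zpowers v = wc V K a₁ :=
          Subgroup.eq_of_le_of_card_ge hle (by rw [hcardsup, hP₁.card_wc hF, pow_two])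
        rw [← heq]
        apply sup_le
        · intro ℓ hl
          apply Subgroup.mem_centralizer_singleton_iff.mpr
          have h1 := hfixt ℓ hl
          have h2 : a₂ * ℓ = ℓ * a₂ := tvL_fix hF ha₂ (hL ▸ hl)
          have h3 : (t ^ n)⁻¹ * ℓ = ℓ * (t ^ n)⁻¹ := ((show Commute t ℓ from h1).pow_left n).inv_left.eq
          rw [hgdef]
          calc ℓ * ((t ^ n)⁻¹ * a₂) = (ℓ * (t ^ n)⁻¹) * a₂ := by group
            _ = (t ^ n)⁻¹ * ℓ * a₂ := by rw [h3]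
            _ = (t ^ n)⁻¹ * (ℓ * a₂) := by group
            _ = (t ^ n)⁻¹ * (a₂ * ℓ) := by rw [h2]
            _ = (t ^ n)⁻¹ * a₂ * ℓ := by group
        · apply Subgroup.zpowers_le.mpr
          apply Subgroup.mem_centralizer_singleton_iff.mpr
          rw [hgdef]
          calc v * ((t ^ n)⁻¹ * a₂) = (t ^ n)⁻¹ * (t ^ n * v * (t ^ n)⁻¹) * a₂ := by group
            _ = (t ^ n)⁻¹ * (a₂ * v * a₂⁻¹) * a₂ := by rw [e3]
            _ = (t ^ n)⁻¹ * a₂ * v := by group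
      · intro z hz
        apply Subgroup.mem_centralizer_singleton_iff.mpr
        have h1 := hP₁.fix_of_zc hF htE' hz
        have h2 := hP₂.fix_of_zc hF (self_mem_ec K a₂) (hZ ▸ hz)
        have h3 : (t ^ n)⁻¹ * z = z * (t ^ n)⁻¹ := ((show Commute t z from h1).pow_left n).inv_left.eq
        rw [hgdef]
        calc z * ((t ^ n)⁻¹ * a₂) = (z * (t ^ n)⁻¹) * a₂ := by group
          _ = (t ^ n)⁻¹ * z * a₂ := by rw [h3]
          _ = (t ^ n)⁻¹ * (z * a₂) := by group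
          _ = (t ^ n)⁻¹ * (a₂ * z) := by rw [h2]
          _ = (t ^ n)⁻¹ * a₂ * z := by group
    intro v' hv'
    exact Subgroup.mem_centralizer_singleton_iff.mp (hC hv')
  have : a₂ = t ^ n := by
    have := inv_mul_eq_one.mp hg1
    exact this.symm
  rw [this]
  exact Subgroup.pow_mem _ htE' n

theorem ec_le_of_wc_eq (h : wc V K a₁ = wc V K a₂) : ec K a₂ ≤ ec K a₁ := by
  apply ec_le_of_T
  rintro t ⟨k, hk, rfl⟩
  exact Cfsg.Agent.H02.conj_mem_of_normalizer (K_norm_ec hF hk) (mem_ec_of_wc_eq hF hP₁ hP₂ h)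

/-- **The dichotomy.** -/
theorem ec_dich : ec K a₁ = ec K a₂ ∨
    (wc V K a₁ ≤ zc V K a₂ ∧ wc V K a₂ ≤ zc V K a₁ ∧ ∀ g₁ ∈ ec K a₁, ∀ g₂ ∈ ec K a₂, g₁ * g₂ = g₂ * g₁) := by
  by_cases h : wc V K a₁ = wc V K a₂
  · left
    exact le_antisymm (ec_le_of_wc_eq hF hP₂ hP₁ h.symm) (ec_le_of_wc_eq hF hP₁ hP₂ h)
  · right
    have h1 : wc V K a₁ ≤ zc V K a₂ := (dich1 hF hP₁ hP₂).resolve_left h
    have h2 : wc V K a₂ ≤ zc V K a₁ := (dich1 hF hP₂ hP₁).resolve_left (Ne.symm h)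
    exact ⟨h1, h2, fun g₁ hg₁ g₂ hg₂ => ec_comm_of_orth hF hP₁ hP₂ h1 h2 hg₁ hg₂⟩

end dich

/-- Minimal offenders. -/
def MinOff (p : ℕ) (V H A : Subgroup G) : Prop :=
  A ≤ H ∧ IsBestOffenderOn p V A ∧ ⁅V, A⁆ ≠ ⊥ ∧
    ∀ B : Subgroup G, B ≤ A → IsBestOffenderOn p V B → ⁅V, B⁆ ≠ ⊥ → B = A

/-- `H` is generated by minimal offenders. -/
theorem H_gen (hF : FFS p V H K)
    (hS3 : H = ⨆ A : {A : Subgroup G // A ≤ H ∧ IsBestOffenderOn p V A}, (A : Subgroup G))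
    {S : Subgroup G} (hS : ∀ A, MinOff p V H A → A ≤ S) : H ≤ S := by
  rw [hS3]
  apply iSup_le
  rintro ⟨A, hAH, hA⟩
  obtain ⟨k, B, hB, -, hsup⟩ := hF.decomp _ A rfl hAH hA
  change A ≤ S
  rw [← hsup]
  apply iSup_le
  intro i
  obtain ⟨h1, h2, h3, h4⟩ := hB i
  exact hS _ ⟨h1.trans hAH, h2, h3, h4⟩

section global

variable {a b u w : G} {c : ℕ} (hF : FFS p V H K) (hP : PD p V H K a b u w c)
    (hS3 : H = ⨆ A : {A : Subgroup G // A ≤ H ∧ IsBestOffenderOn p V A}, (A : Subgroup G))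
include hF hP hS3

/-- `H` normalizes `E`. -/
theorem H_norm_ec : H ≤ Subgroup.normalizer ((ec K a : Subgroup G) : Set G) := by
  apply H_gen hF hS3
  rintro A ⟨hAH, hA, hAV, hmin⟩
  obtain ⟨a₂, rfl, ha₂⟩ := tv_of_min hF hAH hA hAV hmin
  obtain ⟨b₂, u₂, w₂, c₂, hP₂⟩ := exists_PD_of_tv hF ha₂
  apply Subgroup.zpowers_le.mpr
  rcases ec_dich hF hP hP₂ with h | ⟨-, -, h⟩
  · apply Subgroup.le_normalizer
    rw [h]
    exact self_mem_ec K a₂
  · apply Subgroup.centralizer_le_normalizer _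
    refine Subgroup.mem_centralizer_iff.mpr fun g hg => h g hg a₂ (self_mem_ec K a₂)

/-- `H` normalizes `W`. -/
theorem H_norm_wc : H ≤ Subgroup.normalizer ((wc V K a : Subgroup G) : Set G) := fun g hg =>
  norm_wc hF hg (H_norm_ec hF hP hS3 hg)

/-- The complement. -/
theorem ec_inf_F : ec K a ⊓ (H ⊓ Subgroup.centralizer ((wc V K a : Subgroup G) : Set G)) = ⊥ := by
  rw [Subgroup.eq_bot_iff_forall]
  rintro g ⟨hg, -, hc⟩
  apply hP.ec_faithful hF hg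
  intro m hm
  exact (Subgroup.mem_centralizer_iff.mp hc m hm).symm

theorem ec_comm_F : ⁅ec K a, H ⊓ Subgroup.centralizer ((wc V K a : Subgroup G) : Set G)⁆ = ⊥ := by
  have hinf := ec_inf_F hF hP hS3
  rw [Subgroup.commutator_eq_bot_iff_le_centralizer]
  intro e he
  refine Subgroup.mem_centralizer_iff.mpr ?_
  rintro f ⟨hfH, hfc⟩
  have heH := ec_le_H hF hP.ta.mem he
  have h1 : e * f * e⁻¹ ∈ H ⊓ Subgroup.centralizer ((wc V K a : Subgroup G) : Set G) :=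
    Cfsg.Agent.H02.conj_mem_of_normalizer (norm_inf_cent (Subgroup.le_normalizer heH) (H_norm_wc hF hP hS3 heH)) ⟨hfH, hfc⟩
  have h2 : f * e⁻¹ * f⁻¹ ∈ ec K a :=
    Cfsg.Agent.H02.conj_mem_of_normalizer (H_norm_ec hF hP hS3 hfH) (Subgroup.inv_mem _ he)
  have h3 : e * f * e⁻¹ * f⁻¹ ∈ ec K a ⊓ (H ⊓ Subgroup.centralizer ((wc V K a : Subgroup G) : Set G)) := by
    constructor
    · have e1 : e * f * e⁻¹ * f⁻¹ = e * (f * e⁻¹ * f⁻¹) := by group
      rw [e1]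
      exact Subgroup.mul_mem _ he h2
    · exact Subgroup.mul_mem _ h1 (Subgroup.inv_mem _ ⟨hfH, hfc⟩)
  rw [hinf] at h3
  have h4 : e * f * e⁻¹ * f⁻¹ = 1 := h3
  have h5 : e * f * e⁻¹ = f := mul_inv_eq_one.mp h4
  calc f * e = e * f * e⁻¹ * e := by rw [h5]
    _ = e * f := by group

theorem ec_sup_F : ec K a ⊔ (H ⊓ Subgroup.centralizer ((wc V K a : Subgroup G) : Set G)) = H := by
  apply le_antisymm
  · exact sup_le (ec_le_H hF hP.ta.mem) inf_le_left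
  · apply H_gen hF hS3
    rintro A ⟨hAH, hA, hAV, hmin⟩
    obtain ⟨a₂, rfl, ha₂⟩ := tv_of_min hF hAH hA hAV hmin
    obtain ⟨b₂, u₂, w₂, c₂, hP₂⟩ := exists_PD_of_tv hF ha₂
    apply Subgroup.zpowers_le.mpr
    rcases ec_dich hF hP hP₂ with h | ⟨h, -, -⟩
    · apply Subgroup.mem_sup_left
      rw [h]
      exact self_mem_ec K a₂
    · apply Subgroup.mem_sup_right
      refine ⟨ha₂.mem, Subgroup.mem_centralizer_iff.mpr fun m hm => ?_⟩
      exact (hP₂.fix_of_zc hF (self_mem_ec K a₂) (h hm)).symm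

theorem comm_V_F : ⁅V, H ⊓ Subgroup.centralizer ((wc V K a : Subgroup G) : Set G)⁆ ≤ zc V K a := by
  rw [Subgroup.commutator_le]
  rintro v hv f ⟨hfH, hfc⟩
  obtain ⟨x, hx, z, hz, rfl⟩ := hP.split hF hv
  have h1 : f * z * f⁻¹ ∈ zc V K a :=
    Cfsg.Agent.H02.conj_mem_of_normalizer (norm_zc hF hfH (H_norm_ec hF hP hS3 hfH)) hz
  have hxf : x * f = f * x := Subgroup.mem_centralizer_iff.mp hfc x hx
  have e1 : f * x⁻¹ * f⁻¹ = x⁻¹ := by
    have h2 : x⁻¹ * f = f * x⁻¹ := ((show Commute x f from hxf).inv_left).eq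
    calc f * x⁻¹ * f⁻¹ = x⁻¹ * f * f⁻¹ := by rw [h2]
      _ = x⁻¹ := by group
  have e2 : ⁅x * z, f⁆ = z * (f * z * f⁻¹)⁻¹ := by
    have hxV := hP.wc_le_V hF hx
    have hzV := hz.1
    rw [commutatorElement_def]
    have e3 : x * z * f * (x * z)⁻¹ * f⁻¹ = x * z * (f * z⁻¹ * f⁻¹) * (f * x⁻¹ * f⁻¹) := by group
    rw [e3, e1]
    have hz2 : f * z⁻¹ * f⁻¹ ∈ V := hF.conj_memV hfH (V.inv_mem hzV)
    have e4 : x * z * (f * z⁻¹ * f⁻¹) * x⁻¹ = z * (f * z⁻¹ * f⁻¹) := by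
      rw [hF.comm_V (V.mul_mem hxV hzV) hz2]
      rw [hF.comm_V hxV hzV]
      have : f * z⁻¹ * f⁻¹ * (z * x) * x⁻¹ = f * z⁻¹ * f⁻¹ * z := by group
      rw [this, hF.comm_V hz2 hzV]
    rw [e4]
    group
  rw [e2]
  exact Subgroup.mul_mem _ hz (Subgroup.inv_mem _ h1)

end global

end Cfsg.Agent.H14
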