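import Mathlib
import Cfsg.Agent.Lib.H14.BO6
/-! The structure theorem for failure of factorization. -/
set_option autoImplicit false
set_option linter.unusedSectionVars false
set_option linter.unusedVariables false
set_option linter.style.longLine false
namespace Cfsg.Agent.H14
open Cfsg
open scoped commutatorElement
open Matrix MatrixGroups

variable {G : Type*} [Group G] {p : ℕ} [Fact p.Prime] {V H K : Subgroup G} [Finite G]

/-- The index set of the decomposition. -/
abbrev FFIdx (p : ℕ) (V H K : Subgroup G) : Type _ :=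
  {E : Subgroup G // ∃ A : Subgroup G, A ≤ H ∧ IsBestOffenderOn p V A ∧ ⁅V, A⁆ ≠ ⊥ ∧
    (∀ B : Subgroup G, B ≤ A → IsBestOffenderOn p V B → ⁅V, B⁆ ≠ ⊥ → B = A) ∧ E = ⁅K, A⁆ ⊔ A}

/-- The coprime decomposition of `V` under `K`. -/
lemma coprime_decomp_V (hF : FFS p V H K) :
    (V ⊓ Subgroup.centralizer (K : Set G)) ⊓ ⁅V, K⁆ = ⊥ ∧
      (V ⊓ Subgroup.centralizer (K : Set G)) ⊔ ⁅V, K⁆ = V := by
  haveI : IsMulCommutative V := ⟨⟨fun x y => Subtype.ext (hF.comm_V x.2 y.2)⟩⟩
  have hpg : IsPGroup p V := fun x => ⟨1, Subtype.ext (by simpa using hF.pow_V x.2)⟩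
  obtain ⟨n, hn⟩ := IsPGroup.iff_card.mp hpg
  have hcop : (Nat.card K).Coprime (Nat.card V) := by
    rw [hn]
    exact Nat.Coprime.pow_right n hF.hKc
  exact Cfsg.Agent.H01.abelian_decomposition K V (hF.hKH.trans hF.hHV) hcop

lemma FFIdx.exists_PD (hF : FFS p V H K) (E : FFIdx p V H K) :
    ∃ a b u w c, PD p V H K a b u w c ∧ (E : Subgroup G) = ec K a := by
  obtain ⟨E, A, hAH, hA, hAV, hmin, rfl⟩ := E
  obtain ⟨a, rfl, ha⟩ := tv_of_min hF hAH hA hAV hmin
  obtain ⟨b, u, w, c, hP⟩ := exists_PD_of_tv hF ha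
  exact ⟨a, b, u, w, c, hP, rfl⟩

theorem FFIdx.main (hF : FFS p V H K)
    (hS3 : H = ⨆ A : {A : Subgroup G // A ≤ H ∧ IsBestOffenderOn p V A}, (A : Subgroup G)) (hH1 : H ≠ ⊥) :
    (p = 2 ∨ p = 3) ∧
    (∀ E : FFIdx p V H K, H ≤ Subgroup.normalizer ((E : Subgroup G) : Set G) ∧
      Nonempty (↥(E : Subgroup G) ≃* SL(2, ZMod p)) ∧ Nat.card ↥(⁅V, (E : Subgroup G)⁆) = p ^ 2) ∧
    iSupIndep (fun E : FFIdx p V H K => (E : Subgroup G)) ∧
    (⨆ E : FFIdx p V H K, (E : Subgroup G)) = H ∧
    iSupIndep (fun o : Option (FFIdx p V H K) =>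
      o.elim (V ⊓ Subgroup.centralizer (H : Set G)) (fun E => ⁅V, (E : Subgroup G)⁆)) ∧
    (V ⊓ Subgroup.centralizer (H : Set G)) ⊔ (⨆ E : FFIdx p V H K, ⁅V, (E : Subgroup G)⁆) = V := by
  classical
  -- some minimal offender exists
  have hex : ∃ A, MinOff p V H A := by
    by_contra hcon
    push Not at hcon
    apply hH1
    rw [eq_bot_iff]
    exact H_gen hF hS3 fun A hA => absurd hA (hcon A)
  have hp23 : p = 2 ∨ p = 3 := by
    obtain ⟨A, hAH, hA, hAV, hmin⟩ := hex
    obtain ⟨a, rfl, ha⟩ := tv_of_min hF hAH hA hAV hmin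
    obtain ⟨b, u, w, c, hP⟩ := exists_PD_of_tv hF ha
    exact hP.p_cases hF
  -- the elements of the family inside `H`
  have hEH : ∀ E : FFIdx p V H K, (E : Subgroup G) ≤ H := by
    intro E
    obtain ⟨a, b, u, w, c, hP, hE⟩ := FFIdx.exists_PD hF E
    rw [hE]
    exact ec_le_H hF hP.ta.mem
  -- two distinct members are orthogonal
  have horth : ∀ E E' : FFIdx p V H K, E' ≠ E → ⁅V, (E' : Subgroup G)⁆ ≤ V ⊓ Subgroup.centralizer ((E : Subgroup G) : Set G) := by
    intro E E' hne
    obtain ⟨a, b, u, w, c, hP, hE⟩ := FFIdx.exists_PD hF E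
    obtain ⟨a', b', u', w', c', hP', hE'⟩ := FFIdx.exists_PD hF E'
    rw [hE, hE']
    rcases ec_dich hF hP' hP with h | ⟨h, -, -⟩
    · exact absurd (Subtype.ext (hE'.trans (h.trans hE.symm))) hne
    · exact h
  refine ⟨hp23, ?_, ?_, ?_, ?_, ?_⟩
  · intro E
    obtain ⟨a, b, u, w, c, hP, hE⟩ := FFIdx.exists_PD hF E
    obtain ⟨φ, -, -⟩ := hP.exists_iso hF
    rw [← hP.ec_eq hF] at φ
    rw [hE]
    exact ⟨H_norm_ec hF hP hS3, ⟨φ⟩, hP.card_wc hF⟩
  · intro E
    obtain ⟨a, b, u, w, c, hP, hE⟩ := FFIdx.exists_PD hF E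
    have hle : (⨆ (j : FFIdx p V H K) (_ : j ≠ E), (j : Subgroup G)) ≤
        H ⊓ Subgroup.centralizer ((wc V K a : Subgroup G) : Set G) := by
      refine iSup₂_le fun E' hne => ?_
      refine le_inf (hEH E') ?_
      intro g hg
      refine Subgroup.mem_centralizer_iff.mpr fun m hm => ?_
      have h1 := horth E' E (Ne.symm hne)
      have hm' : m ∈ ⁅V, (E : Subgroup G)⁆ := by rw [hE]; exact hm
      exact (Subgroup.mem_centralizer_iff.mp (h1 hm').2 g hg).symm
    refine Disjoint.mono_right hle ?_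
    change Disjoint (E : Subgroup G) _
    rw [disjoint_iff, hE]
    exact ec_inf_F hF hP hS3
  · apply le_antisymm
    · exact iSup_le hEH
    · apply H_gen hF hS3
      rintro A ⟨hAH, hA, hAV, hmin⟩
      exact le_iSup_of_le (⟨⁅K, A⁆ ⊔ A, A, hAH, hA, hAV, hmin, rfl⟩ : FFIdx p V H K) le_sup_right
  · -- independence of the pieces of `V`
    intro o
    cases o with
    | none =>
      have hle : (⨆ (j : Option (FFIdx p V H K)) (_ : j ≠ none), j.elim (V ⊓ Subgroup.centralizer (H : Set G)) (fun E => ⁅V, (E : Subgroup G)⁆)) ≤ ⁅V, K⁆ := by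
        refine iSup₂_le fun j hj => ?_
        cases j with
        | none => exact absurd rfl hj
        | some E =>
          obtain ⟨a, b, u, w, c, hP, hE⟩ := FFIdx.exists_PD hF E
          change ⁅V, (E : Subgroup G)⁆ ≤ ⁅V, K⁆
          rw [hE]
          have h1 : wc V K a ⊓ Subgroup.centralizer (kc K a : Set G) = ⊥ := by
            rw [Subgroup.eq_bot_iff_forall]
            rintro x ⟨hx, hxc⟩
            have h2 : x ∈ V ⊓ Subgroup.centralizer (kc K a : Set G) := ⟨hP.wc_le_V hF hx, hxc⟩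
            rw [hP.zc_eq_cent hF] at h2
            have h3 : x ∈ wc V K a ⊓ zc V K a := ⟨hx, h2⟩
            rw [hP.wc_inf_zc hF] at h3
            exact h3
          have hK1 := kc_le_K hF hP.ta.mem
          have hnorm : kc K a ≤ Subgroup.normalizer ((wc V K a : Subgroup G) : Set G) := fun g hg =>
            norm_wc hF (hF.hKH (hK1 hg)) (K_norm_ec hF (hK1 hg))
          have h2 := comm_eq_self_of_inf hF (hP.wc_le_V hF) hK1 hnorm h1
          change wc V K a ≤ _
          rw [← h2]
          exact Subgroup.commutator_mono (hP.wc_le_V hF) hK1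
      refine Disjoint.mono_right hle ?_
      change Disjoint (V ⊓ Subgroup.centralizer (H : Set G)) _
      have hdec := coprime_decomp_V hF
      rw [disjoint_iff, eq_bot_iff, ← hdec.1]
      exact inf_le_inf_right _ (inf_le_inf_left _ (Subgroup.centralizer_le hF.hKH))
    | some E =>
      obtain ⟨a, b, u, w, c, hP, hE⟩ := FFIdx.exists_PD hF E
      have hle : (⨆ (j : Option (FFIdx p V H K)) (_ : j ≠ some E), j.elim (V ⊓ Subgroup.centralizer (H : Set G)) (fun E => ⁅V, (E : Subgroup G)⁆)) ≤ zc V K a := by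
        refine iSup₂_le fun j hj => ?_
        cases j with
        | none =>
          change V ⊓ Subgroup.centralizer (H : Set G) ≤ V ⊓ Subgroup.centralizer (ec K a : Set G)
          exact inf_le_inf_left _ (Subgroup.centralizer_le (ec_le_H hF hP.ta.mem))
        | some E' =>
          change ⁅V, (E' : Subgroup G)⁆ ≤ V ⊓ Subgroup.centralizer (ec K a : Set G)
          rw [← hE]
          exact horth E E' (fun h => hj (by rw [h]))
      refine Disjoint.mono_right hle ?_
      change Disjoint ⁅V, (E : Subgroup G)⁆ _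
      rw [disjoint_iff, hE]
      exact hP.wc_inf_zc hF
  · -- the pieces generate
    apply le_antisymm
    · refine sup_le inf_le_left (iSup_le fun E => ?_)
      rw [Subgroup.commutator_le]
      intro v hv g hg
      exact Cfsg.Agent.H02.comm_mem (hF.hHV (hEH E hg)) hv
    · obtain ⟨T, hT⟩ : ∃ T, T = ⨆ E : FFIdx p V H K, ⁅V, (E : Subgroup G)⁆ := ⟨_, rfl⟩
      rw [← hT]
      have hTV : T ≤ V := by
        rw [hT]
        refine iSup_le fun E => ?_
        rw [Subgroup.commutator_le]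
        intro v hv g hg
        exact Cfsg.Agent.H02.comm_mem (hF.hHV (hEH E hg)) hv
      have hdec := coprime_decomp_V hF
      have h1 : V ⊓ Subgroup.centralizer (K : Set G) ≤ V ⊓ Subgroup.centralizer (H : Set G) := by
        rintro v ⟨hv, hc⟩
        refine ⟨hv, ?_⟩
        have hle : H ≤ Subgroup.centralizer ({v} : Set G) := by
          apply H_gen hF hS3
          rintro A ⟨hAH, hA, hAV, hmin⟩
          obtain ⟨a, rfl, ha⟩ := tv_of_min hF hAH hA hAV hmin
          obtain ⟨b, u, w, c, hP⟩ := exists_PD_of_tv hF ha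
          have hK1 := kc_le_K hF hP.ta.mem
          have h2 : v ∈ V ⊓ Subgroup.centralizer (kc K a : Set G) :=
            ⟨hv, Subgroup.centralizer_le hK1 hc⟩
          rw [hP.zc_eq_cent hF] at h2
          apply Subgroup.zpowers_le.mpr
          exact Subgroup.mem_centralizer_singleton_iff.mpr (hP.fix_of_zc hF (self_mem_ec K a) h2)
        refine Subgroup.mem_centralizer_iff.mpr fun h hh => ?_
        exact Subgroup.mem_centralizer_singleton_iff.mp (hle hh)
      have h2 : ⁅V, K⁆ ≤ T := by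
        have hstb : H ≤ Stb V T hTV := by
          apply H_gen hF hS3
          rintro A ⟨hAH, hA, hAV, hmin⟩ g hg
          obtain ⟨a, rfl, ha⟩ := tv_of_min hF hAH hA hAV hmin
          obtain ⟨b, u, w, c, hP⟩ := exists_PD_of_tv hF ha
          refine ⟨hF.hHV (hAH hg), fun v hv => ?_⟩
          have h3 := hP.ec_comm_mem hF ((le_sup_right : Subgroup.zpowers a ≤ ec K a) hg) hv
          rw [hT]
          exact (le_iSup_of_le (⟨ec K a, Subgroup.zpowers a, hAH, hA, hAV, hmin, rfl⟩ : FFIdx p V H K) le_rfl : wc V K a ≤ _) h3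
        rw [Subgroup.commutator_le]
        intro v hv k hk
        have h3 := (hstb (hF.hKH hk)).2 v hv
        have h4 := T.inv_mem h3
        have e : (k * v * k⁻¹ * v⁻¹)⁻¹ = ⁅v, k⁆ := by rw [commutatorElement_def]; group
        rwa [e] at h4
      conv_lhs => rw [← hdec.2]
      exact sup_le_sup h1 h2

end Cfsg.Agent.H14
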