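import Mathlib
import Cfsg.Agent.Lib.H14.BO7
import Cfsg.Agent.Lib.H03.PSolv
import Cfsg.Agent.Lib.H08.PCoreL
/-! `C(O_{p'}) ≤ O_{p'}` for `p`-separable groups with `O_p = 1`. -/
set_option autoImplicit false
set_option linter.unusedSectionVars false
set_option linter.unusedVariables false
set_option linter.style.longLine false
namespace Cfsg.Agent.H14
open Cfsg
open scoped commutatorElement

/-- `p`-solvability passes to subgroups. -/
theorem isPSolvable_subgroup' {G : Type*} [Group G] [Finite G] {p : ℕ} [Fact p.Prime]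
    (h : IsPSolvable p G) (K : Subgroup G) : IsPSolvable p K := by
  obtain ⟨n, H, h0, hn, hmono, hnorm, hfac⟩ := h
  refine ⟨n, fun i => (H i).subgroupOf K, ?_, ?_, ?_, ?_, ?_⟩
  · simp [h0]
  · simp [hn]
  · intro i j hij
    exact fun x hx => hmono hij hx
  · intro i
    haveI := hnorm i
    infer_instance
  · intro i
    have hle : H i.castSucc ≤ H i.succ := hmono (Fin.castSucc_lt_succ).le
    have hd : ((H i.castSucc).subgroupOf K).relIndex ((H i.succ).subgroupOf K) ∣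
        (H i.castSucc).relIndex (H i.succ) := by
      have e1 : ((H i.castSucc).subgroupOf K).relIndex ((H i.succ).subgroupOf K) =
          (H i.castSucc).relIndex (H i.succ ⊓ K) := by
        have e0 : ((H i.castSucc).subgroupOf K).relIndex ((H i.succ).subgroupOf K) =
            (H i.castSucc).relIndex (((H i.succ).subgroupOf K).map K.subtype) :=
          Subgroup.relIndex_comap _ _ _
        rw [e0, Subgroup.subgroupOf_map_subtype]
      rw [e1]
      haveI := hnorm i.castSucc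
      have e2 : (H i.castSucc).relIndex (H i.succ ⊓ K) = (H i.castSucc).relIndex ((H i.succ ⊓ K) ⊔ H i.castSucc) :=
        (Subgroup.relIndex_sup_right _ _).symm
      rw [e2]
      exact ⟨_, (Subgroup.relIndex_mul_relIndex _ _ _ le_sup_right (sup_le inf_le_left hle)).symm⟩
    rcases hfac i with ⟨m, hm⟩ | hc
    · left
      rw [hm] at hd
      obtain ⟨l, _, hl⟩ := (Nat.dvd_prime_pow (Fact.out : p.Prime)).mp hd
      exact ⟨l, hl⟩
    · right
      exact Nat.Coprime.coprime_dvd_left hd hc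

variable {X : Type*} [Group X] [Finite X] {p : ℕ} [Fact p.Prime]

/-- Hall–Higman dual: for `p`-separable `X` with `O_p(X) = 1`, `O_{p'}(X)` contains its centralizer. -/
theorem cent_pPrimeCore_le (hs : IsPSolvable p X) (hO : pCore p X = ⊥) :
    Subgroup.centralizer (pPrimeCore p X : Set X) ≤ pPrimeCore p X := by
  classical
  have hKn : (pPrimeCore p X).Normal := Cfsg.Agent.H03.pPrimeCore_normal'
  obtain ⟨K, hK⟩ : ∃ K, K = pPrimeCore p X := ⟨_, rfl⟩
  rw [← hK] at hKn ⊢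
  haveI := hKn
  have hKc : (Nat.card K).Coprime p := hK ▸ Cfsg.Agent.H06.coprime_card_pPrimeCore p
  obtain ⟨C, hC⟩ : ∃ C, C = Subgroup.centralizer (K : Set X) := ⟨_, rfl⟩
  rw [← hC]
  have hCn : C.Normal := hC ▸ Subgroup.normal_centralizer
  by_contra hne
  let f := QuotientGroup.mk' K
  have hsurj : Function.Surjective f := QuotientGroup.mk'_surjective K
  have hCb : C.map f ≠ ⊥ := by
    intro h
    apply hne
    intro x hx
    have h1 : f x ∈ C.map f := ⟨x, hx, rfl⟩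
    rw [h] at h1
    exact (QuotientGroup.eq_one_iff x).mp h1
  haveI hCbn : (C.map f).Normal := hCn.map f hsurj
  obtain ⟨M, hMC, hMn, hM1, hMp⟩ := Cfsg.Agent.H03.exists_normal_le_of_isPSolvable
    (Cfsg.Agent.H03.isPSolvable_of_surjective hsurj hs) hCbn hCb
  -- `M` is a `p`-group
  have hMp' : IsPGroup p M := by
    rcases hMp with h | h
    · exact h
    · exfalso
      have hbot : pPrimeCore p (X ⧸ K) = ⊥ := by
        subst hK
        exact Cfsg.Agent.H08.pPrimeCore_quotient_eq_bot p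
      apply hM1
      rw [eq_bot_iff, ← hbot]
      exact Cfsg.Agent.H08.le_pPrimeCore hMn h
  -- the preimage in `C`
  obtain ⟨D, hD⟩ : ∃ D, D = C ⊓ M.comap f := ⟨_, rfl⟩
  have hDmem : ∀ x, x ∈ D ↔ x ∈ C ∧ f x ∈ M := by
    intro x
    rw [hD]
    rfl
  have hDn : D.Normal := by
    rw [hD]
    haveI := hMn
    exact Subgroup.normal_inf_normal _ _
  haveI := hDn
  -- `D` is nilpotent
  have hnil : Group.IsNilpotent D := by
    let g : D →* M := (f.comp D.subtype).codRestrict M (fun d => ((hDmem _).mp d.2).2)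
    haveI : Group.IsNilpotent M := IsPGroup.isNilpotent hMp'
    refine Subgroup.isNilpotent_of_ker_le_center g ?_
    intro d hd
    have h1 : f (d : X) = 1 := congrArg Subtype.val (MonoidHom.mem_ker.mp hd)
    have h2 : (d : X) ∈ K := (QuotientGroup.eq_one_iff _).mp h1
    refine Subgroup.mem_center_iff.mpr fun y => ?_
    apply Subtype.ext
    have hy : (y : X) ∈ C := ((hDmem _).mp y.2).1
    rw [hC] at hy
    exact Subgroup.mem_centralizer_iff.mp hy _ h2 |>.symm
  -- the Sylow `p`-subgroup of `D` is normal in `X`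
  obtain ⟨T⟩ : Nonempty (Sylow p D) := inferInstance
  have hTn : (T : Subgroup D).Normal :=
    Sylow.normal_of_normalizerCondition (Group.normalizerCondition_of_isNilpotent) T
  haveI := hTn
  haveI hTc : (T : Subgroup D).Characteristic := T.characteristic_of_normal hTn
  have hTX : ((T : Subgroup D).map D.subtype).Normal := inferInstance
  have hTp : IsPGroup p ((T : Subgroup D).map D.subtype) :=
    T.isPGroup'.map D.subtype
  have hT1 : (T : Subgroup D).map D.subtype = ⊥ := by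
    rw [eq_bot_iff, ← hO]
    exact Cfsg.Agent.H01.le_pCore hTX hTp
  have hTb : (T : Subgroup D) = ⊥ := (Subgroup.map_eq_bot_iff_of_injective _ D.subtype_injective).mp hT1
  have hDc : (Nat.card D).Coprime p := by
    have h1 : Nat.card (T : Subgroup D) = 1 := by rw [hTb]; exact Subgroup.card_bot
    have h2 := T.card_eq_multiplicity
    rw [h1] at h2
    have hp : p.Prime := Fact.out
    rw [Nat.coprime_comm, Nat.Prime.coprime_iff_not_dvd hp]
    intro hdvd
    have h3 : 0 < (Nat.card D).factorization p :=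
      hp.factorization_pos_of_dvd Nat.card_pos.ne' hdvd
    have h4 : p ^ (Nat.card D).factorization p ≠ 1 := by
      have := Nat.one_lt_pow h3.ne' hp.one_lt
      omega
    exact h4 h2.symm
  have hDK : D ≤ K := by
    rw [hK]
    exact Cfsg.Agent.H08.le_pPrimeCore hDn hDc
  apply hM1
  rw [Subgroup.eq_bot_iff_forall]
  intro m hm
  obtain ⟨x, hx, rfl⟩ := hMC hm
  have hxD : x ∈ D := (hDmem _).mpr ⟨hx, hm⟩
  exact (QuotientGroup.eq_one_iff x).mpr (hDK hxD)

/-- A normal subgroup's image has trivial `O_p`, if `G / ker` has. -/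
theorem pCore_bot_of_image {G Γ : Type*} [Group G] [Finite G] [Group Γ] [Finite Γ] (f : G →* Γ)
    (hO : ∀ M : Subgroup G, M.Normal → (∀ x ∈ M, ∃ k : ℕ, f x ^ p ^ k = 1) → ∀ x ∈ M, f x = 1)
    (Y : Subgroup G) [hY : Y.Normal] :
    pCore p ↥(Y.map f) = ⊥ := by
  classical
  obtain ⟨Q, hQ⟩ : ∃ Q, Q = Y.map f := ⟨_, rfl⟩
  rw [← hQ]
  haveI hNn : (pCore p ↥Q).Normal := Cfsg.Agent.H01.pCore_normal p
  have hNp : IsPGroup p (pCore p ↥Q) := Cfsg.Agent.H01.pCore_isPGroup p
  obtain ⟨D, hD⟩ : ∃ D, D = (pCore p ↥Q).map Q.subtype := ⟨_, rfl⟩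
  have hDQ : D ≤ Q := by
    rw [hD]
    exact Subgroup.map_subtype_le _
  have hDmem : ∀ y (hy : y ∈ Q), y ∈ D ↔ (⟨y, hy⟩ : Q) ∈ pCore p ↥Q := by
    intro y hy
    rw [hD]
    constructor
    · rintro ⟨z, hz, rfl⟩
      exact hz
    · intro h
      exact ⟨_, h, rfl⟩
  have hDconj : ∀ q ∈ Q, ∀ y ∈ D, q * y * q⁻¹ ∈ D := by
    intro q hq y hy
    have hyQ := hDQ hy
    have h1 := hNn.conj_mem _ ((hDmem y hyQ).mp hy) ⟨q, hq⟩
    exact (hDmem _ (Q.mul_mem (Q.mul_mem hq hyQ) (Q.inv_mem hq))).mpr h1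
  have hDp : ∀ y ∈ D, ∃ k : ℕ, y ^ p ^ k = 1 := by
    intro y hy
    have hyQ := hDQ hy
    obtain ⟨k, hk⟩ := hNp ⟨⟨y, hyQ⟩, (hDmem y hyQ).mp hy⟩
    refine ⟨k, ?_⟩
    have := congrArg (fun z : pCore p ↥Q => ((z : Q) : Γ)) hk
    simpa using this
  have hQconj : ∀ g : G, ∀ q ∈ Q, f g * q * (f g)⁻¹ ∈ Q := by
    intro g q hq
    rw [hQ] at hq ⊢
    obtain ⟨y, hy, rfl⟩ := hq
    exact ⟨g * y * g⁻¹, hY.conj_mem y hy g, by simp⟩
  -- `D` is invariant under the image of `G`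
  have hDinv : ∀ g : G, ∀ y ∈ D, f g * y * (f g)⁻¹ ∈ D := by
    intro g y hy
    let N' : Subgroup ↥Q := (D.comap (MulAut.conj (f g)⁻¹).toMonoidHom).subgroupOf Q
    have hN'mem : ∀ z (hz : z ∈ Q), (⟨z, hz⟩ : Q) ∈ N' ↔ (f g)⁻¹ * z * (f g)⁻¹⁻¹ ∈ D := fun z hz => Iff.rfl
    have hN'n : N'.Normal := by
      constructor
      rintro ⟨z, hz⟩ hzN ⟨q, hq⟩
      have h1 := (hN'mem z hz).mp hzN
      apply (hN'mem _ _).mpr
      have hq' : (f g)⁻¹ * q * (f g)⁻¹⁻¹ ∈ Q := by
        have := hQconj g⁻¹ q hq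
        simpa using this
      have h2 := hDconj _ hq' _ h1
      have e : (f g)⁻¹ * (q * z * q⁻¹) * (f g)⁻¹⁻¹ =
          (f g)⁻¹ * q * (f g)⁻¹⁻¹ * ((f g)⁻¹ * z * (f g)⁻¹⁻¹) * ((f g)⁻¹ * q * (f g)⁻¹⁻¹)⁻¹ := by group
      change (f g)⁻¹ * (q * z * q⁻¹) * (f g)⁻¹⁻¹ ∈ D
      rw [e]
      exact h2
    have hN'p : IsPGroup p N' := by
      rintro ⟨⟨z, hz⟩, hzN⟩
      obtain ⟨k, hk⟩ := hDp _ ((hN'mem z hz).mp hzN)
      refine ⟨k, ?_⟩
      apply Subtype.ext
      apply Subtype.ext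
      have h3 : z ^ p ^ k = 1 := by
        rw [conj_pow] at hk
        have : z ^ p ^ k = (f g) * ((f g)⁻¹ * z ^ p ^ k * (f g)⁻¹⁻¹) * (f g)⁻¹ := by group
        rw [this, hk]
        group
      simpa using h3
    have hle : N' ≤ pCore p ↥Q := Cfsg.Agent.H01.le_pCore hN'n hN'p
    have hz := hQconj g y (hDQ hy)
    apply (hDmem _ hz).mpr
    apply hle
    apply (hN'mem _ hz).mpr
    have e : (f g)⁻¹ * (f g * y * (f g)⁻¹) * (f g)⁻¹⁻¹ = y := by group
    rw [e]
    exact hy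
  -- pull back
  obtain ⟨M, hM⟩ : ∃ M, M = D.comap f := ⟨_, rfl⟩
  have hMmem : ∀ x, x ∈ M ↔ f x ∈ D := by
    intro x; rw [hM]; rfl
  haveI hMn : M.Normal := by
    constructor
    intro x hx g
    apply (hMmem _).mpr
    rw [map_mul, map_mul, map_inv]
    exact hDinv g _ ((hMmem x).mp hx)
  have hMb := hO M hMn (fun x hx => hDp _ ((hMmem x).mp hx))
  have hD1 : D = ⊥ := by
    rw [Subgroup.eq_bot_iff_forall]
    intro y hy
    have hyQ := hDQ hy
    rw [hQ] at hyQ
    obtain ⟨x, -, rfl⟩ := hyQ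
    exact hMb x ((hMmem x).mpr hy)
  rw [hD] at hD1
  exact (Subgroup.map_eq_bot_iff_of_injective _ Q.subtype_injective).mp hD1

/-- The elementwise form of `O_p(G/C) = 1`. -/
theorem pCore_form {G : Type*} [Group G] [Finite G] {C : Subgroup G} [C.Normal] (hO : pCore p (G ⧸ C) = ⊥)
    (M : Subgroup G) (hM : M.Normal) (h : ∀ x ∈ M, ∃ k : ℕ, x ^ p ^ k ∈ C) : M ≤ C := by
  have hsurj : Function.Surjective (QuotientGroup.mk' C) := QuotientGroup.mk'_surjective _
  have hMb : M.map (QuotientGroup.mk' C) ≤ pCore p (G ⧸ C) := by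
    apply Cfsg.Agent.H01.le_pCore (hM.map _ hsurj)
    rintro ⟨_, x, hx, rfl⟩
    obtain ⟨k, hk⟩ := h x hx
    refine ⟨k, Subtype.ext ?_⟩
    change (QuotientGroup.mk' C) x ^ p ^ k = 1
    rw [← map_pow]
    exact (QuotientGroup.eq_one_iff _).mpr hk
  rw [hO, le_bot_iff] at hMb
  intro x hx
  have h1 : (QuotientGroup.mk' C) x ∈ M.map (QuotientGroup.mk' C) := ⟨x, hx, rfl⟩
  rw [hMb] at h1
  exact (QuotientGroup.eq_one_iff x).mp h1

end Cfsg.Agent.H14
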