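import Mathlib
import Cfsg.Agent.Lib.H14.BOM
import Cfsg.Agent.Lib.H12.PReduced
/-! The faithful model: `V ⋊ Aut(V)` with `G / C_G(V)` inside. -/
set_option autoImplicit false
set_option linter.unusedSectionVars false
set_option linter.unusedVariables false
set_option linter.style.longLine false
namespace Cfsg.Agent.H14
open Cfsg
open scoped commutatorElement

variable {G : Type*} [Group G] [Finite G] {p : ℕ} [Fact p.Prime]

/-- The holomorph of `V`. -/
abbrev Hol (V : Subgroup G) : Type _ := SemidirectProduct ↥V (MulAut ↥V) (MonoidHom.id (MulAut ↥V))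

instance Hol.instFinite (V : Subgroup G) : Finite (Hol V) :=
  Finite.of_equiv _ SemidirectProduct.equivProd.symm

/-- The copy of `V`. -/
def holJ (V : Subgroup G) : ↥V →* Hol V := SemidirectProduct.inl

lemma holJ_inj (V : Subgroup G) : Function.Injective (holJ V) := SemidirectProduct.inl_injective

/-- The copy of `V` as a subgroup. -/
def holV (V : Subgroup G) : Subgroup (Hol V) := (holJ V).range

/-- The map of `G`. -/
def holF (V : Subgroup G) [V.Normal] : G →* Hol V := SemidirectProduct.inr.comp MulAut.conjNormal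

variable (V : Subgroup G) [hVn : V.Normal]

lemma holF_conj (g : G) (v : V) :
    holF V g * holJ V v * (holF V g)⁻¹ = holJ V (MulAut.conjNormal g v) := by
  have h := SemidirectProduct.inl_aut (φ := MonoidHom.id (MulAut ↥V)) (MulAut.conjNormal g) v
  rw [← map_inv] at *
  exact h.symm

lemma holF_eq_one_iff {g : G} : holF V g = 1 ↔ g ∈ Subgroup.centralizer (V : Set G) := by
  constructor
  · intro h
    refine Subgroup.mem_centralizer_iff.mpr fun v hv => ?_
    have h1 : (MulAut.conjNormal g : MulAut V) = 1 := SemidirectProduct.inr_injective (h.trans (map_one _).symm)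
    have h2 : (MulAut.conjNormal g) (⟨v, hv⟩ : V) = ⟨v, hv⟩ := by rw [h1]; rfl
    have h3 := congrArg Subtype.val h2
    rw [MulAut.conjNormal_apply] at h3
    change g * v * g⁻¹ = v at h3
    calc v * g = g * v * g⁻¹ * g := by rw [h3]
      _ = g * v := by group
  · intro h
    have h1 : (MulAut.conjNormal g : MulAut V) = 1 := by
      ext ⟨v, hv⟩
      rw [MulAut.conjNormal_apply]
      change g * v * g⁻¹ = v
      rw [← Subgroup.mem_centralizer_iff.mp h v hv]
      group
    change SemidirectProduct.inr (MulAut.conjNormal g) = 1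
    rw [h1, map_one]

lemma holF_ker : (holF V).ker = Subgroup.centralizer (V : Set G) := by
  ext g
  exact holF_eq_one_iff V

lemma holV_ea (hV : IsElementaryAbelian p V) : IsElementaryAbelian p (holV V) := by
  refine ⟨⟨⟨?_⟩⟩, ?_⟩
  · rintro ⟨_, v, rfl⟩ ⟨_, w, rfl⟩
    apply Subtype.ext
    change holJ V v * holJ V w = holJ V w * holJ V v
    rw [← map_mul, ← map_mul]
    congr 1
    exact Subtype.ext (Cfsg.Agent.H02.commV_of_ea hV _ v.2 _ w.2)
  · rintro _ ⟨v, rfl⟩
    rw [← map_pow]
    have : v ^ p = 1 := Subtype.ext (by simpa using hV.2 v v.2)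
    rw [this, map_one]

lemma holF_norm (g : G) : holF V g ∈ Subgroup.normalizer ((holV V : Subgroup (Hol V)) : Set (Hol V)) := by
  apply Cfsg.Agent.H19.mem_normalizer_of_conj_le
  rintro _ ⟨v, rfl⟩
  exact ⟨_, (holF_conj V g v).symm⟩

lemma holF_range_inf : (holF V).range ⊓ Subgroup.centralizer ((holV V : Subgroup (Hol V)) : Set (Hol V)) = ⊥ := by
  rw [Subgroup.eq_bot_iff_forall]
  rintro _ ⟨⟨g, rfl⟩, hc⟩
  apply (holF_eq_one_iff V).mpr
  refine Subgroup.mem_centralizer_iff.mpr fun v hv => ?_
  have h1 := Subgroup.mem_centralizer_iff.mp hc (holJ V ⟨v, hv⟩) ⟨_, rfl⟩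
  have h2 : holF V g * holJ V ⟨v, hv⟩ * (holF V g)⁻¹ = holJ V ⟨v, hv⟩ := by
    rw [← h1]; group
  rw [holF_conj] at h2
  have h3 := congrArg Subtype.val (holJ_inj V h2)
  rw [MulAut.conjNormal_apply] at h3
  change g * v * g⁻¹ = v at h3
  calc v * g = g * v * g⁻¹ * g := by rw [h3]
    _ = g * v := by group

/-- Fixed points of the image. -/
lemma card_fix (A : Subgroup G) :
    Nat.card ↥(holV V ⊓ Subgroup.centralizer ((A.map (holF V) : Subgroup (Hol V)) : Set (Hol V))) =
      Nat.card ↥(V ⊓ Subgroup.centralizer (A : Set G)) := by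
  have hkey : ∀ (v : V), holJ V v ∈ Subgroup.centralizer ((A.map (holF V) : Subgroup (Hol V)) : Set (Hol V)) ↔
      (v : G) ∈ Subgroup.centralizer (A : Set G) := by
    intro v
    constructor
    · intro h
      refine Subgroup.mem_centralizer_iff.mpr fun a ha => ?_
      have h1 := Subgroup.mem_centralizer_iff.mp h (holF V a) ⟨a, ha, rfl⟩
      have h2 : holF V a * holJ V v * (holF V a)⁻¹ = holJ V v := by rw [h1]; group
      rw [holF_conj] at h2
      have h3 := congrArg Subtype.val (holJ_inj V h2)
      rw [MulAut.conjNormal_apply] at h3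
      calc a * v = a * v * a⁻¹ * a := by group
        _ = v * a := by rw [h3]
    · intro h
      refine Subgroup.mem_centralizer_iff.mpr ?_
      rintro _ ⟨a, ha, rfl⟩
      have h1 := Subgroup.mem_centralizer_iff.mp h a ha
      have h2 : MulAut.conjNormal a v = v := by
        apply Subtype.ext
        rw [MulAut.conjNormal_apply, h1]
        group
      have h3 := holF_conj V a v
      rw [h2] at h3
      calc holF V a * holJ V v = holF V a * holJ V v * (holF V a)⁻¹ * holF V a := by group
        _ = holJ V v * holF V a := by rw [h3]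
  let e : ↥(V ⊓ Subgroup.centralizer (A : Set G)) ≃ ↥(holV V ⊓ Subgroup.centralizer ((A.map (holF V) : Subgroup (Hol V)) : Set (Hol V))) :=
    Equiv.ofBijective (fun x => ⟨holJ V ⟨x, x.2.1⟩, ⟨_, rfl⟩, (hkey _).mpr x.2.2⟩) (by
      constructor
      · intro x y h
        have h1 := holJ_inj V (congrArg Subtype.val h)
        exact Subtype.ext (Subtype.mk.inj h1)
      · rintro ⟨_, ⟨v, rfl⟩, hv⟩
        exact ⟨⟨v, v.2, (hkey v).mp hv⟩, rfl⟩)
  exact (Nat.card_congr e).symm

lemma card_holV : Nat.card (holV V) = Nat.card V :=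
  (Nat.card_congr (MonoidHom.ofInjective (holJ_inj V)).toEquiv).symm

/-- Order of the image. -/
lemma card_map_holF (A : Subgroup G) :
    Nat.card (A.map (holF V)) * Nat.card ↥(A ⊓ Subgroup.centralizer (V : Set G)) = Nat.card A := by
  classical
  let r : A →* Hol V := (holF V).comp A.subtype
  have h1 : r.range = A.map (holF V) := by
    rw [MonoidHom.range_comp, Subgroup.range_subtype]
  have h2 := r.ker.card_mul_index
  rw [Subgroup.index_ker, h1] at h2
  have h3 : Nat.card r.ker = Nat.card ↥(A ⊓ Subgroup.centralizer (V : Set G)) := by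
    have e : r.ker = (Subgroup.centralizer (V : Set G)).subgroupOf A := by
      ext x
      rw [MonoidHom.mem_ker, Subgroup.mem_subgroupOf]
      exact holF_eq_one_iff V
    rw [e]
    have h4 := Subgroup.subgroupOf_map_subtype (Subgroup.centralizer (V : Set G)) A
    rw [inf_comm] at h4
    rw [← h4]
    exact Nat.card_congr (Subgroup.equivMapOfInjective _ _ A.subtype_injective).toEquiv
  rw [h3] at h2
  rw [← h2, mul_comm]

/-- The standing hypotheses in the model. -/
theorem hol_FFS (hV : IsElementaryAbelian p V) (hs : IsPSolvable p G)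
    (hO : ∀ M : Subgroup G, M.Normal → (∀ x ∈ M, ∃ k : ℕ, x ^ p ^ k ∈ Subgroup.centralizer (V : Set G)) →
      M ≤ Subgroup.centralizer (V : Set G))
    (Y : Subgroup G) [hY : Y.Normal] :
    FFS p (holV V) (Y.map (holF V)) ((pPrimeCore p ↥(Y.map (holF V))).map (Y.map (holF V)).subtype) := by
  apply FFS.of_stmt (holV_ea V hV)
  · rintro _ ⟨y, -, rfl⟩
    exact holF_norm V y
  · rw [eq_bot_iff, ← holF_range_inf V]
    exact inf_le_inf_right _ (by rintro _ ⟨y, -, rfl⟩; exact ⟨y, rfl⟩)
  · apply cent_pPrimeCore_le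
    · have hs1 : IsPSolvable p Y := isPSolvable_subgroup' hs Y
      exact Cfsg.Agent.H03.isPSolvable_of_surjective (f := (holF V).subgroupMap Y) ((holF V).subgroupMap_surjective Y) hs1
    · apply pCore_bot_of_image
      intro M hM h x hx
      apply (holF_eq_one_iff V).mpr
      refine hO M hM (fun z hz => ?_) hx
      obtain ⟨k, hk⟩ := h z hz
      exact ⟨k, (holF_eq_one_iff V).mp (by rw [map_pow]; exact hk)⟩

end Cfsg.Agent.H14
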