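import Mathlib
import Cfsg.Agent.Lib.H14.BOH
/-! Elementary abelian subgroups of maximal order act as best offenders. -/
set_option autoImplicit false
set_option linter.unusedSectionVars false
set_option linter.unusedVariables false
set_option linter.style.longLine false
namespace Cfsg.Agent.H14
open Cfsg
open Cfsg.Agent.H02 (offVal)
open scoped commutatorElement

variable {G : Type*} [Group G] [Finite G] {p : ℕ} [Fact p.Prime]

/-- Values of subgroups of elementary abelian groups are bounded by `|V|`. -/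
theorem FFS.val_le {V H K : Subgroup G} (hF : FFS p V H K) {B : Subgroup G} (hBH : B ≤ H)
    (hc : ∀ x ∈ B, ∀ y ∈ B, x * y = y * x) (hpw : ∀ x ∈ B, x ^ p = 1) : offVal V B ≤ Nat.card V := by
  classical
  obtain ⟨D, hDB, hD⟩ := Set.exists_max_image {D : Subgroup G | D ≤ B} (offVal V) (Set.toFinite _)
    ⟨B, le_refl B⟩
  have hDb : IsBestOffenderOn p V D := by
    refine ⟨fun E hE => hD E (hE.trans hDB), ?_, fun x hx => ?_⟩
    · rw [Subgroup.commutator_le]
      intro x hx y hy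
      have h1 : ⁅x, y⁆ = 1 := commutatorElement_eq_one_iff_commute.mpr (hc x (hDB hx) y (hDB hy))
      rw [h1]
      exact Subgroup.one_mem _
    · rw [hpw x (hDB hx)]
      exact Subgroup.one_mem _
  have h1 := hF.val_eq_card _ D rfl (le_trans hDB hBH) hDb
  calc offVal V B ≤ offVal V D := hD B (le_refl B)
    _ = Nat.card V := h1

lemma ea_of_le {X Y : Subgroup G} (hY : IsElementaryAbelian p Y) (h : X ≤ Y) : IsElementaryAbelian p X := by
  refine ⟨⟨⟨fun a b => Subtype.ext ?_⟩⟩, fun a ha => hY.2 a (h ha)⟩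
  exact Cfsg.Agent.H02.commV_of_ea hY _ (h a.2) _ (h b.2)

lemma ea_sup {X Y : Subgroup G} (hX : IsElementaryAbelian p X) (hY : IsElementaryAbelian p Y)
    (h : ∀ x ∈ X, ∀ y ∈ Y, x * y = y * x) : IsElementaryAbelian p (X ⊔ Y) := by
  have hn : Y ≤ Subgroup.normalizer (X : Set G) := le_normalizer_of_comm h
  have hcX := Cfsg.Agent.H02.commV_of_ea hX
  have hcY := Cfsg.Agent.H02.commV_of_ea hY
  refine ⟨⟨⟨?_⟩⟩, ?_⟩
  · rintro ⟨a, ha⟩ ⟨b, hb⟩
    apply Subtype.ext
    change a * b = b * a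
    obtain ⟨x, hx, y, hy, rfl⟩ := Cfsg.Agent.H01.exists_mul_of_mem_sup hn ha
    obtain ⟨x', hx', y', hy', rfl⟩ := Cfsg.Agent.H01.exists_mul_of_mem_sup hn hb
    calc x * y * (x' * y') = x * (y * x') * y' := by group
      _ = x * (x' * y) * y' := by rw [h x' hx' y hy]
      _ = (x * x') * (y * y') := by group
      _ = (x' * x) * (y' * y) := by rw [hcX x hx x' hx', hcY y hy y' hy']
      _ = x' * (x * y') * y := by group
      _ = x' * (y' * x) * y := by rw [h x hx y' hy']
      _ = x' * y' * (x * y) := by group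
  · intro a ha
    obtain ⟨x, hx, y, hy, rfl⟩ := Cfsg.Agent.H01.exists_mul_of_mem_sup hn ha
    rw [(show Commute x y from h x hx y hy).mul_pow, hX.2 x hx, hY.2 y hy, one_mul]

lemma arith_aux {a ac ah v z av b : ℕ} (h1 : ah * ac = a) (hcard : b * av = ac * v) (hb : b ≤ a)
    (h2 : av ≤ z) (h3 : ah * z ≤ v) (hacpos : 0 < ac) (hahpos : 0 < ah) (havpos : 0 < av) :
    ah * z = v ∧ z = av ∧ b = a := by
  have h5 : ac * v ≤ ac * (ah * av) := by
    calc ac * v = b * av := hcard.symm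
      _ ≤ a * av := Nat.mul_le_mul_right _ hb
      _ = ac * (ah * av) := by rw [← h1]; ring
  have h6 : v ≤ ah * av := Nat.le_of_mul_le_mul_left h5 hacpos
  have h7 : ah * z ≤ ah * av := h3.trans h6
  have h8 : z ≤ av := Nat.le_of_mul_le_mul_left h7 hahpos
  have h9 : z = av := le_antisymm h8 h2
  have h10 : ah * z = v := le_antisymm h3 (by rw [h9]; exact h6)
  refine ⟨h10, h9, ?_⟩
  have : b * av = a * av := by
    rw [hcard, ← h1, ← h10, h9]; ring
  exact Nat.eq_of_mul_eq_mul_right havpos this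

variable (V : Subgroup G) [hVn : V.Normal]

/-- Facts on maximal elementary abelian subgroups. -/
theorem maxea_facts (hV : IsElementaryAbelian p V) (hs : IsPSolvable p G)
    (hO : ∀ M : Subgroup G, M.Normal → (∀ x ∈ M, ∃ k : ℕ, x ^ p ^ k ∈ Subgroup.centralizer (V : Set G)) →
      M ≤ Subgroup.centralizer (V : Set G))
    {A : Subgroup G} (hA : A ∈ maxElementaryAbelianSubgroups p G) :
    Nat.card (A.map (holF V)) * Nat.card ↥(V ⊓ Subgroup.centralizer (A : Set G)) = Nat.card V ∧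
    A ⊓ V = V ⊓ Subgroup.centralizer (A : Set G) ∧
    (A ⊓ Subgroup.centralizer (V : Set G)) ⊔ V ∈ maxElementaryAbelianSubgroups p G := by
  classical
  obtain ⟨hAe, hAm⟩ := hA
  have hcV := Cfsg.Agent.H02.commV_of_ea hV
  have hcA := Cfsg.Agent.H02.commV_of_ea hAe
  obtain ⟨C, hC⟩ : ∃ C, C = Subgroup.centralizer (V : Set G) := ⟨_, rfl⟩
  rw [← hC]
  have hVC : V ≤ C := by
    rw [hC]
    exact fun v hv => Subgroup.mem_centralizer_iff.mpr fun w hw => hcV w hw v hv
  have hXV : ∀ x ∈ A ⊓ C, ∀ v ∈ V, x * v = v * x := by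
    rintro x ⟨-, hx⟩ v hv
    rw [hC] at hx
    exact (Subgroup.mem_centralizer_iff.mp hx v hv).symm
  have hBe : IsElementaryAbelian p ((A ⊓ C) ⊔ V) := ea_sup (ea_of_le hAe inf_le_left) hV hXV
  have hb := hAm _ hBe
  have hcard := Cfsg.Agent.H25.card_sup_mul_inf (X := A ⊓ C) (Y := V) (le_normalizer_of_comm hXV)
  have hinf : (A ⊓ C) ⊓ V = A ⊓ V := by
    rw [inf_assoc, inf_eq_right.mpr hVC]
  rw [hinf] at hcard
  have h1 := card_map_holF V A
  rw [← hC] at h1
  have hAV : A ⊓ V ≤ V ⊓ Subgroup.centralizer (A : Set G) := by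
    rintro x ⟨hxA, hxV⟩
    exact ⟨hxV, Subgroup.mem_centralizer_iff.mpr fun a ha => hcA a ha x hxA⟩
  have h2 : Nat.card ↥(A ⊓ V) ≤ Nat.card ↥(V ⊓ Subgroup.centralizer (A : Set G)) := Subgroup.card_le_of_le hAV
  have h3 : Nat.card (A.map (holF V)) * Nat.card ↥(V ⊓ Subgroup.centralizer (A : Set G)) ≤ Nat.card V := by
    have hF := hol_FFS V hV hs hO (⊤ : Subgroup G)
    have h4 := hF.val_le (B := A.map (holF V)) (Subgroup.map_mono le_top) (by
      rintro _ ⟨x, hx, rfl⟩ _ ⟨y, hy, rfl⟩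
      rw [← map_mul, ← map_mul, hcA x hx y hy]) (by
      rintro _ ⟨x, hx, rfl⟩
      rw [← map_pow, hAe.2 x hx, map_one])
    unfold offVal at h4
    rwa [card_fix, card_holV] at h4
  obtain ⟨e1, e2, e3⟩ := arith_aux h1 hcard hb h2 h3 Nat.card_pos Nat.card_pos Nat.card_pos
  refine ⟨e1, ?_, hBe, ?_⟩
  · apply Subgroup.eq_of_le_of_card_ge hAV
    rw [e2]
  · intro B hB
    rw [e3]
    exact hAm B hB

end Cfsg.Agent.H14
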