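import Mathlib
import Cfsg.Agent.Lib.H14.BO8
/-! `[Ω₁(Z(J(C_G(V)))), J(G)] ≤ V`. -/
set_option autoImplicit false
set_option linter.unusedSectionVars false
set_option linter.unusedVariables false
set_option linter.style.longLine false
namespace Cfsg.Agent.H14
open Cfsg
open Cfsg.Agent.H02 (offVal)
open scoped commutatorElement

variable {G : Type*} [Group G] [Finite G] {p : ℕ} [Fact p.Prime]

/-- Maximal elementary abelian subgroups inside `C` lie in `J(C)`. -/
lemma le_thompsonOf {C B : Subgroup G} (hBC : B ≤ C) (hB : B ∈ maxElementaryAbelianSubgroups p G) :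
    B ≤ thompsonSubgroupOf p C := by
  obtain ⟨hBe, hBm⟩ := hB
  have hcard : Nat.card (B.subgroupOf C) = Nat.card B :=
    Nat.card_congr (Subgroup.subgroupOfEquivOfLe hBC).toEquiv
  have hmem : B.subgroupOf C ∈ maxElementaryAbelianSubgroups p ↥C := by
    refine ⟨⟨⟨⟨fun a b => Subtype.ext (Subtype.ext ?_)⟩⟩, fun a ha => Subtype.ext ?_⟩, fun B' hB' => ?_⟩
    · exact Cfsg.Agent.H02.commV_of_ea hBe _ a.2 _ b.2
    · simpa using hBe.2 _ ha
    · have hmape : IsElementaryAbelian p (B'.map C.subtype) := by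
        refine ⟨⟨⟨?_⟩⟩, ?_⟩
        · rintro ⟨_, a, ha, rfl⟩ ⟨_, b, hb, rfl⟩
          apply Subtype.ext
          change (a : G) * (b : G) = (b : G) * (a : G)
          have h := Cfsg.Agent.H02.commV_of_ea hB' a ha b hb
          exact congrArg Subtype.val h
        · rintro _ ⟨a, ha, rfl⟩
          have := hB'.2 a ha
          simpa using congrArg Subtype.val this
      have h1 := hBm _ hmape
      rw [hcard]
      rwa [Nat.card_congr (Subgroup.equivMapOfInjective B' C.subtype C.subtype_injective).toEquiv]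
  intro x hx
  have hx' : (⟨x, hBC hx⟩ : C) ∈ B.subgroupOf C := hx
  exact ⟨⟨x, hBC hx⟩, (le_sSup hmem : B.subgroupOf C ≤ thompsonSubgroup p ↥C) hx', rfl⟩

variable (V : Subgroup G) [hVn : V.Normal]

/-- The core of S0619. -/
theorem omega_center_thompson_comm (hV : IsElementaryAbelian p V) (hs : IsPSolvable p G)
    (hO : ∀ M : Subgroup G, M.Normal → (∀ x ∈ M, ∃ k : ℕ, x ^ p ^ k ∈ Subgroup.centralizer (V : Set G)) →
      M ≤ Subgroup.centralizer (V : Set G)) :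
    ⁅omegaOne p (centerThompsonOf p (Subgroup.centralizer (V : Set G))), thompsonSubgroup p G⁆ ≤ V := by
  classical
  have hcV := Cfsg.Agent.H02.commV_of_ea hV
  obtain ⟨C, hC⟩ : ∃ C, C = Subgroup.centralizer (V : Set G) := ⟨_, rfl⟩
  rw [← hC]
  obtain ⟨J, hJ⟩ : ∃ J, J = thompsonSubgroupOf p C := ⟨_, rfl⟩
  obtain ⟨Z₀, hZ₀⟩ : ∃ Z₀, Z₀ = omegaOne p (centerThompsonOf p C) := ⟨_, rfl⟩
  rw [← hZ₀]
  have hZ₀J : Z₀ = omegaOne p (J ⊓ Subgroup.centralizer (J : Set G)) := by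
    rw [hZ₀, hJ]; rfl
  have hZmem : ∀ z ∈ Z₀, z ∈ J ∧ (∀ y ∈ J, y * z = z * y) ∧ z ^ p = 1 := by
    intro z hz
    rw [hZ₀J] at hz
    exact Cfsg.Agent.H12.mem_omegaOne_center hz
  have hZe : IsElementaryAbelian p Z₀ := by
    rw [hZ₀J]
    exact Cfsg.Agent.H12.isElementaryAbelian_omegaOne_center J
  have hJC : J ≤ C := by
    rw [hJ]
    exact Subgroup.map_subtype_le _
  have hVC : V ≤ C := by
    rw [hC]
    exact fun v hv => Subgroup.mem_centralizer_iff.mpr fun w hw => hcV w hw v hv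
  have hCV : ∀ c ∈ C, ∀ v ∈ V, v * c = c * v := by
    intro c hc v hv
    rw [hC] at hc
    exact Subgroup.mem_centralizer_iff.mp hc v hv
  -- a maximal elementary abelian subgroup exists; `V ≤ Z₀`
  have hexmax : ∃ A, A ∈ maxElementaryAbelianSubgroups p G := by
    obtain ⟨A, hA, hAm⟩ := Set.exists_max_image {A : Subgroup G | IsElementaryAbelian p A} (fun A => Nat.card A) (Set.toFinite _)
      ⟨⊥, ⟨⟨⟨fun a b => Subtype.ext (by
        have h1 := a.2
        have h2 := b.2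
        rw [Subgroup.mem_bot] at h1 h2
        rw [Subgroup.coe_mul, Subgroup.coe_mul, h1, h2])⟩⟩, fun a ha => by
        rw [Subgroup.mem_bot] at ha
        rw [ha, one_pow]⟩⟩
    exact ⟨A, hA, fun B hB => hAm B hB⟩
  have hstep : ∀ A ∈ maxElementaryAbelianSubgroups p G,
      ((A ⊓ C) ⊔ V ≤ J) := by
    intro A hA
    obtain ⟨h1, h2, h3⟩ := maxea_facts (p := p) V hV hs hO hA
    rw [hJ]
    refine le_thompsonOf (sup_le (inf_le_right) hVC) ?_
    rw [hC]
    exact h3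
  have hVZ : V ≤ Z₀ := by
    obtain ⟨A, hA⟩ := hexmax
    have hVJ : V ≤ J := le_sup_right.trans (hstep A hA)
    intro v hv
    rw [hZ₀J]
    apply Cfsg.Agent.H12.mem_omegaOne_center_of (hVJ hv) _ (hV.2 v hv)
    intro y hy
    exact (hCV y (hJC hy) v hv).symm
  -- the key step for a single `A`
  have hkey : ∀ A ∈ maxElementaryAbelianSubgroups p G, ∀ a ∈ A, ∀ z ∈ Z₀, a * z * a⁻¹ * z⁻¹ ∈ V := by
    intro A hA
    have hAm := hA
    obtain ⟨e1, e2, e3⟩ := maxea_facts (p := p) V hV hs hO hA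
    rw [← hC] at e3
    obtain ⟨hAe, hAmax⟩ := hA
    have hcA := Cfsg.Agent.H02.commV_of_ea hAe
    have hcJ := hstep A hAm
    have hX : ∀ x ∈ A ⊓ C, ∀ z ∈ Z₀, x * z = z * x := by
      intro x hx z hz
      exact (hZmem z hz).2.1 x (hcJ ((le_sup_left : A ⊓ C ≤ _) hx))
    have hDe : IsElementaryAbelian p ((A ⊓ C) ⊔ Z₀) := ea_sup (ea_of_le hAe inf_le_left) hZe hX
    have hD := hAmax _ hDe
    have hcard := Cfsg.Agent.H25.card_sup_mul_inf (X := A ⊓ C) (Y := Z₀) (le_normalizer_of_comm hX)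
    have hinf : (A ⊓ C) ⊓ Z₀ = A ⊓ Z₀ := by
      have h9 : C ⊓ Z₀ = Z₀ := inf_eq_right.mpr (fun z hz => hJC (hZmem z hz).1)
      rw [inf_assoc, h9]
    rw [hinf] at hcard
    obtain ⟨Y, hY⟩ : ∃ Y, Y = Z₀ ⊓ Subgroup.centralizer (A : Set G) := ⟨_, rfl⟩
    have hAZ : A ⊓ Z₀ ≤ Y := by
      rw [hY]
      rintro x ⟨hxA, hxZ⟩
      exact ⟨hxZ, Subgroup.mem_centralizer_iff.mpr fun a ha => hcA a ha x hxA⟩
    have hAZc : Nat.card ↥(A ⊓ Z₀) ≤ Nat.card Y := Subgroup.card_le_of_le hAZ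
    have h1 := card_map_holF V A
    rw [← hC] at h1
    -- `|Z₀| ≤ |Â| |Y|`
    have h2 : Nat.card Z₀ ≤ Nat.card (A.map (holF V)) * Nat.card Y := by
      have hpos : 0 < Nat.card ↥(A ⊓ C) := Nat.card_pos
      apply Nat.le_of_mul_le_mul_left _ hpos
      calc Nat.card ↥(A ⊓ C) * Nat.card Z₀ = Nat.card ↥((A ⊓ C) ⊔ Z₀) * Nat.card ↥(A ⊓ Z₀) := hcard.symm
        _ ≤ Nat.card A * Nat.card Y := Nat.mul_le_mul hD hAZc
        _ = Nat.card ↥(A ⊓ C) * (Nat.card (A.map (holF V)) * Nat.card Y) := by rw [← h1]; ring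
    -- `V Y = Z₀`
    have hVY : V ⊔ Y = Z₀ := by
      have hle : V ⊔ Y ≤ Z₀ := sup_le hVZ (by rw [hY]; exact inf_le_left)
      apply Subgroup.eq_of_le_of_card_ge hle
      have hc2 := Cfsg.Agent.H25.card_sup_mul_inf (X := V) (Y := Y)
        (le_normalizer_of_comm fun x hx y hy => Cfsg.Agent.H02.commV_of_ea hZe x (hVZ hx) y (by rw [hY] at hy; exact hy.1))
      have hinf2 : V ⊓ Y = V ⊓ Subgroup.centralizer (A : Set G) := by
        rw [hY, ← inf_assoc, inf_eq_left.mpr hVZ]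
      rw [hinf2, ← e1] at hc2
      have hzpos : 0 < Nat.card ↥(V ⊓ Subgroup.centralizer (A : Set G)) := Nat.card_pos
      have h5 : Nat.card ↥(V ⊔ Y) = Nat.card (A.map (holF V)) * Nat.card Y := by
        apply Nat.eq_of_mul_eq_mul_right hzpos
        rw [hc2]; ring
      rw [h5]
      exact h2
    intro a ha z hz
    rw [← hVY] at hz
    obtain ⟨v, hv, y, hy, rfl⟩ := Cfsg.Agent.H01.exists_mul_of_mem_sup
      (le_normalizer_of_comm fun x hx y hy => Cfsg.Agent.H02.commV_of_ea hZe x (hVZ hx) y (by rw [hY] at hy; exact hy.1)) hz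
    rw [hY] at hy
    have hay : a * y = y * a := (Subgroup.mem_centralizer_iff.mp hy.2 a ha)
    have hay' : a * y * a⁻¹ = y := by rw [hay]; group
    have e : a * (v * y) * a⁻¹ * (v * y)⁻¹ = (a * v * a⁻¹) * v⁻¹ := by
      calc a * (v * y) * a⁻¹ * (v * y)⁻¹ = (a * v * a⁻¹) * (a * y * a⁻¹) * y⁻¹ * v⁻¹ := by group
        _ = (a * v * a⁻¹) * v⁻¹ := by rw [hay']; group
    rw [e]
    exact V.mul_mem (hVn.conj_mem v hv a) (V.inv_mem hv)
  -- all of `J(G)`
  have hle : thompsonSubgroup p G ≤ Stb Z₀ V hVZ := by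
    apply sSup_le
    intro A hA a ha
    refine ⟨?_, fun z hz => hkey A hA a ha z hz⟩
    apply Cfsg.Agent.H19.mem_normalizer_of_conj_le
    intro z hz
    have h1 := hVZ (hkey A hA a ha z hz)
    have h2 := Z₀.mul_mem h1 hz
    have e : a * z * a⁻¹ * z⁻¹ * z = a * z * a⁻¹ := by group
    rwa [e] at h2
  rw [Subgroup.commutator_le]
  intro z hz g hg
  have h1 := (hle hg).2 z hz
  have h2 := V.inv_mem h1
  have e : (g * z * g⁻¹ * z⁻¹)⁻¹ = ⁅z, g⁆ := by rw [commutatorElement_def]; group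
  rwa [e] at h2

end Cfsg.Agent.H14
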