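import Mathlib
import Cfsg.Agent.Lib.H14.BO9
import Cfsg.Agent.Lib.H13.Residual
/-! Thompson factorization: the Sylow part. -/
set_option autoImplicit false
set_option linter.unusedSectionVars false
set_option linter.unusedVariables false
set_option linter.style.longLine false
namespace Cfsg.Agent.H14
open Cfsg
open Cfsg.Agent.H02 (offVal)
open scoped commutatorElement

variable {G : Type*} [Group G] [Finite G] {p : ℕ} [Fact p.Prime]

/-- The normal closure of `Ω₁(Z(S))`. -/
def omZ (p : ℕ) (G : Type*) [Group G] : Subgroup G :=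
  ⨆ S : Sylow p G, omegaOne p ((S : Subgroup G) ⊓ Subgroup.centralizer ((S : Subgroup G) : Set G))

lemma mem_omZ {S : Sylow p G} {x : G} (hx : x ∈ (S : Subgroup G)) (hc : ∀ y ∈ (S : Subgroup G), y * x = x * y)
    (hp : x ^ p = 1) : x ∈ omZ p G :=
  (le_iSup (fun S : Sylow p G => omegaOne p ((S : Subgroup G) ⊓ Subgroup.centralizer ((S : Subgroup G) : Set G))) S)
    (Cfsg.Agent.H12.mem_omegaOne_center_of hx hc hp)

instance omZ_normal : (omZ p G).Normal := by
  constructor
  intro x hx g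
  have hle : omZ p G ≤ (omZ p G).comap (MulAut.conj g).toMonoidHom := by
    apply iSup_le
    intro S y hy
    obtain ⟨h1, h2, h3⟩ := Cfsg.Agent.H12.mem_omegaOne_center hy
    change g * y * g⁻¹ ∈ omZ p G
    have hmem : ∀ z, z ∈ ((g • S : Sylow p G) : Subgroup G) ↔ g⁻¹ * z * g ∈ (S : Subgroup G) := by
      intro z
      rw [Sylow.smul_def, Sylow.pointwise_smul_def, Subgroup.mem_pointwise_smul_iff_inv_smul_mem]
      simp [MulAut.smul_def, MulAut.conj_apply]
    apply mem_omZ (S := g • S)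
    · rw [hmem]
      have e : g⁻¹ * (g * y * g⁻¹) * g = y := by group
      rw [e]; exact h1
    · intro w hw
      rw [hmem] at hw
      have h4 := h2 _ hw
      calc w * (g * y * g⁻¹) = g * ((g⁻¹ * w * g) * y) * g⁻¹ := by group
        _ = g * (y * (g⁻¹ * w * g)) * g⁻¹ := by rw [h4]
        _ = g * y * g⁻¹ * w := by group
    · rw [conj_pow, h3]; group
  exact hle hx

/-- `omZ` is elementary abelian if `G` is `p`-separable with trivial `p'`-core. -/
theorem omZ_ea (hs : IsPSolvable p G) (hO : pPrimeCore p G = ⊥) : IsElementaryAbelian p (omZ p G) := by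
  have hcen := Cfsg.Agent.H03.centralizer_pCore_le_of_isPSolvable hs hO
  refine ea_of_le (Cfsg.Agent.H12.isElementaryAbelian_omegaOne_center (p := p) (pCore p G)) ?_
  apply iSup_le
  intro S
  apply Subgroup.closure_mono
  rintro x ⟨⟨hxS, hxc⟩, hxp⟩
  refine ⟨⟨?_, ?_⟩, hxp⟩
  · apply hcen
    refine Subgroup.mem_centralizer_iff.mpr fun y hy => ?_
    exact Subgroup.mem_centralizer_iff.mp hxc y (Cfsg.Agent.H01.pCore_le_sylow p S hy)
  · refine Subgroup.mem_centralizer_iff.mpr fun y hy => ?_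
    exact Subgroup.mem_centralizer_iff.mp hxc y (Cfsg.Agent.H01.pCore_le_sylow p S hy)

/-- `O_p(G / C_G(omZ)) = 1`. -/
theorem omZ_core (M : Subgroup G) (hM : M.Normal)
    (h : ∀ x ∈ M, ∃ k : ℕ, x ^ p ^ k ∈ Subgroup.centralizer (omZ p G : Set G)) :
    M ≤ Subgroup.centralizer (omZ p G : Set G) := by
  classical
  obtain ⟨C, hC⟩ : ∃ C, C = Subgroup.centralizer (omZ p G : Set G) := ⟨_, rfl⟩
  rw [← hC] at h ⊢
  haveI hCn : C.Normal := by
    rw [hC]; infer_instance
  intro x hx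
  rw [hC]
  have hle : omZ p G ≤ Subgroup.centralizer ({x} : Set G) := by
    apply iSup_le
    intro S y hy
    obtain ⟨h1, h2, h3⟩ := Cfsg.Agent.H12.mem_omegaOne_center hy
    have hyV : y ∈ omZ p G := mem_omZ h1 h2 h3
    -- `x = s c`
    have hsurj : Function.Surjective (QuotientGroup.mk' C) := QuotientGroup.mk'_surjective _
    let T := S.mapSurjective hsurj
    have hMb : M.map (QuotientGroup.mk' C) ≤ pCore p (G ⧸ C) := by
      apply Cfsg.Agent.H01.le_pCore (hM.map _ hsurj)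
      rintro ⟨_, z, hz, rfl⟩
      obtain ⟨k, hk⟩ := h z hz
      refine ⟨k, Subtype.ext ?_⟩
      change (QuotientGroup.mk' C) z ^ p ^ k = 1
      rw [← map_pow]
      exact (QuotientGroup.eq_one_iff _).mpr hk
    have h4 : (QuotientGroup.mk' C) x ∈ (T : Subgroup (G ⧸ C)) :=
      Cfsg.Agent.H01.pCore_le_sylow p T (hMb ⟨x, hx, rfl⟩)
    rw [Sylow.coe_mapSurjective] at h4
    obtain ⟨s, hs, hsx⟩ := h4
    have hc : s⁻¹ * x ∈ C := by
      have h5 : (QuotientGroup.mk' C) (s⁻¹ * x) = 1 := by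
        rw [map_mul, map_inv, ← hsx]; group
      exact (QuotientGroup.eq_one_iff _).mp h5
    rw [hC] at hc
    have h6 := Subgroup.mem_centralizer_iff.mp hc y hyV
    have h7 := h2 s hs
    apply Subgroup.mem_centralizer_singleton_iff.mpr
    calc y * x = y * (s * (s⁻¹ * x)) := by group
      _ = (y * s) * (s⁻¹ * x) := by group
      _ = (s * y) * (s⁻¹ * x) := by rw [h7]
      _ = s * (y * (s⁻¹ * x)) := by group
      _ = s * ((s⁻¹ * x) * y) := by rw [h6]
      _ = x * y := by group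
  refine Subgroup.mem_centralizer_iff.mpr fun y hy => ?_
  exact Subgroup.mem_centralizer_singleton_iff.mp (hle hy)

/-- A conjugate of a maximal elementary abelian subgroup. -/
lemma maxea_conj {A : Subgroup G} (hA : A ∈ maxElementaryAbelianSubgroups p G) (g : G) :
    A.map (MulAut.conj g).toMonoidHom ∈ maxElementaryAbelianSubgroups p G := by
  obtain ⟨hAe, hAm⟩ := hA
  have hcA := Cfsg.Agent.H02.commV_of_ea hAe
  refine ⟨⟨⟨⟨?_⟩⟩, ?_⟩, fun B hB => ?_⟩
  · rintro ⟨_, a, ha, rfl⟩ ⟨_, b, hb, rfl⟩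
    apply Subtype.ext
    change g * a * g⁻¹ * (g * b * g⁻¹) = g * b * g⁻¹ * (g * a * g⁻¹)
    have := hcA a ha b hb
    calc g * a * g⁻¹ * (g * b * g⁻¹) = g * (a * b) * g⁻¹ := by group
      _ = g * (b * a) * g⁻¹ := by rw [this]
      _ = g * b * g⁻¹ * (g * a * g⁻¹) := by group
  · rintro _ ⟨a, ha, rfl⟩
    change (g * a * g⁻¹) ^ p = 1
    rw [conj_pow, hAe.2 a ha]; group
  · have hcard : Nat.card (A.map (MulAut.conj g).toMonoidHom) = Nat.card A :=
      (Nat.card_congr (Subgroup.equivMapOfInjective A _ (MulAut.conj g).injective).toEquiv).symm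
    rw [hcard]
    have hB' : IsElementaryAbelian p (B.map (MulAut.conj g⁻¹).toMonoidHom) := by
      have hcB := Cfsg.Agent.H02.commV_of_ea hB
      refine ⟨⟨⟨?_⟩⟩, ?_⟩
      · rintro ⟨_, a, ha, rfl⟩ ⟨_, b, hb, rfl⟩
        apply Subtype.ext
        change g⁻¹ * a * g⁻¹⁻¹ * (g⁻¹ * b * g⁻¹⁻¹) = g⁻¹ * b * g⁻¹⁻¹ * (g⁻¹ * a * g⁻¹⁻¹)
        have := hcB a ha b hb
        calc g⁻¹ * a * g⁻¹⁻¹ * (g⁻¹ * b * g⁻¹⁻¹) = g⁻¹ * (a * b) * g⁻¹⁻¹ := by group
          _ = g⁻¹ * (b * a) * g⁻¹⁻¹ := by rw [this]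
          _ = g⁻¹ * b * g⁻¹⁻¹ * (g⁻¹ * a * g⁻¹⁻¹) := by group
      · rintro _ ⟨a, ha, rfl⟩
        change (g⁻¹ * a * g⁻¹⁻¹) ^ p = 1
        rw [conj_pow, hB.2 a ha]; group
    have h1 := hAm _ hB'
    rwa [← Nat.card_congr (Subgroup.equivMapOfInjective B _ (MulAut.conj g⁻¹).injective).toEquiv] at h1

/-- `J(G)` is normal. -/
instance thompson_normal : (thompsonSubgroup p G).Normal := by
  constructor
  intro x hx g
  have hle : thompsonSubgroup p G ≤ (thompsonSubgroup p G).comap (MulAut.conj g).toMonoidHom := by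
    apply sSup_le
    intro A hA y hy
    exact (le_sSup (maxea_conj hA g) : _ ≤ thompsonSubgroup p G) ⟨y, hy, rfl⟩
  exact hle hx

/-- `J(S)` in terms of the maximal elementary abelian subgroups of `G`. -/
theorem thompsonOf_le {S : Sylow p G} {A : Subgroup ↥(S : Subgroup G)}
    (hA : A ∈ maxElementaryAbelianSubgroups p ↥(S : Subgroup G)) :
    A.map (S : Subgroup G).subtype ∈ maxElementaryAbelianSubgroups p G := by
  obtain ⟨hAe, hAm⟩ := hA
  refine ⟨⟨⟨⟨?_⟩⟩, ?_⟩, fun B hB => ?_⟩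
  · rintro ⟨_, a, ha, rfl⟩ ⟨_, b, hb, rfl⟩
    apply Subtype.ext
    change (a : G) * (b : G) = (b : G) * (a : G)
    have h := Cfsg.Agent.H02.commV_of_ea hAe a ha b hb
    exact congrArg Subtype.val h
  · rintro _ ⟨a, ha, rfl⟩
    have := hAe.2 a ha
    simpa using congrArg Subtype.val this
  · rw [← Nat.card_congr (Subgroup.equivMapOfInjective A _ (S : Subgroup G).subtype_injective).toEquiv]
    -- `B` is conjugate into `S`
    have hBp : IsPGroup p B := Cfsg.Agent.H02.ea_isPGroup hB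
    obtain ⟨T, hT⟩ := hBp.exists_le_sylow
    obtain ⟨g, hg⟩ := MulAction.exists_smul_eq G T S
    have hB' : B.map (MulAut.conj g).toMonoidHom ≤ (S : Subgroup G) := by
      rw [← hg, Sylow.smul_def, Sylow.pointwise_smul_def]
      rintro _ ⟨b, hb, rfl⟩
      exact Subgroup.smul_mem_pointwise_smul _ _ _ (hT hb)
    have hcard : Nat.card (B.map (MulAut.conj g).toMonoidHom) = Nat.card B :=
      (Nat.card_congr (Subgroup.equivMapOfInjective B _ (MulAut.conj g).injective).toEquiv).symm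
    rw [← hcard]
    let B₁ := (B.map (MulAut.conj g).toMonoidHom).subgroupOf (S : Subgroup G)
    have hB₁c : Nat.card B₁ = Nat.card (B.map (MulAut.conj g).toMonoidHom) :=
      Nat.card_congr (Subgroup.subgroupOfEquivOfLe hB').toEquiv
    rw [← hB₁c]
    apply hAm
    have hBe' : IsElementaryAbelian p (B.map (MulAut.conj g).toMonoidHom) := by
      have hcB := Cfsg.Agent.H02.commV_of_ea hB
      refine ⟨⟨⟨?_⟩⟩, ?_⟩
      · rintro ⟨_, a, ha, rfl⟩ ⟨_, b, hb, rfl⟩
        apply Subtype.ext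
        change g * a * g⁻¹ * (g * b * g⁻¹) = g * b * g⁻¹ * (g * a * g⁻¹)
        have := hcB a ha b hb
        calc g * a * g⁻¹ * (g * b * g⁻¹) = g * (a * b) * g⁻¹ := by group
          _ = g * (b * a) * g⁻¹ := by rw [this]
          _ = g * b * g⁻¹ * (g * a * g⁻¹) := by group
      · rintro _ ⟨a, ha, rfl⟩
        change (g * a * g⁻¹) ^ p = 1
        rw [conj_pow, hB.2 a ha]; group
    refine ⟨⟨⟨fun a b => Subtype.ext (Subtype.ext ?_)⟩⟩, fun a ha => Subtype.ext ?_⟩
    · exact Cfsg.Agent.H02.commV_of_ea hBe' _ a.2 _ b.2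
    · simpa using hBe'.2 _ ha

/-- The Frattini argument under `J(G) ≤ C`. -/
theorem factorizable_of_le (hO : pPrimeCore p G = ⊥) {C : Subgroup G} [hC : C.Normal]
    (hJC : thompsonSubgroup p G ≤ C)
    (hCZ : ∀ S : Sylow p G, C ≤ Subgroup.centralizer
      (omegaOne p ((S : Subgroup G) ⊓ Subgroup.centralizer ((S : Subgroup G) : Set G)) : Set G)) :
    IsThompsonFactorizable p G := by
  classical
  intro S g
  obtain ⟨P, hP⟩ := Cfsg.Agent.H13.exists_sylow_inf_normal S C
  have hFrat := Sylow.normalizer_sup_eq_top P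
  obtain ⟨T, hT⟩ : ∃ T, T = (S : Subgroup G) ⊓ C := ⟨_, rfl⟩
  have hPT : P.map C.subtype = T := by
    rw [hT]
    exact hP
  rw [hPT] at hFrat
  have hg : g ∈ Subgroup.normalizer ((T : Subgroup G) : Set G) ⊔ C := by
    rw [hFrat]; trivial
  rw [sup_comm] at hg
  have hnC : Subgroup.normalizer ((T : Subgroup G) : Set G) ≤ Subgroup.normalizer ((C : Subgroup G) : Set G) := by
    intro x _
    exact Subgroup.mem_normalizer_iff.mpr fun y => by
      constructor
      · exact fun hy => hC.conj_mem y hy x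
      · intro hy
        have := hC.conj_mem _ hy x⁻¹
        simpa [mul_assoc] using this
  obtain ⟨c, hc, n, hn, rfl⟩ := Cfsg.Agent.H01.exists_mul_of_mem_sup hnC hg
  refine ⟨1, Subgroup.one_mem _, c, hCZ S hc, n, ?_, by group⟩
  -- `n` normalizes `J(S)`
  apply Cfsg.Agent.H19.mem_normalizer_of_conj_le
  have hle : thompsonSubgroupOf p (S : Subgroup G) ≤
      (thompsonSubgroupOf p (S : Subgroup G)).comap (MulAut.conj n).toMonoidHom := by
    unfold thompsonSubgroupOf thompsonSubgroup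
    rw [Subgroup.map_le_iff_le_comap]
    apply sSup_le
    intro A hA x hx
    have hAG := thompsonOf_le hA
    have hAT : A.map (S : Subgroup G).subtype ≤ T := by
      rw [hT]
      refine le_inf (Subgroup.map_subtype_le _) ?_
      exact (le_sSup hAG : _ ≤ thompsonSubgroup p G).trans hJC
    have hconj := maxea_conj hAG n
    have hconjT : (A.map (S : Subgroup G).subtype).map (MulAut.conj n).toMonoidHom ≤ (S : Subgroup G) := by
      have h1 : T ≤ (S : Subgroup G) := by rw [hT]; exact inf_le_left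
      rintro _ ⟨y, hy, rfl⟩
      apply h1
      exact Cfsg.Agent.H02.conj_mem_of_normalizer hn (hAT hy)
    have h2 := le_thompsonOf hconjT hconj
    exact h2 ⟨_, ⟨x, hx, rfl⟩, rfl⟩
  intro x hx
  exact hle hx

end Cfsg.Agent.H14
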