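import Mathlib
import Cfsg.Agent.Lib.H14.BO10
/-! Thompson factorization fails: `SL₂(p)`. -/
set_option autoImplicit false
set_option linter.unusedSectionVars false
set_option linter.unusedVariables false
set_option linter.style.longLine false
namespace Cfsg.Agent.H14
open Cfsg
open Cfsg.Agent.H02 (offVal)
open scoped commutatorElement
open Matrix MatrixGroups

variable {G : Type*} [Group G] [Finite G] {p : ℕ} [Fact p.Prime]

section model

variable (V : Subgroup G) [hVn : V.Normal] (hV : IsElementaryAbelian p V) (hs : IsPSolvable p G)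
    (hO : ∀ M : Subgroup G, M.Normal → (∀ x ∈ M, ∃ k : ℕ, x ^ p ^ k ∈ Subgroup.centralizer (V : Set G)) →
      M ≤ Subgroup.centralizer (V : Set G))
include hV hs hO

/-- The images of maximal elementary abelian subgroups are best offenders. -/
theorem maxea_best {Y : Subgroup G} [hY : Y.Normal] {A : Subgroup G} (hA : A ∈ maxElementaryAbelianSubgroups p G) :
    IsBestOffenderOn p (holV V) (A.map (holF V)) := by
  obtain ⟨e1, -, -⟩ := maxea_facts (p := p) V hV hs hO hA
  have hF := hol_FFS V hV hs hO (⊤ : Subgroup G)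
  have hcA := Cfsg.Agent.H02.commV_of_ea hA.1
  have hc : ∀ x ∈ A.map (holF V), ∀ y ∈ A.map (holF V), x * y = y * x := by
    rintro _ ⟨x, hx, rfl⟩ _ ⟨y, hy, rfl⟩
    rw [← map_mul, ← map_mul, hcA x hx y hy]
  have hpw : ∀ x ∈ A.map (holF V), x ^ p = 1 := by
    rintro _ ⟨x, hx, rfl⟩
    rw [← map_pow, hA.1.2 x hx, map_one]
  refine ⟨fun B hB => ?_, ?_, fun x hx => ?_⟩
  · have h1 := hF.val_le (B := B) (hB.trans (Subgroup.map_mono le_top)) (fun x hx y hy => hc x (hB hx) y (hB hy))
      (fun x hx => hpw x (hB hx))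
    unfold offVal at h1
    rw [card_holV] at h1
    rw [card_fix, e1]
    exact h1
  · rw [Subgroup.commutator_le]
    intro x hx y hy
    have h1 : ⁅x, y⁆ = 1 := commutatorElement_eq_one_iff_commute.mpr (hc x hx y hy)
    rw [h1]
    exact Subgroup.one_mem _
  · rw [hpw x hx]
    exact Subgroup.one_mem _

/-- `J(G)` in the model is generated by best offenders. -/
theorem thompson_hS3 :
    (thompsonSubgroup p G).map (holF V) =
      ⨆ A : {A : Subgroup (Hol V) // A ≤ (thompsonSubgroup p G).map (holF V) ∧ IsBestOffenderOn p (holV V) A}, (A : Subgroup (Hol V)) := by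
  apply le_antisymm
  · rw [Subgroup.map_le_iff_le_comap]
    apply sSup_le
    intro A hA
    rw [← Subgroup.map_le_iff_le_comap]
    exact le_iSup_of_le (⟨A.map (holF V), Subgroup.map_mono (le_sSup hA), maxea_best (p := p) V hV hs hO (Y := ⊤) hA⟩ :
      {A : Subgroup (Hol V) // A ≤ (thompsonSubgroup p G).map (holF V) ∧ IsBestOffenderOn p (holV V) A}) le_rfl
  · exact iSup_le fun A => A.2.1

end model

/-- S0618. -/
theorem thompson_fail_main (hs : IsPSolvable p G) (hO : pPrimeCore p G = ⊥) (hnf : ¬ IsThompsonFactorizable p G) :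
    (p = 2 ∨ p = 3) ∧ ∃ E : Subgroup G, Subgroup.centralizer (omZ p G : Set G) ≤ E ∧
      E ≤ thompsonSubgroup p G ⊔ Subgroup.centralizer (omZ p G : Set G) ∧
      thompsonSubgroup p G ⊔ Subgroup.centralizer (omZ p G : Set G) ≤ Subgroup.normalizer (E : Set G) ∧
      ∃ hn : ((Subgroup.centralizer (omZ p G : Set G)).subgroupOf E).Normal,
        Nonempty ((↥E ⧸ (Subgroup.centralizer (omZ p G : Set G)).subgroupOf E) ≃* SL(2, ZMod p)) := by
  classical
  have hV := omZ_ea hs hO
  have hO' := omZ_core (p := p) (G := G)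
  obtain ⟨C, hC⟩ : ∃ C, C = Subgroup.centralizer (omZ p G : Set G) := ⟨_, rfl⟩
  have hJC : ¬ thompsonSubgroup p G ≤ C := by
    intro h
    apply hnf
    haveI : C.Normal := by
      rw [hC]; infer_instance
    refine factorizable_of_le hO h fun S => ?_
    rw [hC]
    apply Subgroup.centralizer_le
    exact le_iSup (fun S : Sylow p G => omegaOne p ((S : Subgroup G) ⊓ Subgroup.centralizer ((S : Subgroup G) : Set G))) S
  have hF := hol_FFS (omZ p G) hV hs hO' (thompsonSubgroup p G)
  have hS3 := thompson_hS3 (omZ p G) hV hs hO'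
  have hQ1 : (thompsonSubgroup p G).map (holF (omZ p G)) ≠ ⊥ := by
    intro h
    apply hJC
    intro j hj
    have h1 : holF (omZ p G) j ∈ (thompsonSubgroup p G).map (holF (omZ p G)) := ⟨j, hj, rfl⟩
    rw [h] at h1
    rw [hC]
    exact (holF_eq_one_iff (omZ p G)).mp h1
  have hex : ∃ A, MinOff p (holV (omZ p G)) ((thompsonSubgroup p G).map (holF (omZ p G))) A := by
    by_contra hcon
    push Not at hcon
    apply hQ1
    rw [eq_bot_iff]
    exact H_gen hF hS3 fun A hA => absurd hA (hcon A)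
  obtain ⟨A, hAH, hA, hAV, hmin⟩ := hex
  obtain ⟨a, rfl, ha⟩ := tv_of_min hF hAH hA hAV hmin
  obtain ⟨b, u, w, c, hP⟩ := exists_PD_of_tv hF ha
  obtain ⟨φ, -, -⟩ := hP.exists_iso hF
  rw [← hP.ec_eq hF] at φ
  have hEQ := ec_le_H hF hP.ta.mem
  have hNE := H_norm_ec hF hP hS3
  obtain ⟨Ê, hÊ⟩ : ∃ Ê, Ê = ec ((pPrimeCore p ↥((thompsonSubgroup p G).map (holF (omZ p G)))).map ((thompsonSubgroup p G).map (holF (omZ p G))).subtype) a := ⟨_, rfl⟩
  rw [← hÊ] at φ hEQ hNE
  rw [← hC]
  refine ⟨hP.p_cases hF, Ê.comap (holF (omZ p G)), ?_, ?_, ?_, ?_⟩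
  · intro x hx
    rw [hC] at hx
    change holF (omZ p G) x ∈ Ê
    rw [(holF_eq_one_iff (omZ p G)).mpr hx]
    exact Ê.one_mem
  · intro x hx
    obtain ⟨j, hj, hjx⟩ := hEQ hx
    have h1 : j⁻¹ * x ∈ C := by
      rw [hC]
      apply (holF_eq_one_iff (omZ p G)).mp
      rw [map_mul, map_inv, hjx]
      group
    have e : x = j * (j⁻¹ * x) := by group
    rw [e]
    exact Subgroup.mul_mem _ (Subgroup.mem_sup_left hj) (Subgroup.mem_sup_right h1)
  · apply sup_le
    · intro j hj
      have h1 := hNE ⟨j, hj, rfl⟩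
      refine Subgroup.mem_normalizer_iff.mpr fun x => ?_
      change holF (omZ p G) x ∈ Ê ↔ holF (omZ p G) (j * x * j⁻¹) ∈ Ê
      rw [map_mul, map_mul, map_inv]
      exact Subgroup.mem_normalizer_iff.mp h1 _
    · intro y hy
      rw [hC] at hy
      have h1 := (holF_eq_one_iff (omZ p G)).mpr hy
      refine Subgroup.mem_normalizer_iff.mpr fun x => ?_
      change holF (omZ p G) x ∈ Ê ↔ holF (omZ p G) (y * x * y⁻¹) ∈ Ê
      rw [map_mul, map_mul, map_inv, h1]
      simp
  · haveI hCn : C.Normal := by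
      rw [hC]; infer_instance
    refine ⟨inferInstance, ⟨?_⟩⟩
    let r : ↥(Ê.comap (holF (omZ p G))) →* ↥Ê :=
      ((holF (omZ p G)).comp (Ê.comap (holF (omZ p G))).subtype).codRestrict Ê (fun x => x.2)
    have hsurj : Function.Surjective r := by
      rintro ⟨y, hy⟩
      obtain ⟨j, hj, rfl⟩ := hEQ hy
      exact ⟨⟨j, hy⟩, rfl⟩
    have hker : C.subgroupOf (Ê.comap (holF (omZ p G))) = r.ker := by
      ext x
      rw [Subgroup.mem_subgroupOf, MonoidHom.mem_ker, hC]
      constructor
      · intro h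
        exact Subtype.ext ((holF_eq_one_iff (omZ p G)).mpr h)
      · intro h
        exact (holF_eq_one_iff (omZ p G)).mp (congrArg Subtype.val h)
    exact (QuotientGroup.quotientMulEquivOfEq hker).trans
      ((QuotientGroup.quotientKerEquivOfSurjective r hsurj).trans φ)

end Cfsg.Agent.H14
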