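import Mathlib
import Cfsg.Agent.Lib.H14.BO11
/-! A coprime group permuting the planes. -/
set_option autoImplicit false
set_option linter.unusedSectionVars false
set_option linter.unusedVariables false
set_option linter.style.longLine false
namespace Cfsg.Agent.H14
open Cfsg
open Cfsg.Agent.H02 (offVal)
open scoped commutatorElement
open Matrix MatrixGroups

variable {G : Type*} [Group G] [Finite G] {p q : ℕ} [Fact p.Prime] [Fact q.Prime] {V H K : Subgroup G}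

lemma arith_q {p i : ℕ} (hp : 2 ≤ p) (hq : ¬ q ∣ (p + 1) * p * (p - 1)) (hi : i ≤ 2) (h : p ^ i ≡ p ^ 2 [MOD q]) : i = 2 := by
  obtain ⟨m, rfl⟩ : ∃ m, p = m + 1 := ⟨p - 1, by omega⟩
  have e : (m + 1 + 1) * (m + 1) * (m + 1 - 1) = (m + 1) * ((m + 1) ^ 2 - 1) := by
    have h1 : (m + 1) ^ 2 - 1 = m * (m + 2) := by
      have : (m + 1) ^ 2 = m * (m + 2) + 1 := by ring
      omega
    rw [h1, Nat.add_sub_cancel]
    ring
  have e2 : (m + 1 + 1) * (m + 1) * (m + 1 - 1) = (m + 2) * ((m + 1) ^ 2 - (m + 1) ^ 1) := by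
    have h1 : (m + 1) ^ 2 - (m + 1) ^ 1 = m * (m + 1) := by
      have : (m + 1) ^ 2 = m * (m + 1) + (m + 1) ^ 1 := by ring
      omega
    rw [h1, Nat.add_sub_cancel]
    ring
  interval_cases i
  · exfalso
    apply hq
    rw [pow_zero] at h
    have h2 := (Nat.modEq_iff_dvd' (Nat.one_le_pow _ _ (by omega))).mp h
    rw [e]
    exact Dvd.dvd.mul_left h2 _
  · exfalso
    apply hq
    have h2 := (Nat.modEq_iff_dvd' (Nat.pow_le_pow_right (by omega) (by norm_num))).mp h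
    rw [e2]
    exact Dvd.dvd.mul_left h2 _
  · rfl

/-- A `q`-group normalizing `V` and `E` acts trivially on `E`. -/
theorem PD.stab_fix {a b u w : G} {c : ℕ} (hF : FFS p V H K) (hP : PD p V H K a b u w c)
    (hq : ¬ q ∣ (p + 1) * p * (p - 1)) {Y : Subgroup G} (hY : IsPGroup q Y)
    (hYV : Y ≤ Subgroup.normalizer (V : Set G)) (hYE : Y ≤ Subgroup.normalizer ((ec K a : Subgroup G) : Set G))
    {y e : G} (hy : y ∈ Y) (he : e ∈ ec K a) : y * e = e * y := by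
  classical
  have hp : p.Prime := Fact.out
  have hYW : Y ≤ Subgroup.normalizer ((wc V K a : Subgroup G) : Set G) := fun g hg =>
    conj_normalizer_comm (hYV hg) (hYE hg)
  obtain ⟨W, hW⟩ : ∃ W, W = wc V K a := ⟨_, rfl⟩
  rw [← hW] at hYW
  -- the action on `W`
  letI act : MulAction Y W :=
    { smul := fun y m => ⟨y * m * (y : G)⁻¹, Cfsg.Agent.H02.conj_mem_of_normalizer (hYW y.2) m.2⟩
      one_smul := fun m => Subtype.ext (by
        change ((1 : Y) : G) * m * ((1 : Y) : G)⁻¹ = m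
        simp)
      mul_smul := fun y z m => Subtype.ext (by
        change ((y * z : Y) : G) * m * ((y * z : Y) : G)⁻¹ = y * (z * m * (z : G)⁻¹) * (y : G)⁻¹
        simp only [Subgroup.coe_mul]
        group) }
  have hmod := hY.card_modEq_card_fixedPoints W
  obtain ⟨C₀, hC₀⟩ : ∃ C₀, C₀ = W ⊓ Subgroup.centralizer (Y : Set G) := ⟨_, rfl⟩
  have hC₀mem : ∀ x, x ∈ C₀ ↔ x ∈ W ∧ x ∈ Subgroup.centralizer (Y : Set G) := by
    intro x; rw [hC₀]; rfl
  have hfix : Nat.card (MulAction.fixedPoints Y W) = Nat.card C₀ := by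
    refine Nat.card_congr ⟨fun m => ⟨m.1.1, ?_⟩, fun m => ⟨⟨m.1, ?_⟩, ?_⟩, fun m => rfl, fun m => rfl⟩
    · refine (hC₀mem _).mpr ⟨m.1.2, Subgroup.mem_centralizer_iff.mpr fun z hz => ?_⟩
      have h1 := m.2 ⟨z, hz⟩
      have h2 : z * (m.1 : G) * z⁻¹ = m.1 := congrArg Subtype.val h1
      calc z * (m.1 : G) = z * (m.1 : G) * z⁻¹ * z := by group
        _ = m.1 * z := by rw [h2]
    · exact ((hC₀mem _).mp m.2).1
    · rintro ⟨z, hz⟩
      apply Subtype.ext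
      have h1 := (hC₀mem _).mp m.2
      change z * m.1 * z⁻¹ = m.1
      rw [Subgroup.mem_centralizer_iff.mp h1.2 z hz]
      group
  have hcardW : Nat.card W = p ^ 2 := by
    rw [hW]
    exact hP.card_wc hF
  have hC₀W : C₀ ≤ W := fun x hx => ((hC₀mem x).mp hx).1
  have hdvd : Nat.card C₀ ∣ p ^ 2 := hcardW ▸ Subgroup.card_dvd_of_le hC₀W
  obtain ⟨i, hi, hci⟩ := (Nat.dvd_prime_pow hp).mp hdvd
  rw [hfix, hci, hcardW] at hmod
  have hi2 : i = 2 := arith_q hp.two_le hq hi hmod.symm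
  subst hi2
  have hCW : C₀ = W := Subgroup.eq_of_le_of_card_ge hC₀W (by rw [hci, hcardW])
  have hyW : ∀ m ∈ W, y * m = m * y := by
    intro m hm
    rw [← hCW] at hm
    exact Subgroup.mem_centralizer_iff.mp ((hC₀mem m).mp hm).2 y hy
  have hyW' : ∀ m ∈ W, y⁻¹ * m = m * y⁻¹ := by
    intro m hm
    have := hyW m hm
    calc y⁻¹ * m = y⁻¹ * (m * y) * y⁻¹ := by group
      _ = y⁻¹ * (y * m) * y⁻¹ := by rw [this]
      _ = m * y⁻¹ := by group
  -- `[y, e]` is trivial on `W`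
  have hc1 : y * e * y⁻¹ * e⁻¹ = 1 := by
    have heN : e ∈ Subgroup.normalizer ((wc V K a : Subgroup G) : Set G) := by
      have h1 := hP.E_norm_W hF
      rw [hP.ec_eq hF] at he
      have h2 := h1 he
      rwa [hP.wc_eq hF]
    rw [← hW] at heN
    apply hP.ec_faithful hF
    · have h1 : y * e * y⁻¹ ∈ ec K a := Cfsg.Agent.H02.conj_mem_of_normalizer (hYE hy) he
      exact Subgroup.mul_mem _ h1 (Subgroup.inv_mem _ he)
    · intro m hm
      rw [← hW] at hm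
      have h1 : e⁻¹ * m * e⁻¹⁻¹ ∈ W := Cfsg.Agent.H02.conj_mem_of_normalizer (Subgroup.inv_mem _ heN) hm
      have h2 := hyW' _ h1
      have h3 := hyW m hm
      calc y * e * y⁻¹ * e⁻¹ * m = y * e * (y⁻¹ * (e⁻¹ * m * e⁻¹⁻¹)) * e⁻¹ := by group
        _ = y * e * ((e⁻¹ * m * e⁻¹⁻¹) * y⁻¹) * e⁻¹ := by rw [h2]
        _ = (y * m) * (e * y⁻¹ * e⁻¹) := by group
        _ = (m * y) * (e * y⁻¹ * e⁻¹) := by rw [h3]
        _ = m * (y * e * y⁻¹ * e⁻¹) := by group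
  have hc2 : y * e * y⁻¹ = e := mul_inv_eq_one.mp hc1
  calc y * e = y * e * y⁻¹ * y := by group
    _ = e * y := by rw [hc2]

lemma tvL_conj' (hF : FFS p V H K) {g a : G} (hg : g ∈ Subgroup.normalizer (V : Set G)) :
    tvL V (g * a * g⁻¹) = (tvL V a).map (MulAut.conj g).toMonoidHom := by
  unfold tvL
  rw [Subgroup.map_commutator]
  have h1 : V.map (MulAut.conj g).toMonoidHom = V := Subgroup.mem_normalizer_iff_map_conj_eq.mp hg
  rw [h1]
  congr 1
  rw [MonoidHom.map_zpowers]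
  rfl

lemma Tv.conj' (hF : FFS p V H K) {g a : G} (ha : Tv p V H a) (hgV : g ∈ Subgroup.normalizer (V : Set G))
    (hgH : g ∈ Subgroup.normalizer (H : Set G)) : Tv p V H (g * a * g⁻¹) := by
  refine ⟨Cfsg.Agent.H02.conj_mem_of_normalizer hgH ha.mem, ?_, ?_, ?_⟩
  · rw [conj_pow, ha.pow]; group
  · intro h
    apply ha.ne
    have : a = g⁻¹ * (g * a * g⁻¹) * g := by group
    rw [this, h]; group
  · rw [tvL_conj' hF hgV]
    rw [← ha.card]
    exact Nat.card_congr (Subgroup.equivMapOfInjective _ _ (MulAut.conj g).injective).toEquiv.symm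

lemma ec_conj_mem {g a e : G} (hgK : g ∈ Subgroup.normalizer (K : Set G)) (he : e ∈ ec K a) :
    g * e * g⁻¹ ∈ ec K (g * a * g⁻¹) := by
  have hle : ec K a ≤ (ec K (g * a * g⁻¹)).comap (MulAut.conj g).toMonoidHom := by
    apply ec_le_of_T
    rintro t ⟨k, hk, rfl⟩
    change g * (k * a * k⁻¹) * g⁻¹ ∈ ec K (g * a * g⁻¹)
    apply Tset_sub_ec
    refine ⟨g * k * g⁻¹, Cfsg.Agent.H02.conj_mem_of_normalizer hgK hk, by group⟩
  exact hle he

lemma ec_conj {g a : G} (hgK : g ∈ Subgroup.normalizer (K : Set G)) :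
    (ec K a).map (MulAut.conj g).toMonoidHom = ec K (g * a * g⁻¹) := by
  apply le_antisymm
  · rintro _ ⟨e, he, rfl⟩
    exact ec_conj_mem hgK he
  · intro e he
    have h1 := ec_conj_mem (a := g * a * g⁻¹) (Subgroup.inv_mem _ hgK) he
    have e1 : g⁻¹ * (g * a * g⁻¹) * g⁻¹⁻¹ = a := by group
    rw [e1] at h1
    exact ⟨_, h1, by change g * (g⁻¹ * e * g⁻¹⁻¹) * g⁻¹ = e; group⟩

lemma noncommProd_map_aux {α β γ : Type*} [Monoid γ] (s : Finset α) (g : α ↪ β) (f : β → γ)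
    (comm : ((s.map g : Finset β) : Set β).Pairwise (Function.onFun Commute f))
    (comm' : (s : Set α).Pairwise (Function.onFun Commute (f ∘ g))) :
    (s.map g).noncommProd f comm = s.noncommProd (f ∘ g) comm' := by
  unfold Finset.noncommProd
  simp only [Finset.map_val, Multiset.map_map]

section orbit

variable (hF : FFS p V H K) {Ξ : Subgroup G} (hΞq : IsPGroup q Ξ)
    (hΞV : Ξ ≤ Subgroup.normalizer (V : Set G)) (hΞH : Ξ ≤ Subgroup.normalizer (H : Set G))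
    (hΞK : Ξ ≤ Subgroup.normalizer (K : Set G)) (hq : ¬ q ∣ (p + 1) * p * (p - 1))
include hF hΞq hΞV hΞH hΞK hq

/-- The orbit product: a fixed point projecting to a given element. -/
theorem orbit_fix {a e : G} (ha : Tv p V H a) (he : e ∈ ec K a) :
    ∃ d ∈ H, (∀ z ∈ Ξ, z * d = d * z) ∧ ∃ d', (∀ x ∈ ec K a, d' * x = x * d') ∧ d = e * d' := by
  classical
  letI : Fintype Ξ := Fintype.ofFinite Ξ
  obtain ⟨b, u, w, c, hP⟩ := exists_PD_of_tv hF ha
  -- stabilizers act trivially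
  have hstab : ∀ z ∈ Ξ, ec K (z * a * z⁻¹) = ec K a → z * e = e * z := by
    intro z hz h
    have hzE : z ∈ Ξ ⊓ Subgroup.normalizer ((ec K a : Subgroup G) : Set G) := by
      refine ⟨hz, Subgroup.mem_normalizer_iff_map_conj_eq.mpr ?_⟩
      exact (ec_conj (K := K) (a := a) (hΞK hz)).trans h
    exact hP.stab_fix hF hq (hΞq.to_le inf_le_left) (inf_le_left.trans hΞV) inf_le_right hzE he
  -- the components
  let O : Finset (Subgroup G) := Finset.univ.image (fun y : Ξ => ec K ((y : G) * a * (y : G)⁻¹))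
  have hOmem : ∀ F, F ∈ O ↔ ∃ y : Ξ, F = ec K ((y : G) * a * (y : G)⁻¹) := by
    intro F
    simp only [O, Finset.mem_image, Finset.mem_univ, true_and]
    exact ⟨fun ⟨y, h⟩ => ⟨y, h.symm⟩, fun ⟨y, h⟩ => ⟨y, h.symm⟩⟩
  let comp : Subgroup G → G := fun F =>
    if h : ∃ y : Ξ, F = ec K ((y : G) * a * (y : G)⁻¹) then (h.choose : G) * e * (h.choose : G)⁻¹ else 1
  have hcomp : ∀ y : Ξ, comp (ec K ((y : G) * a * (y : G)⁻¹)) = (y : G) * e * (y : G)⁻¹ := by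
    intro y
    have h : ∃ y' : Ξ, ec K ((y : G) * a * (y : G)⁻¹) = ec K ((y' : G) * a * (y' : G)⁻¹) := ⟨y, rfl⟩
    simp only [comp, dif_pos h]
    obtain ⟨y₀, hy₀⟩ : ∃ y₀ : Ξ, y₀ = h.choose := ⟨_, rfl⟩
    have hspec := h.choose_spec
    rw [← hy₀] at hspec ⊢
    -- `y₀⁻¹ y` stabilizes `E`
    have hz : ((y₀⁻¹ * y : Ξ) : G) ∈ Ξ ∧ ec K (((y₀⁻¹ * y : Ξ) : G) * a * ((y₀⁻¹ * y : Ξ) : G)⁻¹) = ec K a := by
      refine ⟨(y₀⁻¹ * y : Ξ).2, ?_⟩
      have h1 := ec_conj (K := K) (g := (y₀ : G)⁻¹) (a := (y : G) * a * (y : G)⁻¹) (Subgroup.inv_mem _ (hΞK y₀.2))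
      have h2 := ec_conj (K := K) (g := (y₀ : G)⁻¹) (a := (y₀ : G) * a * (y₀ : G)⁻¹) (Subgroup.inv_mem _ (hΞK y₀.2))
      have e1 : (y₀ : G)⁻¹ * ((y₀ : G) * a * (y₀ : G)⁻¹) * (y₀ : G)⁻¹⁻¹ = a := by group
      have e2 : (y₀ : G)⁻¹ * ((y : G) * a * (y : G)⁻¹) * (y₀ : G)⁻¹⁻¹ = ((y₀⁻¹ * y : Ξ) : G) * a * ((y₀⁻¹ * y : Ξ) : G)⁻¹ := by
        simp only [Subgroup.coe_mul, Subgroup.coe_inv]
        group
      rw [e1] at h2
      rw [e2] at h1
      rw [← h1, ← h2, hspec]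
    have h3 := hstab _ hz.1 hz.2
    simp only [Subgroup.coe_mul, Subgroup.coe_inv] at h3
    have e3 : (y : G) * e * (y : G)⁻¹ = (y₀ : G) * (((y₀ : G)⁻¹ * y) * e) * ((y₀ : G)⁻¹ * y)⁻¹ * (y₀ : G)⁻¹ := by group
    rw [e3, h3]
    group
  have hcompmem : ∀ y : Ξ, (y : G) * e * (y : G)⁻¹ ∈ ec K ((y : G) * a * (y : G)⁻¹) := fun y =>
    ec_conj_mem (hΞK y.2) he
  have htv : ∀ y : Ξ, Tv p V H ((y : G) * a * (y : G)⁻¹) := fun y => Tv.conj' hF ha (hΞV y.2) (hΞH y.2)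
  have hdich : ∀ (t₁ t₂ : G), Tv p V H t₁ → Tv p V H t₂ → ec K t₁ ≠ ec K t₂ →
      ∀ x₁ ∈ ec K t₁, ∀ x₂ ∈ ec K t₂, x₁ * x₂ = x₂ * x₁ := by
    intro t₁ t₂ h₁ h₂ hne x₁ hx₁ x₂ hx₂
    obtain ⟨_, _, _, _, hP₁⟩ := exists_PD_of_tv hF h₁
    obtain ⟨_, _, _, _, hP₂⟩ := exists_PD_of_tv hF h₂
    rcases ec_dich hF hP₁ hP₂ with h | ⟨-, -, h⟩
    · exact absurd h hne
    · exact h x₁ hx₁ x₂ hx₂
  have hcomm : (O : Set (Subgroup G)).Pairwise (Function.onFun Commute comp) := by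
    intro F₁ h₁ F₂ h₂ hne
    obtain ⟨y₁, rfl⟩ := (hOmem _).mp (Finset.mem_coe.mp h₁)
    obtain ⟨y₂, rfl⟩ := (hOmem _).mp (Finset.mem_coe.mp h₂)
    change Commute (comp _) (comp _)
    rw [hcomp, hcomp]
    exact hdich _ _ (htv y₁) (htv y₂) hne _ (hcompmem y₁) _ (hcompmem y₂)
  have hEmem : ec K a ∈ O := by
    apply (hOmem _).mpr
    refine ⟨1, ?_⟩
    simp
  have hcompE : comp (ec K a) = e := by
    have h1 := hcomp 1
    simpa using h1
  refine ⟨O.noncommProd comp hcomm, ?_, ?_, (O.erase (ec K a)).noncommProd comp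
    (fun _ hx _ hy hxy => hcomm (Finset.mem_coe.mpr (Finset.mem_of_mem_erase (Finset.mem_coe.mp hx)))
      (Finset.mem_coe.mpr (Finset.mem_of_mem_erase (Finset.mem_coe.mp hy))) hxy), ?_, ?_⟩
  · apply Subgroup.noncommProd_mem
    intro F hFO
    obtain ⟨y, rfl⟩ := (hOmem _).mp hFO
    rw [hcomp]
    exact ec_le_H hF (htv y).mem (hcompmem y)
  · intro z hz
    let ψ := (MulAut.conj z).toMonoidHom
    let π : Subgroup G ↪ Subgroup G :=
      ⟨fun F => F.map ψ, Subgroup.map_injective (MulAut.conj z).injective⟩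
    have hπ : ∀ y : Ξ, π (ec K ((y : G) * a * (y : G)⁻¹)) =
        ec K (((⟨z, hz⟩ * y : Ξ) : G) * a * ((⟨z, hz⟩ * y : Ξ) : G)⁻¹) := by
      intro y
      change (ec K ((y : G) * a * (y : G)⁻¹)).map (MulAut.conj z).toMonoidHom = _
      rw [ec_conj (hΞK hz)]
      congr 1
      simp only [Subgroup.coe_mul]
      group
    have hOmap : O.map π = O := by
      ext F
      rw [Finset.mem_map]
      constructor
      · rintro ⟨F₀, hF₀, rfl⟩
        obtain ⟨y, rfl⟩ := (hOmem _).mp hF₀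
        rw [hπ]
        exact (hOmem _).mpr ⟨_, rfl⟩
      · intro hFO
        obtain ⟨y, rfl⟩ := (hOmem _).mp hFO
        refine ⟨ec K (((⟨z, hz⟩⁻¹ * y : Ξ) : G) * a * ((⟨z, hz⟩⁻¹ * y : Ξ) : G)⁻¹), (hOmem _).mpr ⟨_, rfl⟩, ?_⟩
        rw [hπ]
        simp
    have hψ : ∀ F ∈ O, ψ (comp F) = comp (π F) := by
      intro F hFO
      obtain ⟨y, rfl⟩ := (hOmem _).mp hFO
      rw [hπ, hcomp, hcomp]
      change z * ((y : G) * e * (y : G)⁻¹) * z⁻¹ = _
      simp only [Subgroup.coe_mul]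
      group
    have hmain : ψ (O.noncommProd comp hcomm) = O.noncommProd comp hcomm := by
      rw [Finset.map_noncommProd]
      have hcomm2 : ((O.map π : Finset (Subgroup G)) : Set (Subgroup G)).Pairwise (Function.onFun Commute comp) := by
        rw [hOmap]
        exact hcomm
      have e1 : (O.map π).noncommProd comp hcomm2 = O.noncommProd comp hcomm :=
        Finset.noncommProd_congr hOmap (fun _ _ => rfl) _
      rw [← e1, noncommProd_map_aux O π comp hcomm2 (fun x hx y hy hxy => hcomm2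
        (Finset.mem_coe.mpr (Finset.mem_map_of_mem π (Finset.mem_coe.mp hx)))
        (Finset.mem_coe.mpr (Finset.mem_map_of_mem π (Finset.mem_coe.mp hy))) (fun h => hxy (π.injective h)))]
      exact Finset.noncommProd_congr rfl (fun F hF => hψ F hF) _
    have hmain' : z * (O.noncommProd comp hcomm) * z⁻¹ = O.noncommProd comp hcomm := hmain
    calc z * (O.noncommProd comp hcomm) = z * (O.noncommProd comp hcomm) * z⁻¹ * z := by group
      _ = _ := by rw [hmain']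
  · intro x hx
    apply Eq.symm
    apply Commute.eq
    apply Finset.noncommProd_commute
    intro F hFO
    obtain ⟨hne, hFO'⟩ := Finset.mem_erase.mp hFO
    obtain ⟨y, rfl⟩ := (hOmem _).mp hFO'
    rw [hcomp]
    exact hdich _ _ ha (htv y) (Ne.symm hne) _ hx _ (hcompmem y)
  · rw [← Finset.mul_noncommProd_erase O hEmem comp hcomm, hcompE]

/-- Generation of `H`. -/
theorem H_le_of_fix (hS3 : H = ⨆ A : {A : Subgroup G // A ≤ H ∧ IsBestOffenderOn p V A}, (A : Subgroup G))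
    {B : Subgroup G} (hB1 : ∀ d ∈ H, (∀ z ∈ Ξ, z * d = d * z) → d ∈ B)
    (hB2 : ∀ a, Tv p V H a → ∃ g ∈ H, g * a * g⁻¹ ∈ B) : H ≤ B := by
  apply H_gen hF hS3
  rintro A ⟨hAH, hA, hAV, hmin⟩
  obtain ⟨a, rfl, ha⟩ := tv_of_min hF hAH hA hAV hmin
  apply Subgroup.zpowers_le.mpr
  obtain ⟨g, hg, hgB⟩ := hB2 a ha
  have ha' := ha.conj hF hg
  obtain ⟨b, u, w, c, hP⟩ := exists_PD_of_tv hF ha'
  have hN := H_norm_ec hF hP hS3
  have hsup := ec_sup_F hF hP hS3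
  have hcm := ec_comm_F hF hP hS3
  have ha'E : g * a * g⁻¹ ∈ ec K (g * a * g⁻¹) := self_mem_ec K _
  have haE : a ∈ ec K (g * a * g⁻¹) := by
    have h1 := Cfsg.Agent.H02.conj_mem_of_normalizer (hN (H.inv_mem hg)) ha'E
    have e1 : g⁻¹ * (g * a * g⁻¹) * g⁻¹⁻¹ = a := by group
    rwa [e1] at h1
  have hle : ec K (g * a * g⁻¹) ≤ B := by
    apply ec_le_of_T
    rintro t ⟨k, hk, rfl⟩
    have hkH := hF.hKH hk
    rw [← hsup] at hkH
    have hFn : H ⊓ Subgroup.centralizer ((wc V K (g * a * g⁻¹) : Subgroup G) : Set G) ≤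
        Subgroup.normalizer ((ec K (g * a * g⁻¹) : Subgroup G) : Set G) := inf_le_left.trans hN
    obtain ⟨e₀, he₀, f₀, hf₀, rfl⟩ := Cfsg.Agent.H01.exists_mul_of_mem_sup hFn hkH
    have hcf : e₀ * f₀ * (g * a * g⁻¹) * (e₀ * f₀)⁻¹ = e₀ * (g * a * g⁻¹) * e₀⁻¹ := by
      have h1 : (g * a * g⁻¹) * f₀ = f₀ * (g * a * g⁻¹) := by
        have h2 := (Subgroup.commutator_eq_bot_iff_le_centralizer.mp hcm) ha'E
        exact Subgroup.mem_centralizer_iff.mp h2 f₀ hf₀ |>.symm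
      calc e₀ * f₀ * (g * a * g⁻¹) * (e₀ * f₀)⁻¹ = e₀ * (f₀ * (g * a * g⁻¹)) * f₀⁻¹ * e₀⁻¹ := by group
        _ = e₀ * ((g * a * g⁻¹) * f₀) * f₀⁻¹ * e₀⁻¹ := by rw [h1]
        _ = e₀ * (g * a * g⁻¹) * e₀⁻¹ := by group
    rw [hcf]
    obtain ⟨d, hdH, hdz, d', hd', rfl⟩ := orbit_fix hF hΞq hΞV hΞH hΞK hq ha' he₀
    have hdB := hB1 _ hdH hdz
    have h3 := B.mul_mem (B.mul_mem hdB hgB) (B.inv_mem hdB)
    have h4 := hd' _ ha'E
    have e2 : e₀ * d' * (g * a * g⁻¹) * (e₀ * d')⁻¹ = e₀ * (g * a * g⁻¹) * e₀⁻¹ := by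
      calc e₀ * d' * (g * a * g⁻¹) * (e₀ * d')⁻¹ = e₀ * (d' * (g * a * g⁻¹)) * d'⁻¹ * e₀⁻¹ := by group
        _ = e₀ * ((g * a * g⁻¹) * d') * d'⁻¹ * e₀⁻¹ := by rw [h4]
        _ = e₀ * (g * a * g⁻¹) * e₀⁻¹ := by group
    rwa [e2] at h3
  exact hle haE

end orbit

end Cfsg.Agent.H14
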