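import Mathlib
import Cfsg.Agent.Lib.H14.BO12
/-! Coprime action on a group with Thompson factorization failing. -/
set_option autoImplicit false
set_option linter.unusedSectionVars false
set_option linter.unusedVariables false
set_option linter.style.longLine false
namespace Cfsg.Agent.H14
open Cfsg
open Cfsg.Agent.H02 (offVal)
open scoped commutatorElement
open Matrix MatrixGroups

variable {L : Type*} [Group L] [Finite L] {p q : ℕ} [Fact p.Prime] [Fact q.Prime]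

/-- Automorphisms preserve `omZ`. -/
lemma omZ_map (σ : L ≃* L) {x : L} (hx : x ∈ omZ p L) : σ x ∈ omZ p L := by
  have hle : omZ p L ≤ (omZ p L).comap σ.toMonoidHom := by
    apply iSup_le
    intro S y hy
    obtain ⟨h1, h2, h3⟩ := Cfsg.Agent.H12.mem_omegaOne_center hy
    change σ y ∈ omZ p L
    let T : Sylow p L := S.mapSurjective (show Function.Surjective σ.toMonoidHom from σ.surjective)
    have hT : ∀ z, z ∈ (T : Subgroup L) ↔ σ.symm z ∈ (S : Subgroup L) := by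
      intro z
      rw [Sylow.coe_mapSurjective]
      constructor
      · rintro ⟨w, hw, rfl⟩
        have e : σ.symm (σ.toMonoidHom w) = w := by simp
        rw [e]
        exact hw
      · intro h
        exact ⟨_, h, by simp⟩
    apply mem_omZ (S := T)
    · rw [hT]; simpa using h1
    · intro w hw
      rw [hT] at hw
      have h4 := h2 _ hw
      have h5 := congrArg σ h4
      simpa [map_mul] using h5
    · rw [← map_pow, h3, map_one]
  exact hle hx

/-- Automorphisms preserve maximal elementary abelian subgroups. -/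
lemma maxea_map (σ : L ≃* L) {A : Subgroup L} (hA : A ∈ maxElementaryAbelianSubgroups p L) :
    A.map σ.toMonoidHom ∈ maxElementaryAbelianSubgroups p L := by
  have hea : ∀ (τ : L ≃* L) (B : Subgroup L), IsElementaryAbelian p B → IsElementaryAbelian p (B.map τ.toMonoidHom) := by
    intro τ B hB
    have hcB := Cfsg.Agent.H02.commV_of_ea hB
    refine ⟨⟨⟨?_⟩⟩, ?_⟩
    · rintro ⟨_, a, ha, rfl⟩ ⟨_, b, hb, rfl⟩
      apply Subtype.ext
      change τ a * τ b = τ b * τ a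
      rw [← map_mul, ← map_mul, hcB a ha b hb]
    · rintro _ ⟨a, ha, rfl⟩
      change (τ a) ^ p = 1
      rw [← map_pow, hB.2 a ha, map_one]
  refine ⟨hea σ A hA.1, fun B hB => ?_⟩
  rw [← Nat.card_congr (Subgroup.equivMapOfInjective A _ σ.injective).toEquiv]
  have h1 := hA.2 _ (hea σ.symm B hB)
  rwa [← Nat.card_congr (Subgroup.equivMapOfInjective B _ σ.symm.injective).toEquiv] at h1

lemma thompson_map (σ : L ≃* L) {x : L} (hx : x ∈ thompsonSubgroup p L) : σ x ∈ thompsonSubgroup p L := by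
  have hle : thompsonSubgroup p L ≤ (thompsonSubgroup p L).comap σ.toMonoidHom := by
    apply sSup_le
    intro A hA y hy
    exact (le_sSup (maxea_map σ hA) : _ ≤ thompsonSubgroup p L) ⟨y, hy, rfl⟩
  exact hle hx

/-- `N_Γ(Q)` normalizes `O_{p'}(Q)`. -/
lemma norm_pPrimeCore {Γ : Type*} [Group Γ] [Finite Γ] (Q : Subgroup Γ) {y : Γ} (hy : y ∈ Subgroup.normalizer (Q : Set Γ)) :
    y ∈ Subgroup.normalizer (((pPrimeCore p ↥Q).map Q.subtype : Subgroup Γ) : Set Γ) := by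
  classical
  haveI hKn : (pPrimeCore p ↥Q).Normal := Cfsg.Agent.H03.pPrimeCore_normal'
  obtain ⟨D, hD⟩ : ∃ D, D = (pPrimeCore p ↥Q).map Q.subtype := ⟨_, rfl⟩
  rw [← hD]
  have hDQ : D ≤ Q := by
    rw [hD]
    exact Subgroup.map_subtype_le _
  have hDmem : ∀ z (hz : z ∈ Q), z ∈ D ↔ (⟨z, hz⟩ : Q) ∈ pPrimeCore p ↥Q := by
    intro z hz
    rw [hD]
    constructor
    · rintro ⟨w, hw, rfl⟩
      exact hw
    · intro h
      exact ⟨_, h, rfl⟩
  have hDconj : ∀ g ∈ Q, ∀ z ∈ D, g * z * g⁻¹ ∈ D := by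
    intro g hg z hz
    have hzQ := hDQ hz
    have h1 := hKn.conj_mem _ ((hDmem z hzQ).mp hz) ⟨g, hg⟩
    exact (hDmem _ (Q.mul_mem (Q.mul_mem hg hzQ) (Q.inv_mem hg))).mpr h1
  have hDc : (Nat.card D).Coprime p := by
    rw [hD, ← Nat.card_congr (Subgroup.equivMapOfInjective _ Q.subtype Q.subtype_injective).toEquiv]
    exact Cfsg.Agent.H06.coprime_card_pPrimeCore p
  apply Cfsg.Agent.H19.mem_normalizer_of_conj_le
  intro x hx
  have hQconj : ∀ z ∈ Q, y * z * y⁻¹ ∈ Q := fun z hz => Cfsg.Agent.H02.conj_mem_of_normalizer hy hz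
  have hQconj' : ∀ z ∈ Q, y⁻¹ * z * y⁻¹⁻¹ ∈ Q := fun z hz =>
    Cfsg.Agent.H02.conj_mem_of_normalizer (Subgroup.inv_mem _ hy) hz
  let N' : Subgroup ↥Q := (D.comap (MulAut.conj y⁻¹).toMonoidHom).subgroupOf Q
  have hN'mem : ∀ z (hz : z ∈ Q), (⟨z, hz⟩ : Q) ∈ N' ↔ y⁻¹ * z * y⁻¹⁻¹ ∈ D := fun z hz => Iff.rfl
  have hN'n : N'.Normal := by
    constructor
    rintro ⟨z, hz⟩ hzN ⟨g, hg⟩
    have h1 := (hN'mem z hz).mp hzN
    apply (hN'mem _ _).mpr
    have h2 := hDconj _ (hQconj' g hg) _ h1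
    have e : y⁻¹ * (g * z * g⁻¹) * y⁻¹⁻¹ =
        y⁻¹ * g * y⁻¹⁻¹ * (y⁻¹ * z * y⁻¹⁻¹) * (y⁻¹ * g * y⁻¹⁻¹)⁻¹ := by group
    change y⁻¹ * (g * z * g⁻¹) * y⁻¹⁻¹ ∈ D
    rw [e]
    exact h2
  have hN'c : (Nat.card N').Coprime p := by
    have hcard : Nat.card N' = Nat.card D := by
      refine Nat.card_congr ⟨fun z => ⟨y⁻¹ * z.1.1 * y⁻¹⁻¹, (hN'mem _ _).mp z.2⟩,
        fun z => ⟨⟨y * z.1 * y⁻¹, hQconj _ (hDQ z.2)⟩, (hN'mem _ _).mpr (by
          have e : y⁻¹ * (y * z.1 * y⁻¹) * y⁻¹⁻¹ = z.1 := by group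
          rw [e]; exact z.2)⟩, ?_, ?_⟩
      · rintro ⟨⟨z, hz⟩, hz'⟩
        apply Subtype.ext
        apply Subtype.ext
        change y * (y⁻¹ * z * y⁻¹⁻¹) * y⁻¹ = z
        group
      · rintro ⟨z, hz⟩
        apply Subtype.ext
        change y⁻¹ * (y * z * y⁻¹) * y⁻¹⁻¹ = z
        group
    rw [hcard]
    exact hDc
  have hle : N' ≤ pPrimeCore p ↥Q := Cfsg.Agent.H08.le_pPrimeCore hN'n hN'c
  have hz := hQconj x (hDQ hx)
  apply (hDmem _ hz).mpr
  apply hle
  apply (hN'mem _ hz).mpr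
  have e : y⁻¹ * (y * x * y⁻¹) * y⁻¹⁻¹ = x := by group
  rw [e]
  exact hx

/-- Lifting a fixed point of a `q`-group through a homomorphism with kernel prime to `q`. -/
lemma lift_fixed {Φ Γ : Type*} [Group Φ] [Finite Φ] [Group Γ] (hΦ : IsPGroup q Φ) (hq : ¬ q ∣ Nat.card L)
    (τ : Φ →* MulAut L) (f : L →* Γ) {d : Γ} (hd : ∃ k, f k = d)
    (hfix : ∀ (x : Φ) (k : L), f k = d → f (τ x k) = d) : ∃ k, f k = d ∧ ∀ x, τ x k = k := by
  classical
  letI act : MulAction Φ {k : L // f k = d} :=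
    { smul := fun x k => ⟨τ x k.1, hfix x k.1 k.2⟩
      one_smul := fun k => Subtype.ext (by
        change τ 1 k.1 = k.1
        rw [map_one]; rfl)
      mul_smul := fun x y k => Subtype.ext (by
        change τ (x * y) k.1 = τ x (τ y k.1)
        rw [map_mul]; rfl) }
  have hmod := hΦ.card_modEq_card_fixedPoints {k : L // f k = d}
  obtain ⟨k₀, hk₀⟩ := hd
  have hcard : Nat.card {k : L // f k = d} = Nat.card f.ker := by
    refine Nat.card_congr ⟨fun k => ⟨k₀⁻¹ * k.1, ?_⟩, fun c => ⟨k₀ * c.1, ?_⟩, ?_, ?_⟩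
    · refine MonoidHom.mem_ker.mpr ?_
      rw [map_mul, map_inv, hk₀, k.2, inv_mul_cancel]
    · rw [map_mul, hk₀, MonoidHom.mem_ker.mp c.2, mul_one]
    · rintro ⟨k, hk⟩
      apply Subtype.ext
      change k₀ * (k₀⁻¹ * k) = k
      group
    · rintro ⟨c, hc⟩
      apply Subtype.ext
      change k₀⁻¹ * (k₀ * c) = c
      group
  have hqk : ¬ q ∣ Nat.card {k : L // f k = d} := by
    rw [hcard]
    exact fun h => hq (h.trans (Subgroup.card_subgroup_dvd_card _))
  have hne : Nonempty (MulAction.fixedPoints Φ {k : L // f k = d}) := by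
    by_contra hemp
    rw [not_nonempty_iff] at hemp
    have h0 : Nat.card (MulAction.fixedPoints Φ {k : L // f k = d}) = 0 := Nat.card_of_isEmpty
    rw [h0] at hmod
    exact hqk ((Nat.modEq_zero_iff_dvd).mp hmod)
  obtain ⟨⟨⟨k, hk⟩, hk'⟩⟩ := hne
  exact ⟨k, hk, fun x => congrArg Subtype.val (hk' x)⟩

/-- A `p`-element lift. -/
lemma exists_p_lift {Γ : Type*} [Group Γ] (f : L →* Γ) {j : L} {a : Γ} (hj : f j = a) (hap : a ^ p = 1) :
    ∃ m : ℕ, f (j ^ m) = a ∧ ∃ e : ℕ, (j ^ m) ^ p ^ e = 1 := by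
  have hp : p.Prime := Fact.out
  have hn : orderOf j ≠ 0 := (orderOf_pos j).ne'
  obtain ⟨n', hn'⟩ : ∃ n', n' = ordCompl[p] (orderOf j) := ⟨_, rfl⟩
  have hcop : n'.Coprime p := by
    rw [hn', Nat.coprime_comm]
    exact Nat.coprime_ordCompl hp hn
  obtain ⟨m₀, -, hm₀⟩ := Nat.exists_mul_mod_eq_one_of_coprime hcop hp.one_lt
  refine ⟨n' * m₀, ?_, (orderOf j).factorization p, ?_⟩
  · rw [map_pow, hj, pow_eq_pow_mod _ hap, hm₀, pow_one]
  · rw [← pow_mul]
    have h1 : n' * m₀ * p ^ (orderOf j).factorization p = orderOf j * m₀ := by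
      have h2 := Nat.ordProj_mul_ordCompl_eq_self (orderOf j) p
      rw [← hn'] at h2
      calc n' * m₀ * p ^ (orderOf j).factorization p = (p ^ (orderOf j).factorization p * n') * m₀ := by ring
        _ = orderOf j * m₀ := by rw [h2]
    rw [h1, pow_mul, pow_orderOf_eq_one, one_pow]

end Cfsg.Agent.H14
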