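import Mathlib
import Cfsg.Prelude.Def_BaumannBlocks
import Cfsg.Agent.Lib.H14.ChermakDelgado

/-! Minimal centrally large subgroups and abelian subgroups of largest order (helper14). -/

set_option autoImplicit false

namespace Cfsg.Agent.H14

open Cfsg
open scoped Pointwise commutatorElement

variable {G : Type*} [Group G]

theorem isMulCommutative_of_le_centralizer {X : Subgroup G}
    (h : X ≤ Subgroup.centralizer (X : Set G)) : IsMulCommutative X :=
  Subgroup.le_centralizer_iff_isMulCommutative.mp h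

theorem le_centralizer_of_isMulCommutative {X : Subgroup G} (h : IsMulCommutative X) :
    X ≤ Subgroup.centralizer (X : Set G) :=
  Subgroup.le_centralizer_iff_isMulCommutative.mpr h

theorem isMulCommutative_sup {X Y : Subgroup G} (hX : IsMulCommutative X) (hY : IsMulCommutative Y)
    (hXY : X ≤ Subgroup.centralizer (Y : Set G)) : IsMulCommutative ↥(X ⊔ Y) := by
  apply isMulCommutative_of_le_centralizer
  rw [centralizer_sup_eq]
  refine sup_le (le_inf (le_centralizer_of_isMulCommutative hX) hXY)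
    (le_inf (Subgroup.le_centralizer_iff.mp hXY) (le_centralizer_of_isMulCommutative hY))

section

variable [Finite G]

/-- Abelian subgroups of largest order are self-centralizing. -/
theorem maxAbelian_centralizer_eq {A : Subgroup G} (hA : A ∈ maxAbelianSubgroups G) :
    Subgroup.centralizer (A : Set G) = A := by
  apply le_antisymm _ (le_centralizer_of_isMulCommutative hA.1)
  intro x hx
  have hz : IsMulCommutative ↥(A ⊔ Subgroup.zpowers x) := by
    apply isMulCommutative_sup hA.1 (by infer_instance)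
    rw [Subgroup.le_centralizer_iff]
    rw [Subgroup.zpowers_le]
    exact hx
  have hcard := hA.2 _ hz
  have heq : A = A ⊔ Subgroup.zpowers x := Subgroup.eq_of_le_of_card_ge le_sup_left hcard
  rw [heq]
  exact Subgroup.mem_sup_right (Subgroup.mem_zpowers x)

theorem cdm_maxAbelian {A : Subgroup G} (hA : A ∈ maxAbelianSubgroups G) :
    cdm A = Nat.card A * Nat.card A := by
  unfold cdm
  rw [maxAbelian_centralizer_eq hA]

theorem exists_maxAbelian : ∃ A : Subgroup G, A ∈ maxAbelianSubgroups G := by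
  classical
  have hfin : Set.Finite {X : Subgroup G | IsMulCommutative X} := Set.toFinite _
  have hne : {X : Subgroup G | IsMulCommutative X}.Nonempty := by
    refine ⟨⊥, ?_⟩
    exact isMulCommutative_of_le_centralizer (by simp)
  obtain ⟨A, hA, hmax⟩ := Set.exists_max_image _ (fun X : Subgroup G => Nat.card X) hfin hne
  exact ⟨A, hA, fun B hB => hmax B hB⟩

/-! ### The key count for a CL subgroup and an abelian subgroup of largest order. -/

/-- Package of the main computation for `Q` centrally large and `A` abelian of largest order. -/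
theorem cl_maxAbelian_package {Q A : Subgroup G} (hQ : IsCentrallyLarge Q)
    (hA : A ∈ maxAbelianSubgroups G) :
    ((Q ⊔ A : Subgroup G) : Set G) = (Q : Set G) * (A : Set G) ∧
      IsCentrallyLarge (Q ⊔ A) ∧
      (Subgroup.centralizer (Q : Set G) ⊔ (Q ⊓ A)) ∈ maxAbelianSubgroups G ∧
      ((Subgroup.centralizer (Q : Set G) ⊔ (Q ⊓ A) : Subgroup G) : Set G)
        = (Subgroup.centralizer (Q : Set G) : Set G) * ((Q ⊓ A : Subgroup G) : Set G) := by
  have hQc := cl_centralizer_le hQ
  have hQL := cl_large hQ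
  set Z := Subgroup.centralizer (Q : Set G) with hZ
  have hZab : IsMulCommutative Z := by
    apply isMulCommutative_of_le_centralizer
    exact centralizer_anti hQc
  have hAab := hA.1
  set CA := A ⊓ Subgroup.centralizer (Z : Set G) with hCA
  have hQZ : Q ≤ Subgroup.centralizer (Z : Set G) := le_centralizer_centralizer Q
  have hiCA : Q ⊓ A ≤ CA := le_inf inf_le_right (inf_le_left.trans hQZ)
  have hZCA : Z ⊓ CA = Z ⊓ A := by
    rw [hCA]
    apply le_antisymm
    · exact inf_le_inf_left _ inf_le_left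
    · exact le_inf inf_le_left (le_inf inf_le_right (inf_le_left.trans (le_centralizer_of_isMulCommutative hZab)))
  have hCAab : IsMulCommutative CA := by
    apply isMulCommutative_of_le_centralizer
    exact (inf_le_left.trans (le_centralizer_of_isMulCommutative hAab)).trans (centralizer_anti inf_le_left)
  have hBab : IsMulCommutative ↥(Z ⊔ CA) := by
    apply isMulCommutative_sup hZab hCAab
    rw [Subgroup.le_centralizer_iff]
    exact inf_le_right
  have h1 := card_mul_card_le Z CA
  rw [hZCA] at h1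
  have h2 : Nat.card ↥(Z ⊔ CA) ≤ Nat.card A := hA.2 _ hBab
  have h3 : Nat.card ↥(Q ⊓ A) ≤ Nat.card CA := Subgroup.card_le_of_le hiCA
  have h4 := card_mul_card_le Q A
  have hCsup : Subgroup.centralizer ((Q ⊔ A : Subgroup G) : Set G) = Z ⊓ A := by
    rw [centralizer_sup_eq, maxAbelian_centralizer_eq hA]
  have h5 : Nat.card ↥(Q ⊔ A) * Nat.card ↥(Z ⊓ A) ≤ Nat.card Q * Nat.card Z := by
    have := cdm_le_max (Q ⊔ A)
    rw [← large_cdm_eq hQL] at this
    unfold cdm at this
    rw [hCsup] at this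
    exact this
  set q := Nat.card Q
  set z := Nat.card Z
  set a := Nat.card A
  set i := Nat.card ↥(Q ⊓ A)
  set c := Nat.card CA
  set w := Nat.card ↥(Z ⊓ A)
  set s := Nat.card ↥(Q ⊔ A)
  set b := Nat.card ↥(Z ⊔ CA)
  have hq : 0 < q := Nat.card_pos
  have hz : 0 < z := Nat.card_pos
  have ha : 0 < a := Nat.card_pos
  have hi : 0 < i := Nat.card_pos
  have hc : 0 < c := Nat.card_pos
  have hw : 0 < w := Nat.card_pos
  have hs : 0 < s := Nat.card_pos
  have hb : 0 < b := Nat.card_pos
  -- chain: q z i ≤ q z c ≤ q b w ≤ q a w ≤ s i w ≤ q z i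
  have c1 : q * z * i ≤ q * z * c := Nat.mul_le_mul_left _ h3
  have c2 : q * z * c ≤ q * (b * w) := by
    rw [mul_assoc]; exact Nat.mul_le_mul_left _ h1
  have c3 : q * (b * w) ≤ q * (a * w) := by gcongr
  have c4 : q * (a * w) ≤ (s * i) * w := by
    rw [← mul_assoc]; exact Nat.mul_le_mul_right _ h4
  have c5 : (s * i) * w ≤ q * z * i := by
    calc (s * i) * w = (s * w) * i := by ring
      _ ≤ (q * z) * i := Nat.mul_le_mul_right _ h5
  -- equalities
  have e_sw : q * z ≤ s * w := by
    have : (q * z) * i ≤ (s * w) * i := by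
      calc (q * z) * i ≤ q * z * c := c1
        _ ≤ q * (b * w) := c2
        _ ≤ q * (a * w) := c3
        _ ≤ (s * i) * w := c4
        _ = (s * w) * i := by ring
    exact Nat.le_of_mul_le_mul_right this hi
  have e_si : s * i ≤ q * a := by
    have : (s * i) * w ≤ (q * a) * w := by
      calc (s * i) * w ≤ q * z * i := c5
        _ ≤ q * z * c := c1
        _ ≤ q * (b * w) := c2
        _ ≤ q * (a * w) := c3
        _ = (q * a) * w := by ring
    exact Nat.le_of_mul_le_mul_right this hw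
  have e_ab : a ≤ b := by
    have : (q * w) * a ≤ (q * w) * b := by
      calc (q * w) * a = q * (a * w) := by ring
        _ ≤ (s * i) * w := c4
        _ ≤ q * z * i := c5
        _ ≤ q * z * c := c1
        _ ≤ q * (b * w) := c2
        _ = (q * w) * b := by ring
    exact Nat.le_of_mul_le_mul_left this (Nat.mul_pos hq hw)
  have e_ci : c ≤ i := by
    have : (q * z) * c ≤ (q * z) * i := by
      calc q * z * c ≤ q * (b * w) := c2
        _ ≤ q * (a * w) := c3
        _ ≤ (s * i) * w := c4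
        _ ≤ q * z * i := c5
    exact Nat.le_of_mul_le_mul_left this (Nat.mul_pos hq hz)
  have e_bw : b * w ≤ z * c := by
    have : q * (b * w) ≤ q * (z * c) := by
      calc q * (b * w) ≤ q * (a * w) := c3
        _ ≤ (s * i) * w := c4
        _ ≤ q * z * i := c5
        _ ≤ q * z * c := c1
        _ = q * (z * c) := by ring
    exact Nat.le_of_mul_le_mul_left this hq
  have hCAeq : Q ⊓ A = CA := Subgroup.eq_of_le_of_card_ge hiCA e_ci
  -- large
  have hlarge : IsCentralizerLarge (Q ⊔ A) := by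
    rw [isCentralizerLarge_iff, ← large_cdm_eq hQL]
    unfold cdm
    rw [hCsup]
    exact e_sw
  have hcl : IsCentrallyLarge (Q ⊔ A) := by
    rw [isCentrallyLarge_iff]
    refine ⟨hlarge, ?_⟩
    rw [hCsup]
    exact inf_le_right.trans le_sup_right
  refine ⟨coe_sup_eq_mul_of_card_le e_si, hcl, ?_, ?_⟩
  · rw [hCAeq]
    exact ⟨hBab, fun B hB => (hA.2 B hB).trans e_ab⟩
  · rw [hCAeq]
    apply coe_sup_eq_mul_of_card_le
    rw [hZCA]
    exact e_bw

/-- The centralizer statement (c) and the product statement (d). -/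
theorem cl_maxAbelian_centralizer {Q A : Subgroup G} (hQ : IsCentrallyLarge Q)
    (hA : A ∈ maxAbelianSubgroups G) :
    (Q ⊔ A) ⊓ Subgroup.centralizer ((Q ⊓ A : Subgroup G) : Set G) = Subgroup.centralizer (Q : Set G) ⊔ A ∧
      ((Subgroup.centralizer (Q : Set G) ⊔ A : Subgroup G) : Set G)
        = (Subgroup.centralizer (Q : Set G) : Set G) * (A : Set G) := by
  obtain ⟨hmul, _, hB, hBmul⟩ := cl_maxAbelian_package hQ hA
  have hQc := cl_centralizer_le hQ
  set Z := Subgroup.centralizer (Q : Set G) with hZ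
  have hAab := le_centralizer_of_isMulCommutative hA.1
  have hge : Z ⊔ A ≤ (Q ⊔ A) ⊓ Subgroup.centralizer ((Q ⊓ A : Subgroup G) : Set G) := by
    refine sup_le (le_inf (hQc.trans le_sup_left) (centralizer_anti inf_le_left))
      (le_inf le_sup_right (hAab.trans (centralizer_anti inf_le_right)))
  have hsub : ∀ x ∈ (Q ⊔ A) ⊓ Subgroup.centralizer ((Q ⊓ A : Subgroup G) : Set G),
      x ∈ (Z : Set G) * (A : Set G) := by
    rintro x ⟨hx1, hx2⟩
    have hx1' : x ∈ ((Q ⊔ A : Subgroup G) : Set G) := hx1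
    rw [hmul] at hx1'
    obtain ⟨q₀, hq₀, a₀, ha₀, rfl⟩ := Set.mem_mul.mp hx1'
    have ha₀C : a₀ ∈ Subgroup.centralizer ((Q ⊓ A : Subgroup G) : Set G) :=
      (hAab.trans (centralizer_anti inf_le_right)) ha₀
    have hq₀C : q₀ ∈ Subgroup.centralizer ((Q ⊓ A : Subgroup G) : Set G) := by
      have := Subgroup.mul_mem _ hx2 (Subgroup.inv_mem _ ha₀C)
      simpa using this
    have hq₀B : q₀ ∈ Subgroup.centralizer ((Z ⊔ (Q ⊓ A) : Subgroup G) : Set G) := by
      rw [centralizer_sup_eq]
      exact ⟨le_centralizer_centralizer Q hq₀, hq₀C⟩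
    rw [maxAbelian_centralizer_eq hB] at hq₀B
    have hq₀B' : q₀ ∈ ((Z ⊔ (Q ⊓ A) : Subgroup G) : Set G) := hq₀B
    rw [hBmul] at hq₀B'
    obtain ⟨z₀, hz₀, d₀, hd₀, rfl⟩ := Set.mem_mul.mp hq₀B'
    refine Set.mem_mul.mpr ⟨z₀, hz₀, d₀ * a₀, A.mul_mem hd₀.2 ha₀, by rw [mul_assoc]⟩
  constructor
  · apply le_antisymm _ hge
    intro x hx
    exact mul_subset_sup Z A (hsub x hx)
  · apply Set.Subset.antisymm _ (mul_subset_sup Z A)
    intro x hx
    exact hsub x (hge hx)

/-- `J(P) ≤ Q` for `Q` the CL join, and (e). -/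
theorem centralizer_centerJ_le_of_cl {Y : Subgroup G} (hY : IsCentrallyLarge Y)
    (hJ : thompsonSubgroupA G ≤ Y) :
    Subgroup.centralizer ((thompsonSubgroupA G ⊓ Subgroup.centralizer (thompsonSubgroupA G : Set G) : Subgroup G) : Set G) ≤ Y := by
  obtain ⟨A, hA⟩ := exists_maxAbelian (G := G)
  have hAJ : A ≤ thompsonSubgroupA G := le_sSup hA
  have h1 : Subgroup.centralizer (Y : Set G) ≤ thompsonSubgroupA G ⊓ Subgroup.centralizer (thompsonSubgroupA G : Set G) := by
    refine le_inf ?_ (centralizer_anti hJ)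
    have : Subgroup.centralizer (Y : Set G) ≤ Subgroup.centralizer (A : Set G) :=
      centralizer_anti (hAJ.trans hJ)
    rw [maxAbelian_centralizer_eq hA] at this
    exact this.trans hAJ
  have h2 := centralizer_anti h1
  rw [large_cc (cl_large hY)] at h2
  exact h2

/-- Joining with `J`. -/
theorem cl_sup_thompson {Q : Subgroup G} (hQ : IsCentrallyLarge Q) :
    IsCentrallyLarge (Q ⊔ thompsonSubgroupA G) := by
  obtain ⟨A₀, hA₀⟩ := exists_maxAbelian (G := G)
  have h1 : Q ⊔ thompsonSubgroupA G = sSup {X | ∃ A ∈ maxAbelianSubgroups G, X = Q ⊔ A} := by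
    apply le_antisymm
    · apply sup_le
      · exact le_trans le_sup_left (le_sSup ⟨A₀, hA₀, rfl⟩)
      · apply sSup_le
        intro A hA
        exact le_trans le_sup_right (le_sSup (a := Q ⊔ A) ⟨A, hA, rfl⟩)
    · apply sSup_le
      rintro _ ⟨A, hA, rfl⟩
      exact sup_le_sup_left (le_sSup hA) _
  rw [h1]
  refine isCentrallyLarge_sSup (𝓢 := {X | ∃ A ∈ maxAbelianSubgroups G, X = Q ⊔ A}) ⟨Q ⊔ A₀, A₀, hA₀, rfl⟩ ?_
  rintro _ ⟨A, hA, rfl⟩
  exact (cl_maxAbelian_package hQ hA).2.1

/-! ### Minimal CL subgroups -/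

theorem minCL_eq_inf_sup {Q R : Subgroup G} (hQ : IsMinimalCentrallyLarge Q)
    (hR : IsMinimalCentrallyLarge R) :
    (Q ⊓ R) ⊔ Subgroup.centralizer (Q : Set G) = Q := by
  have hQL := cl_large hQ.1
  have hRL := cl_large hR.1
  have hQc := cl_centralizer_le hQ.1
  have hRc := cl_centralizer_le hR.1
  obtain ⟨hDL, _, _, _, hCD⟩ := large_lattice hQL hRL
  have hCQL := large_centralizer hQL
  have hCRL := large_centralizer hRL
  obtain ⟨_, _, hmul, _, _⟩ := large_lattice hCQL hCRL
  obtain ⟨_, hXL, _, _, _⟩ := large_lattice hDL hCQL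
  have hXle : (Q ⊓ R) ⊔ Subgroup.centralizer (Q : Set G) ≤ Q := sup_le inf_le_left hQc
  have hCX : Subgroup.centralizer (((Q ⊓ R) ⊔ Subgroup.centralizer (Q : Set G) : Subgroup G) : Set G)
      ≤ (Q ⊓ R) ⊔ Subgroup.centralizer (Q : Set G) := by
    rw [centralizer_sup_eq, hCD, large_cc hQL]
    rintro w ⟨hw1, hw2⟩
    have hw1' : w ∈ ((Subgroup.centralizer (Q : Set G) ⊔ Subgroup.centralizer (R : Set G) : Subgroup G) : Set G) := hw1
    rw [hmul] at hw1'
    obtain ⟨z₁, hz₁, z₂, hz₂, rfl⟩ := Set.mem_mul.mp hw1'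
    have hz₂Q : z₂ ∈ Q := by
      have := Q.mul_mem (Q.inv_mem (hQc hz₁)) hw2
      simpa using this
    have hz₂D : z₂ ∈ Q ⊓ R := ⟨hz₂Q, hRc hz₂⟩
    exact Subgroup.mul_mem _ (Subgroup.mem_sup_right hz₁) (Subgroup.mem_sup_left hz₂D)
  have hXcl : IsCentrallyLarge ((Q ⊓ R) ⊔ Subgroup.centralizer (Q : Set G)) :=
    isCentrallyLarge_iff.mpr ⟨hXL, hCX⟩
  exact hQ.2 _ hXle hXcl

theorem commutator_eq_inf {Q R : Subgroup G} (hQ : IsMinimalCentrallyLarge Q)
    (hR : IsMinimalCentrallyLarge R) : ⁅Q, Q⁆ = ⁅Q ⊓ R, Q ⊓ R⁆ := by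
  have hQL := cl_large hQ.1
  have hRL := cl_large hR.1
  obtain ⟨hDL, _, _, _, _⟩ := large_lattice hQL hRL
  have hCQL := large_centralizer hQL
  obtain ⟨_, _, hmul, _, _⟩ := large_lattice hDL hCQL
  have hX := minCL_eq_inf_sup hQ hR
  rw [hX] at hmul
  apply le_antisymm
  · rw [Subgroup.commutator_le]
    intro x hx y hy
    have hx' : x ∈ (Q : Set G) := hx
    have hy' : y ∈ (Q : Set G) := hy
    rw [hmul] at hx' hy'
    obtain ⟨d₁, hd₁, z₁, hz₁, rfl⟩ := Set.mem_mul.mp hx'
    obtain ⟨d₂, hd₂, z₂, hz₂, rfl⟩ := Set.mem_mul.mp hy'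
    have c1 : d₂ * z₁ = z₁ * d₂ := Subgroup.mem_centralizer_iff.mp hz₁ d₂ hd₂.1
    have c2 : d₁ * z₂ = z₂ * d₁ := Subgroup.mem_centralizer_iff.mp hz₂ d₁ hd₁.1
    have c3 : z₁ * z₂ = z₂ * z₁ :=
      Subgroup.mem_centralizer_iff.mp hz₂ z₁ (cl_centralizer_le hQ.1 hz₁)
    have e₁ : d₁ * z₁ * (d₂ * z₂) = d₁ * d₂ * (z₁ * z₂) := by
      calc d₁ * z₁ * (d₂ * z₂) = d₁ * (z₁ * d₂) * z₂ := by group
        _ = d₁ * (d₂ * z₁) * z₂ := by rw [c1]
        _ = d₁ * d₂ * (z₁ * z₂) := by group
    have e₂ : d₂ * z₂ * (d₁ * z₁) = d₂ * d₁ * (z₂ * z₁) := by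
      calc d₂ * z₂ * (d₁ * z₁) = d₂ * (z₂ * d₁) * z₁ := by group
        _ = d₂ * (d₁ * z₂) * z₁ := by rw [c2]
        _ = d₂ * d₁ * (z₂ * z₁) := by group
    have e : ⁅d₁ * z₁, d₂ * z₂⁆ = ⁅d₁, d₂⁆ := by
      calc ⁅d₁ * z₁, d₂ * z₂⁆ = (d₁ * z₁ * (d₂ * z₂)) * ((d₂ * z₂) * (d₁ * z₁))⁻¹ := by
            simp only [commutatorElement_def]; group
        _ = (d₁ * d₂ * (z₁ * z₂)) * ((d₂ * d₁) * (z₂ * z₁))⁻¹ := by rw [e₁, e₂]
        _ = (d₁ * d₂ * (z₂ * z₁)) * ((d₂ * d₁) * (z₂ * z₁))⁻¹ := by rw [c3]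
        _ = (d₁ * d₂) * (d₂ * d₁)⁻¹ := by group
        _ = ⁅d₁, d₂⁆ := by simp only [commutatorElement_def]; group
    rw [e]
    exact Subgroup.commutator_mem_commutator hd₁ hd₂
  · exact Subgroup.commutator_mono inf_le_left inf_le_left

theorem minCL_card_eq {Q R : Subgroup G} (hQ : IsMinimalCentrallyLarge Q)
    (hR : IsMinimalCentrallyLarge R) :
    Nat.card Q = Nat.card R ∧
      Nat.card ↥(Subgroup.centralizer (Q : Set G)) = Nat.card ↥(Subgroup.centralizer (R : Set G)) := by
  have hQL := cl_large hQ.1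
  have hRL := cl_large hR.1
  have hQc := cl_centralizer_le hQ.1
  have hRc := cl_centralizer_le hR.1
  obtain ⟨hDL, _, _, _, hCD⟩ := large_lattice hQL hRL
  have hCQL := large_centralizer hQL
  have hCRL := large_centralizer hRL
  obtain ⟨_, _, _, huv, _⟩ := large_lattice hCQL hCRL
  obtain ⟨_, _, _, hq, _⟩ := large_lattice hDL hCQL
  obtain ⟨_, _, _, hr, _⟩ := large_lattice hDL hCRL
  rw [minCL_eq_inf_sup hQ hR] at hq
  have hR' := minCL_eq_inf_sup hR hQ
  rw [inf_comm] at hR'
  rw [hR'] at hr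
  have hMQ := hQL
  have hMR := hRL
  have hMD := hDL
  unfold IsCentralizerLarge at hMQ hMR hMD
  rw [hCD] at hMD
  have hle1 : Nat.card ↥(Subgroup.centralizer (Q : Set G) ⊓ Subgroup.centralizer (R : Set G))
      ≤ Nat.card ↥((Q ⊓ R) ⊓ Subgroup.centralizer (Q : Set G)) := by
    apply Subgroup.card_le_of_le
    exact le_inf (le_inf (inf_le_left.trans hQc) (inf_le_right.trans hRc)) inf_le_left
  have hle2 : Nat.card ↥(Subgroup.centralizer (Q : Set G) ⊓ Subgroup.centralizer (R : Set G))
      ≤ Nat.card ↥((Q ⊓ R) ⊓ Subgroup.centralizer (R : Set G)) := by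
    apply Subgroup.card_le_of_le
    exact le_inf (le_inf (inf_le_left.trans hQc) (inf_le_right.trans hRc)) inf_le_right
  set q := Nat.card Q
  set r := Nat.card R
  set d := Nat.card ↥(Q ⊓ R)
  set a := Nat.card ↥(Subgroup.centralizer (Q : Set G))
  set b := Nat.card ↥(Subgroup.centralizer (R : Set G))
  set u := Nat.card ↥(Subgroup.centralizer (Q : Set G) ⊔ Subgroup.centralizer (R : Set G))
  set i := Nat.card ↥(Subgroup.centralizer (Q : Set G) ⊓ Subgroup.centralizer (R : Set G))
  set e := Nat.card ↥((Q ⊓ R) ⊓ Subgroup.centralizer (Q : Set G))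
  set f := Nat.card ↥((Q ⊓ R) ⊓ Subgroup.centralizer (R : Set G))
  have hqpos : 0 < q := Nat.card_pos
  have hrpos : 0 < r := Nat.card_pos
  have hapos : 0 < a := Nat.card_pos
  have hbpos : 0 < b := Nat.card_pos
  have hupos : 0 < u := Nat.card_pos
  have e1 : e * u = a * a := by
    have : q * (e * u) = q * (a * a) := by
      calc q * (e * u) = (q * e) * u := by ring
        _ = (d * a) * u := by rw [hq]
        _ = (d * u) * a := by ring
        _ = (q * a) * a := by rw [hMD, hMQ]
        _ = q * (a * a) := by ring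
    exact Nat.eq_of_mul_eq_mul_left hqpos this
  have e2 : f * u = b * b := by
    have : r * (f * u) = r * (b * b) := by
      calc r * (f * u) = (r * f) * u := by ring
        _ = (d * b) * u := by rw [hr]
        _ = (d * u) * b := by ring
        _ = (r * b) * b := by rw [hMD, hMR]
        _ = r * (b * b) := by ring
    exact Nat.eq_of_mul_eq_mul_left hrpos this
  have hba : b ≤ a := by
    have : a * b ≤ a * a := by
      calc a * b = u * i := huv.symm
        _ = i * u := by ring
        _ ≤ e * u := Nat.mul_le_mul_right _ hle1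
        _ = a * a := e1
    exact Nat.le_of_mul_le_mul_left this hapos
  have hab : a ≤ b := by
    have : a * b ≤ b * b := by
      calc a * b = u * i := huv.symm
        _ = i * u := by ring
        _ ≤ f * u := Nat.mul_le_mul_right _ hle2
        _ = b * b := e2
    exact Nat.le_of_mul_le_mul_right this hbpos
  have habeq : a = b := le_antisymm hab hba
  refine ⟨?_, habeq⟩
  have : q * a = r * a := by
    calc q * a = maxCentralizerProduct G := hMQ
      _ = r * b := hMR.symm
      _ = r * a := by rw [habeq]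
  exact Nat.eq_of_mul_eq_mul_right hapos this

/-- Abelian minimal CL subgroups: the minimal CL subgroups are exactly `𝒜(G)`. -/
theorem minCL_iff_maxAbelian {Q : Subgroup G} (hQ : IsMinimalCentrallyLarge Q)
    (hQab : IsMulCommutative Q) (X : Subgroup G) :
    IsMinimalCentrallyLarge X ↔ X ∈ maxAbelianSubgroups G := by
  have hQL := cl_large hQ.1
  have hQc := cl_centralizer_le hQ.1
  have hCQ : Subgroup.centralizer (Q : Set G) = Q :=
    le_antisymm hQc (le_centralizer_of_isMulCommutative hQab)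
  have hM : cdm Q = Nat.card Q * Nat.card Q := by
    unfold cdm; rw [hCQ]
  have hbound : ∀ B : Subgroup G, IsMulCommutative B → Nat.card B ≤ Nat.card Q := by
    intro B hB
    have h1 : Nat.card B * Nat.card B ≤ cdm B := by
      unfold cdm
      exact Nat.mul_le_mul_left _ (Subgroup.card_le_of_le (le_centralizer_of_isMulCommutative hB))
    have h2 := cdm_le_max B
    rw [← large_cdm_eq hQL, hM] at h2
    by_contra hc
    push Not at hc
    have : Nat.card Q * Nat.card Q < Nat.card B * Nat.card B := Nat.mul_self_lt_mul_self hc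
    omega
  have himp : ∀ X : Subgroup G, IsMinimalCentrallyLarge X → X ∈ maxAbelianSubgroups G := by
    intro X hX
    have h1 := minCL_card_eq hQ hX
    have h2 := commutator_eq_inf hQ hX
    have h3 := commutator_eq_inf hX hQ
    rw [inf_comm] at h3
    have h4 : ⁅X, X⁆ = ⁅Q, Q⁆ := by rw [h2, h3]
    have hQc' : ⁅Q, Q⁆ = ⊥ := by
      rw [Subgroup.commutator_eq_bot_iff_le_centralizer]
      exact le_centralizer_of_isMulCommutative hQab
    have hXab : IsMulCommutative X := by
      apply isMulCommutative_of_le_centralizer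
      rw [← Subgroup.commutator_eq_bot_iff_le_centralizer, h4, hQc']
    exact ⟨hXab, fun B hB => (hbound B hB).trans h1.1.le⟩
  constructor
  · exact himp X
  · intro hX
    have h1 : Nat.card Q ≤ Nat.card X := hX.2 Q hQab
    have h2 := hbound X hX.1
    have heq : Nat.card X = Nat.card Q := le_antisymm h2 h1
    have hXcl : IsCentrallyLarge X := by
      rw [isCentrallyLarge_iff]
      constructor
      · rw [isCentralizerLarge_iff, ← large_cdm_eq hQL, hM, cdm_maxAbelian hX, heq]
      · rw [maxAbelian_centralizer_eq hX]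
    refine ⟨hXcl, fun R' hR' hR'c => ?_⟩
    obtain ⟨R'', hR''le, hR''⟩ := exists_minimal_le hR'c
    have h3 := minCL_card_eq hQ hR''
    have h4 : R'' = X := Subgroup.eq_of_le_of_card_ge (hR''le.trans hR') (by rw [← h3.1, heq])
    apply le_antisymm hR'
    rw [← h4]
    exact hR''le

end

end Cfsg.Agent.H14
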