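import Mathlib

/-! Counting for groups in which every nonidentity element fixes exactly two points. -/

set_option autoImplicit false

namespace Cfsg.Agent.H14.ES

section Num

variable {Q : Type*} [Fintype Q] [DecidableEq Q]

private theorem split3 (n a b : ℕ) (h : a * b = n) (hb : 2 ≤ b) :
    (2 * a = n ∧ b = 2) ∨ (3 * a = n ∧ b = 3) ∨ (4 * a ≤ n ∧ 4 ≤ b) := by
  rcases (by omega : b = 2 ∨ b = 3 ∨ 4 ≤ b) with rfl | rfl | hb4
  · left; exact ⟨by linarith, rfl⟩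
  · right; left; exact ⟨by linarith, rfl⟩
  · right; right; exact ⟨by nlinarith, hb4⟩

private theorem split4 (n a b : ℕ) (h : a * b = n) (hb : 4 ≤ b) :
    (4 * a = n ∧ b = 4) ∨ (5 * a = n ∧ b = 5) ∨ (6 * a ≤ n ∧ 6 ≤ b) := by
  rcases (by omega : b = 4 ∨ b = 5 ∨ 6 ≤ b) with rfl | rfl | hb4
  · left; exact ⟨by linarith, rfl⟩
  · right; left; exact ⟨by linarith, rfl⟩
  · right; right; exact ⟨by nlinarith, hb4⟩

/-- numeric core -/
theorem num_core (n : ℕ) (hn : 2 ≤ n) (s m : Q → ℕ) (hsm : ∀ ω, s ω * m ω = n)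
    (hsum : ∑ ω, (n - s ω) = 2 * n - 2) (ω₀ : Q) (h4 : 4 ≤ m ω₀) (h3 : 3 ≤ s ω₀) :
    m ω₀ ≤ 5 ∧ s ω₀ ≤ 12 ∧ ∀ ω, ω ≠ ω₀ → m ω ≤ 3 := by
  have hm1 : ∀ ω, 1 ≤ m ω := by
    intro ω
    by_contra h
    have h0 : m ω = 0 := by omega
    have := hsm ω
    rw [h0] at this
    omega
  have hs_le : ∀ ω, s ω ≤ n := by
    intro ω
    rw [← hsm ω]
    exact Nat.le_mul_of_pos_right _ (hm1 ω)
  have hg : ∀ ω, n - s ω ≠ 0 → 2 ≤ m ω ∧ 2 * s ω ≤ n := by
    intro ω h
    have h2 : 2 ≤ m ω := by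
      by_contra hcon
      have h1 : m ω = 1 := by have := hm1 ω; omega
      have := hsm ω
      rw [h1, mul_one] at this
      omega
    refine ⟨h2, ?_⟩
    rw [← hsm ω, mul_comm]
    exact Nat.mul_le_mul_left _ h2
  have h40 : 4 * s ω₀ ≤ n := by
    rw [← hsm ω₀, mul_comm]
    exact Nat.mul_le_mul_left _ h4
  -- first peeling
  have e0 := Finset.add_sum_erase Finset.univ (fun ω => n - s ω) (Finset.mem_univ ω₀)
  rw [hsum] at e0
  obtain ⟨ω₁, hω₁, hg1⟩ := Finset.exists_ne_zero_of_sum_ne_zero (s := Finset.univ.erase ω₀) (f := fun ω => n - s ω)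
    (by intro h; rw [h] at e0; omega)
  have e1 := Finset.add_sum_erase _ (fun ω => n - s ω) hω₁
  obtain ⟨h21, h21'⟩ := hg ω₁ hg1
  obtain ⟨ω₂, hω₂, hg2⟩ := Finset.exists_ne_zero_of_sum_ne_zero (s := (Finset.univ.erase ω₀).erase ω₁) (f := fun ω => n - s ω)
    (by intro h; rw [h] at e1; omega)
  have e2 := Finset.add_sum_erase _ (fun ω => n - s ω) hω₂
  obtain ⟨h22, h22'⟩ := hg ω₂ hg2
  -- nothing else
  have hrest : ∑ ω ∈ ((Finset.univ.erase ω₀).erase ω₁).erase ω₂, (n - s ω) = 0 := by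
    by_contra hne
    obtain ⟨ω₃, hω₃, hg3⟩ := Finset.exists_ne_zero_of_sum_ne_zero hne
    have e3 := Finset.add_sum_erase _ (fun ω => n - s ω) hω₃
    obtain ⟨h23, h23'⟩ := hg ω₃ hg3
    omega
  rw [hrest] at e2
  have heq : s ω₀ + s ω₁ + s ω₂ = n + 2 := by omega
  have h1ne : ω₁ ≠ ω₀ := (Finset.mem_erase.mp hω₁).1
  have h2ne1 : ω₂ ≠ ω₁ := (Finset.mem_erase.mp hω₂).1
  have h2ne0 : ω₂ ≠ ω₀ := (Finset.mem_erase.mp (Finset.mem_erase.mp hω₂).2).1
  have hgoal : m ω₀ ≤ 5 ∧ s ω₀ ≤ 12 ∧ m ω₁ ≤ 3 ∧ m ω₂ ≤ 3 := by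
    rcases split4 n _ _ (hsm ω₀) h4 with ⟨a1, a2⟩ | ⟨a1, a2⟩ | ⟨a1, a2⟩ <;>
    rcases split3 n _ _ (hsm ω₁) h21 with ⟨b1, b2⟩ | ⟨b1, b2⟩ | ⟨b1, b2⟩ <;>
    rcases split3 n _ _ (hsm ω₂) h22 with ⟨c1, c2⟩ | ⟨c1, c2⟩ | ⟨c1, c2⟩ <;>
    omega
  refine ⟨hgoal.1, hgoal.2.1, fun ω hω => ?_⟩
  by_cases h1 : ω = ω₁
  · rw [h1]; exact hgoal.2.2.1
  by_cases h2 : ω = ω₂
  · rw [h2]; exact hgoal.2.2.2
  have hmem : ω ∈ ((Finset.univ.erase ω₀).erase ω₁).erase ω₂ := by
    simp [hω, h1, h2]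
  have h0 := (Finset.sum_eq_zero_iff.mp hrest) ω hmem
  have h3 : s ω = n := by have := hs_le ω; omega
  have := hsm ω
  rw [h3] at this
  have h5 : m ω = 1 := by
    have h6 : n * m ω = n * 1 := by rw [this, mul_one]
    exact Nat.eq_of_mul_eq_mul_left (by omega) h6
  omega

/-- three orbits with large stabilizers do not exist -/
theorem num_three (n : ℕ) (hn : 2 ≤ n) (s m : Q → ℕ) (hsm : ∀ ω, s ω * m ω = n)
    (hsum : ∑ ω, (n - s ω) = 2 * n - 2) (a b c : Q) (hab : a ≠ b) (hac : a ≠ c) (hbc : b ≠ c)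
    (ha : 4 ≤ m a) (hb : 4 ≤ m b) (hc : 4 ≤ m c) : False := by
  have h4 : ∀ ω, 4 ≤ m ω → 4 * s ω ≤ n := by
    intro ω h
    rw [← hsm ω, mul_comm]
    exact Nat.mul_le_mul_left _ h
  have e0 := Finset.add_sum_erase Finset.univ (fun ω => n - s ω) (Finset.mem_univ a)
  have hb' : b ∈ Finset.univ.erase a := by simp [hab.symm]
  have e1 := Finset.add_sum_erase _ (fun ω => n - s ω) hb'
  have hc' : c ∈ (Finset.univ.erase a).erase b := by simp [hac.symm, hbc.symm]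
  have e2 := Finset.add_sum_erase _ (fun ω => n - s ω) hc'
  rw [hsum] at e0
  have := h4 a ha
  have := h4 b hb
  have := h4 c hc
  omega

end Num

section Act

variable {Γ Ω : Type*} [Group Γ] [Finite Γ] [Finite Ω] [MulAction Γ Ω]

open MulAction

theorem card_mul (x : Ω) : Nat.card (orbit Γ x) * Nat.card (stabilizer Γ x) = Nat.card Γ := by
  classical
  haveI := Fintype.ofFinite Γ
  haveI := Fintype.ofFinite (orbit Γ x)
  haveI := Fintype.ofFinite (stabilizer Γ x)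
  rw [Nat.card_eq_fintype_card, Nat.card_eq_fintype_card, Nat.card_eq_fintype_card]
  exact card_orbit_mul_card_stabilizer_eq_card_group Γ x

/-- The orbit equation. -/
theorem orbit_sum [Fintype (Quotient (orbitRel Γ Ω))] (hfix : ∀ g : Γ, g ≠ 1 → Nat.card (fixedBy Ω g) = 2) :
    ∑ ω : Quotient (orbitRel Γ Ω), (Nat.card Γ - Nat.card (orbit Γ ω.out)) = 2 * Nat.card Γ - 2 := by
  classical
  haveI := Fintype.ofFinite Γ
  haveI := Fintype.ofFinite Ω
  have hB := sum_card_fixedBy_eq_card_orbits_mul_card_group Γ Ω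
  have h1 : ∑ g : Γ, Fintype.card (fixedBy Ω g) = Fintype.card Ω + 2 * (Fintype.card Γ - 1) := by
    rw [← Finset.add_sum_erase Finset.univ _ (Finset.mem_univ (1 : Γ))]
    have h2 : Fintype.card (fixedBy Ω (1 : Γ)) = Fintype.card Ω := by
      rw [Fintype.card_eq_nat_card, Fintype.card_eq_nat_card]
      exact Nat.card_congr (Equiv.subtypeUnivEquiv (fun x => by simp))
    have h3 : ∑ g ∈ Finset.univ.erase (1 : Γ), Fintype.card (fixedBy Ω g) = ∑ g ∈ Finset.univ.erase (1 : Γ), 2 := by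
      refine Finset.sum_congr rfl fun g hg => ?_
      rw [Fintype.card_eq_nat_card]
      exact hfix g (Finset.mem_erase.mp hg).1
    rw [h2, h3, Finset.sum_const, Finset.card_erase_of_mem (Finset.mem_univ _), Finset.card_univ, smul_eq_mul, mul_comm]
  have h4 : Fintype.card Ω = ∑ ω : Quotient (orbitRel Γ Ω), Nat.card (orbit Γ ω.out) := by
    rw [Fintype.card_congr (selfEquivSigmaOrbits Γ Ω), Fintype.card_sigma]
    refine Finset.sum_congr rfl fun ω _ => ?_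
    rw [Fintype.card_eq_nat_card]
  have hle : ∀ ω : Quotient (orbitRel Γ Ω), Nat.card (orbit Γ ω.out) ≤ Fintype.card Γ := by
    intro ω
    rw [← Nat.card_eq_fintype_card, ← card_mul (Γ := Γ) ω.out]
    have : 0 < Nat.card (stabilizer Γ ω.out) := Nat.card_pos
    exact Nat.le_mul_of_pos_right _ this
  have h5 : ∑ ω : Quotient (orbitRel Γ Ω), (Fintype.card Γ - Nat.card (orbit Γ ω.out)) + Fintype.card Ω =
      Fintype.card (Quotient (orbitRel Γ Ω)) * Fintype.card Γ := by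
    rw [h4, ← Finset.sum_add_distrib, Finset.sum_congr rfl (fun ω _ => Nat.sub_add_cancel (hle ω))]
    rw [Finset.sum_const, Finset.card_univ, smul_eq_mul]
  rw [Nat.card_eq_fintype_card]
  have h6 : 1 ≤ Fintype.card Γ := Fintype.card_pos
  omega

theorem orbit_out_card (x : Ω) :
    Nat.card (orbit Γ (Quotient.mk (orbitRel Γ Ω) x).out) = Nat.card (orbit Γ x) ∧
    Nat.card (stabilizer Γ (Quotient.mk (orbitRel Γ Ω) x).out) = Nat.card (stabilizer Γ x) := by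
  have h1 : orbit Γ (Quotient.mk (orbitRel Γ Ω) x).out = orbit Γ x := by
    rw [orbit_eq_iff]
    exact orbitRel_apply.mp (Quotient.exact (Quotient.out_eq _))
  have h2 : Nat.card (orbit Γ (Quotient.mk (orbitRel Γ Ω) x).out) = Nat.card (orbit Γ x) := by
    rw [h1]
  refine ⟨h2, ?_⟩
  have h3 := card_mul (Γ := Γ) (Quotient.mk (orbitRel Γ Ω) x).out
  have h4 := card_mul (Γ := Γ) x
  rw [h2] at h3
  haveI : Nonempty (orbit Γ x) := ⟨⟨x, mem_orbit_self x⟩⟩
  have h5 : 0 < Nat.card (orbit Γ x) := Nat.card_pos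
  exact Nat.eq_of_mul_eq_mul_left h5 (h3.trans h4.symm)

theorem orbit_sum_mk [Fintype (Quotient (orbitRel Γ Ω))] (hfix : ∀ g : Γ, g ≠ 1 → Nat.card (fixedBy Ω g) = 2)
    (x : Ω) (h4 : 4 ≤ Nat.card (stabilizer Γ x)) (h3 : 3 ≤ Nat.card (orbit Γ x)) :
    Nat.card (stabilizer Γ x) ≤ 5 ∧ Nat.card (orbit Γ x) ≤ 12 ∧ ∀ y : Ω, y ∉ orbit Γ x → Nat.card (stabilizer Γ y) ≤ 3 := by
  classical
  have hn : 2 ≤ Nat.card Γ := by
    rw [← card_mul (Γ := Γ) x]
    have : 0 < Nat.card (orbit Γ x) := by omega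
    nlinarith
  have hr := num_core (Q := Quotient (orbitRel Γ Ω)) (Nat.card Γ) hn (fun ω => Nat.card (orbit Γ ω.out))
    (fun ω => Nat.card (stabilizer Γ ω.out)) (fun ω => card_mul ω.out) (orbit_sum hfix)
    (Quotient.mk (orbitRel Γ Ω) x) (by rw [(orbit_out_card (Γ := Γ) x).2]; exact h4)
    (by rw [(orbit_out_card (Γ := Γ) x).1]; exact h3)
  simp only [(orbit_out_card (Γ := Γ) x).1, (orbit_out_card (Γ := Γ) x).2] at hr
  refine ⟨hr.1, hr.2.1, fun y hy => ?_⟩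
  have h5 := hr.2.2 (Quotient.mk (orbitRel Γ Ω) y) (by
    intro h
    apply hy
    have := Quotient.exact h
    exact orbitRel_apply.mp this)
  rw [(orbit_out_card (Γ := Γ) y).2] at h5
  exact h5

theorem no_three (hfix : ∀ g : Γ, g ≠ 1 → Nat.card (fixedBy Ω g) = 2) (a b c : Ω) (hab : a ≠ b) (hac : a ≠ c) (hbc : b ≠ c)
    (ha : 6 ≤ Nat.card (stabilizer Γ a)) (hb : 6 ≤ Nat.card (stabilizer Γ b)) (hc : 6 ≤ Nat.card (stabilizer Γ c)) : False := by
  classical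
  letI : Fintype (Quotient (orbitRel Γ Ω)) := Fintype.ofFinite _
  have hS : ∀ x : Ω, 6 ≤ Nat.card (stabilizer Γ x) → Nat.card (orbit Γ x) ≤ 2 := by
    intro x hx
    by_contra hcon
    have := orbit_sum_mk hfix x (by omega) (by omega)
    omega
  have hidx : ∀ x : Ω, (stabilizer Γ x).index = Nat.card (orbit Γ x) := by
    intro x
    have h1 := card_mul (Γ := Γ) x
    have h2 := Subgroup.card_mul_index (stabilizer Γ x)
    have h3 : 0 < Nat.card (stabilizer Γ x) := Nat.card_pos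
    rw [← h1, mul_comm (Nat.card (orbit Γ x))] at h2
    exact Nat.eq_of_mul_eq_mul_left h3 h2
  obtain ⟨D, hD⟩ : ∃ D, D = stabilizer Γ a ⊓ stabilizer Γ b ⊓ stabilizer Γ c := ⟨_, rfl⟩
  have hDi : D.index ≤ 8 := by
    rw [hD]
    have h1 : (stabilizer Γ a ⊓ stabilizer Γ b ⊓ stabilizer Γ c).index ≤ (stabilizer Γ a ⊓ stabilizer Γ b).index * (stabilizer Γ c).index := Subgroup.index_inf_le
    have h2 : (stabilizer Γ a ⊓ stabilizer Γ b).index ≤ (stabilizer Γ a).index * (stabilizer Γ b).index := Subgroup.index_inf_le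
    rw [hidx c] at h1
    rw [hidx a, hidx b] at h2
    have h3 := hS a ha
    have h4 := hS b hb
    have h5 := hS c hc
    calc _ ≤ _ := h1
      _ ≤ (Nat.card (orbit Γ a) * Nat.card (orbit Γ b)) * Nat.card (orbit Γ c) := Nat.mul_le_mul_right _ h2
      _ ≤ (2 * 2) * 2 := Nat.mul_le_mul (Nat.mul_le_mul h3 h4) h5
  have hDne : D ≠ ⊥ := by
    intro hbot
    have h1 : D.index = Nat.card Γ := by rw [hbot, Subgroup.index_bot]
    have hn : Nat.card Γ ≤ 8 := by omega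
    have hone : ∀ x : Ω, 6 ≤ Nat.card (stabilizer Γ x) → stabilizer Γ x = ⊤ := by
      intro x hx
      have h2 := card_mul (Γ := Γ) x
      have h3 : 0 < Nat.card (orbit Γ x) := by
        haveI : Nonempty (orbit Γ x) := ⟨⟨x, mem_orbit_self x⟩⟩
        exact Nat.card_pos
      have h4 : Nat.card (orbit Γ x) = 1 := by
        by_contra h5
        have h6 : 2 ≤ Nat.card (orbit Γ x) := by omega
        nlinarith
      rw [← Subgroup.index_eq_one, hidx, h4]
    have h5 : D = ⊤ := by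
      rw [hD, hone a ha, hone b hb, hone c hc]
      simp
    have h6 : (⊥ : Subgroup Γ) = ⊤ := by rw [← hbot, h5]
    have h7 := Nat.card_congr (Subgroup.topEquiv (G := Γ)).toEquiv
    rw [← h6] at h7
    have h8 : Nat.card (⊥ : Subgroup Γ) = 1 := Subgroup.card_bot
    have h9 : Nat.card Γ ≤ Nat.card (stabilizer Γ a) * Nat.card (orbit Γ a) := by
      rw [mul_comm, card_mul]
    have h10 := Subgroup.card_le_card_group (stabilizer Γ a)
    omega
  haveI := (Subgroup.nontrivial_iff_ne_bot D).mpr hDne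
  obtain ⟨g, hgD, hg1⟩ := Subgroup.exists_ne_one_of_nontrivial D
  rw [hD] at hgD
  have hfx := hfix g hg1
  have hcard : 2 < Set.ncard (fixedBy Ω g) :=
    (Set.two_lt_ncard_iff (Set.toFinite _)).mpr ⟨a, b, c, hgD.1.1, hgD.1.2, hgD.2, hab, hac, hbc⟩
  rw [← Nat.card_coe_set_eq] at hcard
  omega

theorem card_le_twelve (hfix : ∀ g : Γ, g ≠ 1 → Nat.card (fixedBy Ω g) = 2) (X : Finset Ω)
    (hX : ∀ x ∈ X, 4 ≤ Nat.card (stabilizer Γ x)) : X.card ≤ 12 := by
  classical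
  letI : Fintype (Quotient (orbitRel Γ Ω)) := Fintype.ofFinite _
  by_contra hcon
  have hcard : 13 ≤ X.card := by omega
  have hcoe : ((X : Set Ω)).ncard = X.card := Set.ncard_coe_finset X
  by_cases hbig : ∃ x ∈ X, 3 ≤ Nat.card (orbit Γ x)
  · obtain ⟨x, hx, hx3⟩ := hbig
    obtain ⟨-, h12, hoth⟩ := orbit_sum_mk hfix x (hX x hx) hx3
    have hsub : (X : Set Ω) ⊆ orbit Γ x := by
      intro y hy
      by_contra hy'
      have := hoth y hy'
      have := hX y hy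
      omega
    have h1 := Set.ncard_le_ncard hsub (Set.toFinite _)
    rw [← Nat.card_coe_set_eq (orbit Γ x)] at h1
    omega
  · push Not at hbig
    have hS : ∀ x ∈ X, Set.ncard (orbit Γ x) ≤ 2 := by
      intro x hx
      rw [← Nat.card_coe_set_eq]
      have := hbig x hx
      omega
    have hne : X.Nonempty := Finset.card_pos.mp (by omega)
    obtain ⟨x₀, hx₀⟩ := hne
    obtain ⟨x₁, hx₁, hx₁'⟩ : ∃ x₁ ∈ X, x₁ ∉ orbit Γ x₀ := by
      by_contra h
      push Not at h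
      have h1 := Set.ncard_le_ncard (s := (X : Set Ω)) (t := orbit Γ x₀) (fun y hy => h y hy) (Set.toFinite _)
      have := hS x₀ hx₀
      omega
    obtain ⟨x₂, hx₂, hx₂'⟩ : ∃ x₂ ∈ X, x₂ ∉ orbit Γ x₀ ∧ x₂ ∉ orbit Γ x₁ := by
      by_contra h
      push Not at h
      have h1 := Set.ncard_le_ncard (s := (X : Set Ω)) (t := orbit Γ x₀ ∪ orbit Γ x₁) (fun y hy => by
        by_cases h2 : y ∈ orbit Γ x₀
        · exact Or.inl h2
        · exact Or.inr (h y hy h2)) (Set.toFinite _)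
      have h2 := Set.ncard_union_le (orbit Γ x₀) (orbit Γ x₁)
      have := hS x₀ hx₀
      have := hS x₁ hx₁
      omega
    have hn : 2 ≤ Nat.card Γ := by
      have h1 := hX x₀ hx₀
      have h2 := Subgroup.card_le_card_group (stabilizer Γ x₀)
      omega
    have hmk : ∀ x y : Ω, y ∉ orbit Γ x → Quotient.mk (orbitRel Γ Ω) x ≠ Quotient.mk (orbitRel Γ Ω) y := by
      intro x y hy h
      apply hy
      exact orbitRel_apply.mp (Quotient.exact h.symm)
    refine num_three (Q := Quotient (orbitRel Γ Ω)) (Nat.card Γ) hn (fun ω => Nat.card (orbit Γ ω.out))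
      (fun ω => Nat.card (stabilizer Γ ω.out)) (fun ω => card_mul ω.out) (orbit_sum hfix)
      (Quotient.mk (orbitRel Γ Ω) x₀) (Quotient.mk (orbitRel Γ Ω) x₁) (Quotient.mk (orbitRel Γ Ω) x₂)
      (hmk _ _ hx₁') (hmk _ _ hx₂'.1) (hmk _ _ hx₂'.2) ?_ ?_ ?_
    · rw [(orbit_out_card (Γ := Γ) x₀).2]; exact hX x₀ hx₀
    · rw [(orbit_out_card (Γ := Γ) x₁).2]; exact hX x₁ hx₁
    · rw [(orbit_out_card (Γ := Γ) x₂).2]; exact hX x₂ hx₂

end Act

end Cfsg.Agent.H14.ES
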