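import Mathlib
import Cfsg.Agent.Lib.H14.ES1

/-! `p'`-elements of `GL₂(p)` on the projective line over `F_{p²}`. -/

set_option autoImplicit false

namespace Cfsg.Agent.H14.ES

open Matrix OnePoint MulAction

variable {p : ℕ} [hp : Fact p.Prime]

/-- being scalar -/
def Scal {R : Type*} [CommRing R] (g : GL (Fin 2) R) : Prop := g 0 1 = 0 ∧ g 1 0 = 0 ∧ g 0 0 = g 1 1

section

/-- powers of a non-semisimple element -/
theorem pow_entries (hp2 : p ≠ 2) (g : GL (Fin 2) (ZMod p))
    (hδ : (g 0 0 - g 1 1) ^ 2 + 4 * g 0 1 * g 1 0 = 0) (α r e : ZMod p) (hα : α = (g 0 0 + g 1 1) / 2)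
    (he : e = (g 0 0 - g 1 1) / 2) (hr : r * α = 1) (k : ℕ) :
    (g ^ k) 0 0 = α ^ k * (1 + k * r * e) ∧ (g ^ k) 0 1 = α ^ k * (k * r * g 0 1) ∧
    (g ^ k) 1 0 = α ^ k * (k * r * g 1 0) ∧ (g ^ k) 1 1 = α ^ k * (1 - k * r * e) := by
  have h2 : (2 : ZMod p) ≠ 0 := by
    intro h
    have : ((2 : ℕ) : ZMod p) = 0 := by exact_mod_cast h
    rw [ZMod.natCast_eq_zero_iff] at this
    exact hp2 ((Nat.prime_dvd_prime_iff_eq hp.out Nat.prime_two).mp this)
  have ha : g 0 0 = α + e := by rw [hα, he]; field_simp; ring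
  have hd : g 1 1 = α - e := by rw [hα, he]; field_simp; ring
  have hN : e * e + g 0 1 * g 1 0 = 0 := by
    have : (g 0 0 - g 1 1) = 2 * e := by rw [he]; field_simp
    rw [this] at hδ
    have h4 : (4 : ZMod p) ≠ 0 := by
      have : (4 : ZMod p) = 2 * 2 := by norm_num
      rw [this]
      exact mul_ne_zero h2 h2
    apply mul_left_cancel₀ h4
    linear_combination hδ
  have hrα : α * r = 1 := by rw [mul_comm]; exact hr
  induction k with
  | zero => simp
  | succ k ih =>
    obtain ⟨i1, i2, i3, i4⟩ := ih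
    have hm : ∀ i j, (g ^ (k + 1)) i j = (g i 0) * (g ^ k) 0 j + (g i 1) * (g ^ k) 1 j := by
      intro i j
      rw [pow_succ']
      rw [Units.val_mul, Matrix.mul_apply, Fin.sum_univ_two]
    refine ⟨?_, ?_, ?_, ?_⟩
    · rw [hm, i1, i3, ha]
      push_cast
      rw [pow_succ]
      linear_combination (α ^ k * k * r) * hN - (α ^ k * e) * hrα
    · rw [hm, i2, i4, ha]
      push_cast
      rw [pow_succ]
      linear_combination - (α ^ k * g 0 1) * hrα
    · rw [hm, i1, i3, hd]
      push_cast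
      rw [pow_succ]
      linear_combination - (α ^ k * g 1 0) * hrα
    · rw [hm, i2, i4, hd]
      push_cast
      rw [pow_succ]
      linear_combination (α ^ k * k * r) * hN + (α ^ k * e) * hrα

theorem two_ne (hp2 : p ≠ 2) : (2 : ZMod p) ≠ 0 := by
  intro h
  have : ((2 : ℕ) : ZMod p) = 0 := by exact_mod_cast h
  rw [ZMod.natCast_eq_zero_iff] at this
  exact hp2 ((Nat.prime_dvd_prime_iff_eq hp.out Nat.prime_two).mp this)

/-- A `p'`-element of `GL₂(p)` which is not scalar has nonzero discriminant. -/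
theorem disc_ne (hp2 : p ≠ 2) (g : GL (Fin 2) (ZMod p)) (hns : ¬ Scal g) (hcop : (orderOf g).Coprime p) :
    (g 0 0 - g 1 1) ^ 2 + 4 * g 0 1 * g 1 0 ≠ 0 := by
  intro hδ
  have h2 := two_ne (p := p) hp2
  have h4 : (4 : ZMod p) ≠ 0 := by
    have : (4 : ZMod p) = 2 * 2 := by norm_num
    rw [this]
    exact mul_ne_zero h2 h2
  obtain ⟨α, hα⟩ : ∃ α, α = (g 0 0 + g 1 1) / 2 := ⟨_, rfl⟩
  obtain ⟨e, he⟩ : ∃ e, e = (g 0 0 - g 1 1) / 2 := ⟨_, rfl⟩
  have hdet : (g : Matrix (Fin 2) (Fin 2) (ZMod p)).det ≠ 0 := g.det_ne_zero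
  rw [Matrix.det_fin_two] at hdet
  have hα2 : α * α = g 0 0 * g 1 1 - g 0 1 * g 1 0 := by
    rw [hα]
    field_simp
    linear_combination hδ
  have hα0 : α ≠ 0 := by
    rintro h0
    rw [h0, zero_mul] at hα2
    exact hdet hα2.symm
  obtain ⟨i1, i2, i3, i4⟩ := pow_entries hp2 g hδ α α⁻¹ e hα he (inv_mul_cancel₀ hα0) (orderOf g)
  rw [pow_orderOf_eq_one] at i1 i2 i3 i4
  have hm : ((orderOf g : ℕ) : ZMod p) ≠ 0 := by
    intro h0
    rw [ZMod.natCast_eq_zero_iff] at h0
    have := Nat.Coprime.eq_one_of_dvd hcop.symm h0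
    exact hp.out.one_lt.ne' this
  have hprod : α ^ orderOf g * (((orderOf g : ℕ) : ZMod p) * α⁻¹) ≠ 0 :=
    mul_ne_zero (pow_ne_zero _ hα0) (mul_ne_zero hm (inv_ne_zero hα0))
  have hb : g 0 1 = 0 := by
    have : (1 : GL (Fin 2) (ZMod p)) 0 1 = 0 := by simp
    rw [this] at i2
    have h5 : (α ^ orderOf g * (((orderOf g : ℕ) : ZMod p) * α⁻¹)) * g 0 1 = 0 := by linear_combination - i2
    exact (mul_eq_zero.mp h5).resolve_left hprod
  have hc : g 1 0 = 0 := by
    have : (1 : GL (Fin 2) (ZMod p)) 1 0 = 0 := by simp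
    rw [this] at i3
    have h5 : (α ^ orderOf g * (((orderOf g : ℕ) : ZMod p) * α⁻¹)) * g 1 0 = 0 := by linear_combination - i3
    exact (mul_eq_zero.mp h5).resolve_left hprod
  apply hns
  refine ⟨hb, hc, ?_⟩
  rw [hb, mul_zero, zero_mul, add_zero] at hδ
  have := pow_eq_zero_iff (two_ne_zero) |>.mp hδ
  exact sub_eq_zero.mp this

section Field

variable {K : Type*} [Field K] [Fintype K] [Algebra (ZMod p) K]

theorem exists_sqrt (hK : Fintype.card K = p ^ 2) (hp2 : p ≠ 2) (x : ZMod p) :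
    ∃ s : K, s * s = algebraMap (ZMod p) K x := by
  haveI hch : CharP K p := charP_of_injective_algebraMap (algebraMap (ZMod p) K).injective p
  by_cases hx : x = 0
  · exact ⟨0, by simp [hx]⟩
  have hr : ringChar K ≠ 2 := by
    rw [ringChar.eq K p]
    exact hp2
  have hne : algebraMap (ZMod p) K x ≠ 0 := by
    rw [Ne, map_eq_zero]
    exact hx
  obtain ⟨t, ht⟩ : ∃ t, p = 2 * t + 1 := by
    have := hp.out.eq_two_or_odd'
    rcases this with h | ⟨t, ht⟩
    · exact absurd h hp2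
    · exact ⟨t, ht⟩
  have hisq : IsSquare (algebraMap (ZMod p) K x) := by
    rw [FiniteField.isSquare_iff hr hne, hK]
    have h1 : p ^ 2 / 2 = (p - 1) * (t + 1) := by
      rw [ht]
      have : (2 * t + 1) ^ 2 = 2 * ((2 * t + 1 - 1) * (t + 1)) + 1 := by
        have : 2 * t + 1 - 1 = 2 * t := by omega
        rw [this]
        ring
      rw [this]
      omega
    rw [h1, pow_mul, ← map_pow, ZMod.pow_card_sub_one_eq_one hx, map_one, one_pow]
  obtain ⟨s, hs⟩ := hisq
  exact ⟨s, hs.symm⟩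

variable [DecidableEq K]

/-- The fixed points -/
theorem fix_two (hK : Fintype.card K = p ^ 2) (hp2 : p ≠ 2) (g₀ : GL (Fin 2) (ZMod p)) (hns : ¬ Scal g₀)
    (hcop : (orderOf g₀).Coprime p) :
    Nat.card (fixedBy (OnePoint K) (GeneralLinearGroup.map (algebraMap (ZMod p) K) g₀)) = 2 := by
  have hδ := disc_ne hp2 g₀ hns hcop
  obtain ⟨s, hs⟩ := exists_sqrt (K := K) hK hp2 ((g₀ 0 0 - g₀ 1 1) ^ 2 + 4 * g₀ 0 1 * g₀ 1 0)
  obtain ⟨f, hf⟩ : ∃ f, f = algebraMap (ZMod p) K := ⟨_, rfl⟩
  rw [← hf] at hs ⊢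
  obtain ⟨g, hg⟩ : ∃ g, g = GeneralLinearGroup.map f g₀ := ⟨_, rfl⟩
  rw [← hg]
  have hent : ∀ i j, g i j = f (g₀ i j) := by
    intro i j
    rw [hg]
    rfl
  have hinj : Function.Injective f := by
    rw [hf]
    exact (algebraMap (ZMod p) K).injective
  have h2K : (2 : K) ≠ 0 := by
    have h := two_ne (p := p) hp2
    intro h0
    apply h
    apply hinj
    rw [map_zero, map_ofNat]
    exact h0
  haveI : NeZero (2 : K) := ⟨h2K⟩
  have hδK : s * s ≠ 0 := by
    rw [hs, Ne, map_eq_zero_iff f hinj]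
    exact hδ
  have hs0 : s ≠ 0 := fun h0 => hδK (by rw [h0, zero_mul])
  have hscompute : s * s = (g 0 0 - g 1 1) ^ 2 + 4 * g 0 1 * g 1 0 := by
    rw [hs, hent, hent, hent, hent]
    simp only [map_add, map_mul, map_pow, map_sub, map_ofNat]
  have hfin : ∀ x : K, g • (x : OnePoint K) = x ↔ g 1 0 * (x * x) + (g 1 1 - g 0 0) * x + (- g 0 1) = 0 := by
    intro x
    rw [← GeneralLinearGroup.fixpointPolynomial_aeval_eq_zero_iff]
    simp only [GeneralLinearGroup.fixpointPolynomial, map_sub, map_mul, map_add, Polynomial.aeval_X_pow,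
      Polynomial.aeval_C, Polynomial.aeval_X, Algebra.algebraMap_self_apply, sq]
    rw [← sub_eq_add_neg]
  by_cases hc : g 1 0 = 0
  · -- a fixed point at infinity
    have hne : g 1 1 - g 0 0 ≠ 0 := by
      intro h0
      apply hδK
      rw [hscompute, hc, mul_zero, add_zero]
      have : g 0 0 - g 1 1 = - (g 1 1 - g 0 0) := by ring
      rw [this, h0, neg_zero]
      ring
    have hset : fixedBy (OnePoint K) g = {∞, ((g 0 1 / (g 1 1 - g 0 0) : K) : OnePoint K)} := by
      ext x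
      rw [mem_fixedBy]
      cases x with
      | infty => simp [OnePoint.smul_infty_eq_self_iff, hc]
      | coe x =>
        rw [hfin, hc, zero_mul, zero_add]
        simp only [Set.mem_insert_iff, Set.mem_singleton_iff, OnePoint.coe_ne_infty, false_or, OnePoint.coe_eq_coe]
        rw [eq_div_iff hne]
        constructor
        · intro h
          linear_combination h
        · intro h
          rw [← h]
          ring
    rw [hset, Nat.card_coe_set_eq, Set.ncard_pair (OnePoint.infty_ne_coe _)]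
  · have hd : discrim (g 1 0) (g 1 1 - g 0 0) (- g 0 1) = s * s := by
      rw [discrim, hscompute]
      ring
    have hset : fixedBy (OnePoint K) g = {(((-(g 1 1 - g 0 0) + s) / (2 * g 1 0) : K) : OnePoint K), (((-(g 1 1 - g 0 0) - s) / (2 * g 1 0) : K) : OnePoint K)} := by
      ext x
      rw [mem_fixedBy]
      cases x with
      | infty =>
        rw [OnePoint.smul_infty_eq_self_iff]
        simp [hc, OnePoint.infty_ne_coe]
      | coe x =>
        rw [hfin, quadratic_eq_zero_iff hc hd]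
        simp only [Set.mem_insert_iff, Set.mem_singleton_iff, OnePoint.coe_eq_coe]
    rw [hset, Nat.card_coe_set_eq, Set.ncard_pair]
    intro h
    have h3 := OnePoint.coe_eq_coe.mp h
    have h4 : 2 * g 1 0 ≠ 0 := mul_ne_zero h2K hc
    rw [div_left_inj' h4] at h3
    apply hs0
    have : s + s = 0 := by linear_combination h3
    have h5 : 2 * s = 0 := by linear_combination this
    exact (mul_eq_zero.mp h5).resolve_left h2K

end Field

end

end Cfsg.Agent.H14.ES
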