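import Mathlib
import Cfsg.Agent.Lib.H14.ES2

/-! The main combinatorial statement on `p'`-subgroups of `GL₂(p)`. -/

set_option autoImplicit false

namespace Cfsg.Agent.H14.ES

open Matrix OnePoint MulAction

variable {p : ℕ} [hp : Fact p.Prime]

section Field

variable {K : Type*} [Field K] [Fintype K] [Algebra (ZMod p) K] [DecidableEq K]

/-- the point of a vector -/
noncomputable def pt (K : Type*) [Field K] [Algebra (ZMod p) K] (v : Fin 2 → ZMod p) : OnePoint K :=
  if v 1 = 0 then ∞ else ((algebraMap (ZMod p) K (v 0) / algebraMap (ZMod p) K (v 1) : K) : OnePoint K)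

theorem entry_map (g₀ : GL (Fin 2) (ZMod p)) (i j : Fin 2) :
    (GeneralLinearGroup.map (algebraMap (ZMod p) K) g₀) i j = algebraMap (ZMod p) K (g₀ i j) := rfl

theorem coe_fixed_iff (g : GL (Fin 2) K) (x : K) :
    g • (x : OnePoint K) = x ↔ g 1 0 * (x * x) + (g 1 1 - g 0 0) * x - g 0 1 = 0 := by
  rw [← GeneralLinearGroup.fixpointPolynomial_aeval_eq_zero_iff]
  simp only [GeneralLinearGroup.fixpointPolynomial, map_sub, map_mul, map_add, Polynomial.aeval_X_pow,
    Polynomial.aeval_C, Polynomial.aeval_X, Algebra.algebraMap_self_apply, sq]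

theorem pt_fixed (g₀ : GL (Fin 2) (ZMod p)) (v : Fin 2 → ZMod p) (hv : v ≠ 0) (μ : ZMod p)
    (h0 : g₀ 0 0 * v 0 + g₀ 0 1 * v 1 = μ * v 0) (h1 : g₀ 1 0 * v 0 + g₀ 1 1 * v 1 = μ * v 1) :
    (GeneralLinearGroup.map (algebraMap (ZMod p) K) g₀) • pt K v = pt K v := by
  unfold pt
  by_cases hv1 : v 1 = 0
  · rw [if_pos hv1, OnePoint.smul_infty_eq_self_iff, entry_map]
    have hv0 : v 0 ≠ 0 := by
      intro h
      apply hv
      ext i
      fin_cases i
      · exact h
      · exact hv1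
    rw [hv1, mul_zero, add_zero, mul_zero] at h1
    rw [(mul_eq_zero.mp h1).resolve_right hv0, map_zero]
  · rw [if_neg hv1, coe_fixed_iff]
    simp only [entry_map]
    have hne : algebraMap (ZMod p) K (v 1) ≠ 0 := by
      rw [Ne, map_eq_zero]
      exact hv1
    field_simp
    have h2 : g₀ 1 0 * v 0 ^ 2 + (g₀ 1 1 - g₀ 0 0) * v 0 * v 1 - g₀ 0 1 * v 1 ^ 2 = 0 := by
      linear_combination (v 0) * h1 - (v 1) * h0
    have h3 := congrArg (algebraMap (ZMod p) K) h2
    simp only [map_add, map_sub, map_mul, map_pow, map_zero] at h3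
    linear_combination h3

theorem pt_inj (v w : Fin 2 → ZMod p) (hv : v ≠ 0) (hw : w ≠ 0) (h : pt K v = pt K w) : ∃ c : ZMod p, w = c • v := by
  unfold pt at h
  by_cases hv1 : v 1 = 0
  · have hv0 : v 0 ≠ 0 := by
      intro h
      apply hv
      ext i
      fin_cases i
      · exact h
      · exact hv1
    by_cases hw1 : w 1 = 0
    · refine ⟨w 0 / v 0, ?_⟩
      ext i
      fin_cases i
      · simp only [Pi.smul_apply, smul_eq_mul, Fin.zero_eta]
        field_simp
      · simp [hv1, hw1]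
    · rw [if_pos hv1, if_neg hw1] at h
      exact absurd h (OnePoint.infty_ne_coe _)
  · by_cases hw1 : w 1 = 0
    · rw [if_neg hv1, if_pos hw1] at h
      exact absurd h.symm (OnePoint.infty_ne_coe _)
    · rw [if_neg hv1, if_neg hw1, OnePoint.coe_eq_coe] at h
      have hne : algebraMap (ZMod p) K (v 1) ≠ 0 := by
        rw [Ne, map_eq_zero]
        exact hv1
      have hne' : algebraMap (ZMod p) K (w 1) ≠ 0 := by
        rw [Ne, map_eq_zero]
        exact hw1
      rw [div_eq_div_iff hne hne', ← map_mul, ← map_mul] at h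
      have h2 := (algebraMap (ZMod p) K).injective h
      refine ⟨w 1 / v 1, ?_⟩
      ext i
      fin_cases i
      · simp only [Pi.smul_apply, smul_eq_mul, Fin.zero_eta]
        field_simp
        linear_combination -h2
      · simp only [Pi.smul_apply, smul_eq_mul, Fin.mk_one]
        field_simp

theorem scal_fixes (g₀ : GL (Fin 2) (ZMod p)) (hs : Scal g₀) (x : OnePoint K) :
    (GeneralLinearGroup.map (algebraMap (ZMod p) K) g₀) • x = x := by
  obtain ⟨h1, h2, h3⟩ := hs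
  cases x with
  | infty =>
    rw [OnePoint.smul_infty_eq_self_iff, entry_map, h2, map_zero]
  | coe x =>
    rw [coe_fixed_iff]
    simp only [entry_map, h1, h2, h3, map_zero]
    ring

end Field

section Act

variable {K : Type*} [Field K] [Fintype K] [Algebra (ZMod p) K] [DecidableEq K]
variable {Ξ : Type*} [Group Ξ] [Finite Ξ] (M : Ξ →* GL (Fin 2) (ZMod p))

/-- the permutation representation -/
noncomputable def phi (K : Type*) [Field K] [Algebra (ZMod p) K] [DecidableEq K] : Ξ →* Equiv.Perm (OnePoint K) :=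
  (MulAction.toPermHom (GL (Fin 2) K) (OnePoint K)).comp ((GeneralLinearGroup.map (algebraMap (ZMod p) K)).comp M)

theorem phi_apply (g : Ξ) (x : OnePoint K) : phi M K g x = (GeneralLinearGroup.map (algebraMap (ZMod p) K) (M g)) • x := rfl

instance finite_op : Finite (OnePoint K) := inferInstanceAs (Finite (Option K))

theorem hfix_range (hK : Fintype.card K = p ^ 2) (hp2 : p ≠ 2) (hcop : ∀ g, (orderOf (M g)).Coprime p) (γ : (phi M K).range) (hγ : γ ≠ 1) :
    Nat.card (fixedBy (OnePoint K) γ) = 2 := by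
  obtain ⟨γ, g, rfl⟩ := γ
  have hns : ¬ Scal (M g) := by
    intro hs
    apply hγ
    apply Subtype.ext
    apply Equiv.ext
    intro x
    rw [phi_apply]
    exact scal_fixes _ hs x
  have := fix_two hK hp2 (M g) hns (hcop g)
  rw [← this]
  rfl

theorem not_phi_one (hK : Fintype.card K = p ^ 2) (hp2 : p ≠ 2) (hcop : ∀ g, (orderOf (M g)).Coprime p) (g : Ξ) (hns : ¬ Scal (M g)) :
    phi M K g ≠ 1 := by
  intro h1
  have hfx := fix_two hK hp2 (M g) hns (hcop g)
  have hall : ∀ x : OnePoint K, x ∈ fixedBy (OnePoint K) (GeneralLinearGroup.map (algebraMap (ZMod p) K) (M g)) := by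
    intro x
    rw [mem_fixedBy, ← phi_apply, h1]
    rfl
  have hcard : 2 < Set.ncard (fixedBy (OnePoint K) (GeneralLinearGroup.map (algebraMap (ZMod p) K) (M g))) :=
    (Set.two_lt_ncard_iff (Set.toFinite _)).mpr ⟨∞, ((0 : K) : OnePoint K), ((1 : K) : OnePoint K), hall _, hall _, hall _,
      (OnePoint.infty_ne_coe _), (OnePoint.infty_ne_coe _), (by
        rw [Ne, OnePoint.coe_eq_coe]
        exact zero_ne_one)⟩
  rw [← Nat.card_coe_set_eq] at hcard
  omega

/-- stabilizer estimates -/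
theorem stab_ge (hK : Fintype.card K = p ^ 2) (hp2 : p ≠ 2) (hcop : ∀ g, (orderOf (M g)).Coprime p) (v : Fin 2 → ZMod p) (hv : v ≠ 0)
    (n : Ξ) (μ : ZMod p) (h0 : M n 0 0 * v 0 + M n 0 1 * v 1 = μ * v 0) (h1 : M n 1 0 * v 0 + M n 1 1 * v 1 = μ * v 1)
    (L : ℕ) (hL : ∀ k, 1 ≤ k → k < L → ¬ Scal (M n ^ k)) :
    L ≤ Nat.card (stabilizer (phi M K).range (pt K v)) := by
  obtain ⟨γ, hγ⟩ : ∃ γ : (phi M K).range, γ = ⟨phi M K n, n, rfl⟩ := ⟨_, rfl⟩
  have hst : γ ∈ stabilizer (phi M K).range (pt K v) := by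
    rw [mem_stabilizer_iff, hγ]
    change phi M K n (pt K v) = pt K v
    rw [phi_apply]
    exact pt_fixed _ v hv μ h0 h1
  have hor : L ≤ orderOf γ := by
    by_contra hcon
    have hk : orderOf γ < L := by omega
    have hpos : 1 ≤ orderOf γ := orderOf_pos γ
    have hns := hL _ hpos hk
    rw [← map_pow] at hns
    apply not_phi_one M hK hp2 hcop _ hns
    have h2 := pow_orderOf_eq_one γ
    have h3 : (γ : Equiv.Perm (OnePoint K)) ^ orderOf γ = 1 := by
      rw [← Subgroup.coe_pow, h2]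
      rfl
    have h4 : (γ : Equiv.Perm (OnePoint K)) = phi M K n := by rw [hγ]
    rw [map_pow, ← h4]
    exact h3
  refine hor.trans ?_
  rw [← Nat.card_zpowers]
  exact Subgroup.card_le_of_le ((Subgroup.zpowers_le).mpr hst)

end Act

section MC

variable {Ξ : Type*} [Group Ξ] [Finite Ξ] (M : Ξ →* GL (Fin 2) (ZMod p))

theorem mc3 (hp2 : p ≠ 2) (hcop : ∀ g, (orderOf (M g)).Coprime p) (v : Fin 3 → (Fin 2 → ZMod p)) (hv : ∀ i, v i ≠ 0)
    (hnp : ∀ i j, i ≠ j → ¬ ∃ c : ZMod p, v j = c • v i) (n : Fin 3 → Ξ) (μ : Fin 3 → ZMod p)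
    (h0 : ∀ i, M (n i) 0 0 * v i 0 + M (n i) 0 1 * v i 1 = μ i * v i 0)
    (h1 : ∀ i, M (n i) 1 0 * v i 0 + M (n i) 1 1 * v i 1 = μ i * v i 1)
    (hns : ∀ i, ∀ k, 1 ≤ k → k < 6 → ¬ Scal (M (n i) ^ k)) : False := by
  classical
  obtain ⟨K, hK⟩ : ∃ K : Type, K = GaloisField p 2 := ⟨_, rfl⟩
  subst hK
  haveI : Fintype (GaloisField p 2) := Fintype.ofFinite _
  have hK : Fintype.card (GaloisField p 2) = p ^ 2 := by
    rw [← Nat.card_eq_fintype_card]
    exact GaloisField.card p 2 (by norm_num)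
  have hd : ∀ i j : Fin 3, i ≠ j → pt (GaloisField p 2) (v i) ≠ pt (GaloisField p 2) (v j) :=
    fun i j hij h => hnp i j hij (pt_inj _ _ (hv i) (hv j) h)
  exact no_three (Γ := (phi M (GaloisField p 2)).range) (Ω := OnePoint (GaloisField p 2)) (hfix_range M hK hp2 hcop)
    (pt _ (v 0)) (pt _ (v 1)) (pt _ (v 2)) (hd _ _ (by decide)) (hd _ _ (by decide)) (hd _ _ (by decide))
    (stab_ge M hK hp2 hcop _ (hv 0) (n 0) (μ 0) (h0 0) (h1 0) 6 (hns 0))
    (stab_ge M hK hp2 hcop _ (hv 1) (n 1) (μ 1) (h0 1) (h1 1) 6 (hns 1))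
    (stab_ge M hK hp2 hcop _ (hv 2) (n 2) (μ 2) (h0 2) (h1 2) 6 (hns 2))

theorem mc14 (hp2 : p ≠ 2) (hcop : ∀ g, (orderOf (M g)).Coprime p) (v : Fin 14 → (Fin 2 → ZMod p)) (hv : ∀ i, v i ≠ 0)
    (hnp : ∀ i j, i ≠ j → ¬ ∃ c : ZMod p, v j = c • v i) (n : Fin 14 → Ξ) (μ : Fin 14 → ZMod p)
    (h0 : ∀ i, M (n i) 0 0 * v i 0 + M (n i) 0 1 * v i 1 = μ i * v i 0)
    (h1 : ∀ i, M (n i) 1 0 * v i 0 + M (n i) 1 1 * v i 1 = μ i * v i 1)
    (hns : ∀ i, ∀ k, 1 ≤ k → k < 4 → ¬ Scal (M (n i) ^ k)) : False := by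
  classical
  obtain ⟨K, hK⟩ : ∃ K : Type, K = GaloisField p 2 := ⟨_, rfl⟩
  subst hK
  haveI : Fintype (GaloisField p 2) := Fintype.ofFinite _
  have hK : Fintype.card (GaloisField p 2) = p ^ 2 := by
    rw [← Nat.card_eq_fintype_card]
    exact GaloisField.card p 2 (by norm_num)
  have hinj : Function.Injective (fun i => pt (GaloisField p 2) (v i)) := by
    intro i j h
    by_contra hij
    exact hnp i j hij (pt_inj _ _ (hv i) (hv j) h)
  have h12 := card_le_twelve (Γ := (phi M (GaloisField p 2)).range) (Ω := OnePoint (GaloisField p 2)) (hfix_range M hK hp2 hcop)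
    (Finset.univ.image (fun i => pt (GaloisField p 2) (v i))) (by
      intro x hx
      obtain ⟨i, -, rfl⟩ := Finset.mem_image.mp hx
      exact stab_ge M hK hp2 hcop _ (hv i) (n i) (μ i) (h0 i) (h1 i) 4 (hns i))
  rw [Finset.card_image_of_injective _ hinj] at h12
  simp at h12

end MC

end Cfsg.Agent.H14.ES
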