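import Mathlib
import Cfsg.Agent.Lib.H14.ES3
import Cfsg.Agent.Lib.H26.HBCyc

/-! Representation on the central quotient; the action on a line. -/

set_option autoImplicit false

namespace Cfsg.Agent.H14.ES

open Matrix

variable {p : ℕ} [hp : Fact p.Prime]

/-- abstract representation -/
theorem abstract_rep0 {Ξ A : Type*} [Group Ξ] [CommGroup A] [Finite A] [Module (ZMod p) (Additive A)]
    (hcard : Nat.card A = p ^ 2) (φ : Ξ →* MulAut A) :
    ∃ (M : Ξ →* GL (Fin 2) (ZMod p)) (c : A → Fin 2 → ZMod p), (∀ a b, c (a * b) = c a + c b) ∧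
      Function.Bijective c ∧ ∀ g a, c (φ g a) = (M g : Matrix (Fin 2) (Fin 2) (ZMod p)) *ᵥ c a := by
  classical
  haveI : Module.Finite (ZMod p) (Additive A) := Module.Finite.of_finite
  have hfr : Module.finrank (ZMod p) (Additive A) = 2 := by
    have h1 := Module.natCard_eq_pow_finrank (K := ZMod p) (V := Additive A)
    rw [Nat.card_zmod] at h1
    have h2 : Nat.card (Additive A) = p ^ 2 := hcard
    rw [h2] at h1
    exact (Nat.pow_right_injective hp.out.two_le h1).symm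
  let b : Module.Basis (Fin 2) (ZMod p) (Additive A) := Module.finBasisOfFinrankEq _ _ hfr
  let ρ := H26.HBCyc.rhoOf (p := p) φ
  let M₀ : Ξ →* Matrix (Fin 2) (Fin 2) (ZMod p) :=
    ((LinearMap.toMatrixAlgEquiv b : Module.End (ZMod p) (Additive A) ≃ₐ[ZMod p] Matrix (Fin 2) (Fin 2) (ZMod p)) :
      Module.End (ZMod p) (Additive A) →* Matrix (Fin 2) (Fin 2) (ZMod p)).comp ρ
  refine ⟨M₀.toHomUnits, fun a => b.repr (Additive.ofMul a), ?_, ?_, ?_⟩
  · intro x y
    ext i
    simp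
  · constructor
    · intro x y h
      apply Additive.ofMul.injective
      apply b.repr.injective
      ext i
      exact congrFun h i
    · intro w
      refine ⟨Additive.toMul (b.equivFun.symm w), ?_⟩
      have h := b.equivFun.apply_symm_apply w
      ext i
      exact congrFun h i
  · intro g a
    have h := LinearMap.toMatrix_mulVec_repr b b (ρ g) (Additive.ofMul a)
    change _ = (M₀ g) *ᵥ _
    have h2 : M₀ g = LinearMap.toMatrix b b (ρ g) := by
      rfl
    rw [h2]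
    ext i
    have h3 := congrFun h i
    rw [h3]
    rfl

theorem abstract_rep {Ξ A : Type*} [Group Ξ] [CommGroup A] [Finite A] (hexp : ∀ a : A, a ^ p = 1)
    (hcard : Nat.card A = p ^ 2) (φ : Ξ →* MulAut A) :
    ∃ (M : Ξ →* GL (Fin 2) (ZMod p)) (c : A → Fin 2 → ZMod p), (∀ a b, c (a * b) = c a + c b) ∧
      Function.Bijective c ∧ ∀ g a, c (φ g a) = (M g : Matrix (Fin 2) (Fin 2) (ZMod p)) *ᵥ c a := by
  letI : Module (ZMod p) (Additive A) := AddCommGroup.zmodModule (fun x => by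
    apply Additive.toMul.injective
    simpa using hexp x.toMul)
  exact abstract_rep0 hcard φ

/-- The automorphisms induced on the central quotient. -/
noncomputable def autQuot (R : Type*) [Group R] : MulAut R →* MulAut (R ⧸ Subgroup.center R) where
  toFun e := QuotientGroup.congr (Subgroup.center R) (Subgroup.center R) e
    ((Subgroup.characteristic_iff_map_eq.mp (inferInstance : (Subgroup.center R).Characteristic)) e)
  map_one' := by
    ext x
    induction x using QuotientGroup.induction_on with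
    | H x => rfl
  map_mul' := by
    intro a b
    ext x
    induction x using QuotientGroup.induction_on with
    | H x => rfl

theorem autQuot_mk {R : Type*} [Group R] (e : MulAut R) (x : R) :
    autQuot R e (x : R ⧸ Subgroup.center R) = ((e x : R) : R ⧸ Subgroup.center R) := rfl

/-- representation on the central quotient -/
theorem rep2 {Ξ R : Type*} [Group Ξ] [Group R] [Finite R]
    (hcomm : ∀ a b : R, a * b * a⁻¹ * b⁻¹ ∈ Subgroup.center R) (hpow : ∀ a : R, a ^ p ∈ Subgroup.center R)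
    (hcard : Nat.card (R ⧸ Subgroup.center R) = p ^ 2) (φ : Ξ →* MulAut R) :
    ∃ (M : Ξ →* GL (Fin 2) (ZMod p)) (π : R → Fin 2 → ZMod p), (∀ a b, π (a * b) = π a + π b) ∧
      (∀ a, π a = 0 ↔ a ∈ Subgroup.center R) ∧ Function.Surjective π ∧
      ∀ g a, π (φ g a) = (M g : Matrix (Fin 2) (Fin 2) (ZMod p)) *ᵥ π a := by
  classical
  letI : CommGroup (R ⧸ Subgroup.center R) :=
    { (inferInstance : Group (R ⧸ Subgroup.center R)) with
      mul_comm := by
        intro a b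
        induction a using QuotientGroup.induction_on with
        | H a =>
          induction b using QuotientGroup.induction_on with
          | H b =>
            rw [← QuotientGroup.mk_mul, ← QuotientGroup.mk_mul, QuotientGroup.eq]
            have h := hcomm b⁻¹ a⁻¹
            have e : (a * b)⁻¹ * (b * a) = b⁻¹ * a⁻¹ * b⁻¹⁻¹ * a⁻¹⁻¹ := by group
            rw [e]
            exact h }
  obtain ⟨M, c, hc1, hc2, hc3⟩ := abstract_rep (p := p) (A := R ⧸ Subgroup.center R) (Ξ := Ξ) (by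
      intro a
      induction a using QuotientGroup.induction_on with
      | H a =>
        rw [← QuotientGroup.mk_pow, QuotientGroup.eq_one_iff]
        exact hpow a) hcard ((autQuot R).comp φ)
  have hc0 : c 1 = 0 := by
    have := hc1 1 1
    rw [mul_one] at this
    exact left_eq_add.mp this
  refine ⟨M, fun a => c (a : R ⧸ Subgroup.center R), fun a b => by
    change c ((a * b : R) : R ⧸ Subgroup.center R) = c _ + c _
    rw [QuotientGroup.mk_mul]
    exact hc1 _ _, fun a => ?_, ?_, fun g a => ?_⟩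
  · constructor
    · intro h
      have h2 : (a : R ⧸ Subgroup.center R) = 1 := hc2.1 (h.trans hc0.symm)
      exact (QuotientGroup.eq_one_iff a).mp h2
    · intro h
      have h2 : (a : R ⧸ Subgroup.center R) = 1 := (QuotientGroup.eq_one_iff a).mpr h
      change c _ = 0
      rw [h2, hc0]
  · intro w
    obtain ⟨x, hx⟩ := hc2.2 w
    induction x using QuotientGroup.induction_on with
    | H x => exact ⟨x, hx⟩
  · have := hc3 g (a : R ⧸ Subgroup.center R)
    exact this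

section Line

variable {R : Type*} [Group R]

theorem comm_pow_one {v y z : R} (hz : z = v * y * v⁻¹ * y⁻¹) (hzv : Commute z v) (hzy : Commute z y) (a : ℕ) :
    v ^ a * y = z ^ a * y * v ^ a := by
  have h1 : v * y = z * y * v := by
    rw [hz]
    group
  have h3 : ∀ a : ℕ, Commute (v ^ a) z := fun a => (hzv.pow_right a).symm
  induction a with
  | zero => simp
  | succ a ih =>
    calc v ^ (a + 1) * y = v ^ a * (v * y) := by rw [pow_succ, mul_assoc]
      _ = v ^ a * (z * y * v) := by rw [h1]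
      _ = (v ^ a * z) * y * v := by simp only [mul_assoc]
      _ = (z * v ^ a) * y * v := by rw [(h3 a).eq]
      _ = z * (v ^ a * y) * v := by simp only [mul_assoc]
      _ = z * (z ^ a * y * v ^ a) * v := by rw [ih]
      _ = z ^ (a + 1) * y * v ^ (a + 1) := by
        rw [pow_succ' z, pow_succ v]
        simp only [mul_assoc]

theorem comm_pow_two {v y z : R} (hz : z = v * y * v⁻¹ * y⁻¹) (hzv : Commute z v) (hzy : Commute z y) (a b : ℕ) :
    v ^ a * y ^ b = z ^ (a * b) * y ^ b * v ^ a := by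
  induction b with
  | zero => simp
  | succ b ih =>
    have h3 : Commute (y ^ b) (z ^ a) := ((hzy.pow_left a).pow_right b).symm
    calc v ^ a * y ^ (b + 1) = (v ^ a * y ^ b) * y := by rw [pow_succ, mul_assoc]
      _ = z ^ (a * b) * y ^ b * v ^ a * y := by rw [ih]
      _ = z ^ (a * b) * y ^ b * (v ^ a * y) := by simp only [mul_assoc]
      _ = z ^ (a * b) * y ^ b * (z ^ a * y * v ^ a) := by rw [comm_pow_one hz hzv hzy]
      _ = z ^ (a * b) * (y ^ b * z ^ a) * y * v ^ a := by simp only [mul_assoc]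
      _ = z ^ (a * b) * (z ^ a * y ^ b) * y * v ^ a := by rw [h3.eq]
      _ = z ^ (a * (b + 1)) * y ^ (b + 1) * v ^ a := by
        rw [Nat.mul_succ, pow_add, pow_succ y]
        simp only [mul_assoc]

theorem comm_central {ζ₁ ζ₂ a b : R} (h1 : ζ₁ ∈ Subgroup.center R) (h2 : ζ₂ ∈ Subgroup.center R) :
    ζ₁ * a * (ζ₂ * b) * (ζ₁ * a)⁻¹ * (ζ₂ * b)⁻¹ = a * b * a⁻¹ * b⁻¹ := by
  have c1 := Subgroup.mem_center_iff.mp h1
  have c2 := Subgroup.mem_center_iff.mp h2
  have e1 : ζ₁ * a * (ζ₂ * b) = (ζ₁ * ζ₂) * (a * b) := by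
    calc ζ₁ * a * (ζ₂ * b) = ζ₁ * (a * ζ₂) * b := by simp only [mul_assoc]
      _ = ζ₁ * (ζ₂ * a) * b := by rw [c2 a]
      _ = _ := by simp only [mul_assoc]
  have e2 : ζ₂ * b * (ζ₁ * a) = (ζ₁ * ζ₂) * (b * a) := by
    calc ζ₂ * b * (ζ₁ * a) = ζ₂ * (b * ζ₁) * a := by simp only [mul_assoc]
      _ = ζ₂ * (ζ₁ * b) * a := by rw [c1 b]
      _ = (ζ₂ * ζ₁) * (b * a) := by simp only [mul_assoc]
      _ = (ζ₁ * ζ₂) * (b * a) := by rw [c1 ζ₂]
  have c3 : ζ₁ * ζ₂ ∈ Subgroup.center R := Subgroup.mul_mem _ h1 h2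
  have c4 := Subgroup.mem_center_iff.mp c3
  calc ζ₁ * a * (ζ₂ * b) * (ζ₁ * a)⁻¹ * (ζ₂ * b)⁻¹ = (ζ₁ * a * (ζ₂ * b)) * (ζ₂ * b * (ζ₁ * a))⁻¹ := by group
    _ = (ζ₁ * ζ₂) * (a * b) * ((ζ₁ * ζ₂) * (b * a))⁻¹ := by rw [e1, e2]
    _ = (ζ₁ * ζ₂) * ((a * b) * (b * a)⁻¹) * (ζ₁ * ζ₂)⁻¹ := by group
    _ = ((a * b) * (b * a)⁻¹) * (ζ₁ * ζ₂) * (ζ₁ * ζ₂)⁻¹ := by rw [c4 ((a * b) * (b * a)⁻¹)]
    _ = a * b * a⁻¹ * b⁻¹ := by group

end Line

section Stage2

variable {Ξ R : Type*} [Group Ξ] [Group R]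

theorem pi_pow (π : R → Fin 2 → ZMod p) (hadd : ∀ a b, π (a * b) = π a + π b) (x : R) (m : ℕ) :
    π (x ^ m) = (m : ZMod p) • π x := by
  have h1 : π 1 = 0 := by
    have := hadd 1 1
    rw [mul_one] at this
    exact left_eq_add.mp this
  induction m with
  | zero => simp [h1]
  | succ m ih =>
    rw [pow_succ, hadd, ih]
    push_cast
    rw [add_smul, one_smul]

theorem pi_inv (π : R → Fin 2 → ZMod p) (hadd : ∀ a b, π (a * b) = π a + π b) (x : R) :
    π x⁻¹ = - π x := by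
  have h1 : π 1 = 0 := by
    have := hadd 1 1
    rw [mul_one] at this
    exact left_eq_add.mp this
  have h2 := hadd x⁻¹ x
  rw [inv_mul_cancel, h1] at h2
  exact (eq_neg_of_add_eq_zero_left h2.symm)

theorem scal_mulVec (g : GL (Fin 2) (ZMod p)) (hs : Scal g) (w : Fin 2 → ZMod p) :
    (g : Matrix (Fin 2) (Fin 2) (ZMod p)) *ᵥ w = g 0 0 • w := by
  obtain ⟨h1, h2, h3⟩ := hs
  ext i
  fin_cases i
  · simp [Matrix.mulVec, dotProduct, Fin.sum_univ_two, h1]
  · simp [Matrix.mulVec, dotProduct, Fin.sum_univ_two, h2, h3]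

theorem stage2 (φ : Ξ →* MulAut R) (M : Ξ →* GL (Fin 2) (ZMod p)) (π : R → Fin 2 → ZMod p)
    (hadd : ∀ a b, π (a * b) = π a + π b) (hker : ∀ a, π a = 0 ↔ a ∈ Subgroup.center R)
    (hint : ∀ g a, π (φ g a) = (M g : Matrix (Fin 2) (Fin 2) (ZMod p)) *ᵥ π a)
    (z v y : R) (hz : z = v * y * v⁻¹ * y⁻¹) (hzc : z ∈ Subgroup.center R) (hzo : orderOf z = p)
    (n : Ξ) (l₀ e b : ℕ) (hn1 : φ n z = z ^ l₀) (hn2 : φ n v = z ^ b * v ^ e)
    (hle : (e : ZMod p) * (l₀ : ZMod p) = 1) :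
    π v ≠ 0 ∧ (∃ μ : ZMod p, (M n : Matrix (Fin 2) (Fin 2) (ZMod p)) *ᵥ π v = μ • π v) ∧
      ∀ k, Scal (M n ^ k) → (l₀ : ZMod p) ^ (3 * k) = 1 := by
  have hzc' : ∀ x, Commute z x := fun x => (Subgroup.mem_center_iff.mp hzc x).symm
  have hz1 : z ≠ 1 := by
    intro h
    rw [h, orderOf_one] at hzo
    exact hp.out.one_lt.ne hzo
  have hvne : π v ≠ 0 := by
    intro h
    have h1 := Subgroup.mem_center_iff.mp ((hker v).mp h) y
    apply hz1
    rw [hz, ← h1]
    group
  have hpz : π z = 0 := (hker z).mpr hzc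
  have hμ : (M n : Matrix (Fin 2) (Fin 2) (ZMod p)) *ᵥ π v = (e : ZMod p) • π v := by
    rw [← hint, hn2, hadd, pi_pow π hadd, hpz, smul_zero, zero_add, pi_pow π hadd]
  refine ⟨hvne, ⟨_, hμ⟩, fun k hs => ?_⟩
  have hφk : φ (n ^ k) z = z ^ (l₀ ^ k) := by
    rw [map_pow]
    clear hs
    induction k with
    | zero => simp
    | succ k ih =>
      rw [pow_succ', MulAut.mul_apply, ih, map_pow, hn1, ← pow_mul, pow_succ', mul_comm]
  have hMk : ((M (n ^ k) : GL (Fin 2) (ZMod p)) : Matrix (Fin 2) (Fin 2) (ZMod p)) *ᵥ π v = ((e : ZMod p) ^ k) • π v := by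
    clear hs hφk
    induction k with
    | zero => simp
    | succ k ih =>
      rw [map_pow] at ih ⊢
      rw [pow_succ, Units.val_mul, ← Matrix.mulVec_mulVec, hμ, Matrix.mulVec_smul, ih, smul_smul, pow_succ', mul_comm]
  rw [← map_pow] at hs
  obtain ⟨c, hc⟩ : ∃ c, c = M (n ^ k) 0 0 := ⟨_, rfl⟩
  have hsv : ∀ w, ((M (n ^ k) : GL (Fin 2) (ZMod p)) : Matrix (Fin 2) (Fin 2) (ZMod p)) *ᵥ w = c • w := by
    intro w
    rw [hc]
    exact scal_mulVec _ hs w
  have hcμ : c = (e : ZMod p) ^ k := by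
    rw [hsv] at hMk
    have h1 : (c - (e : ZMod p) ^ k) • π v = 0 := by
      rw [sub_smul, hMk, sub_self]
    have h2 := (smul_eq_zero.mp h1).resolve_right hvne
    exact sub_eq_zero.mp h2
  -- central corrections
  have hcor : ∀ x : R, φ (n ^ k) x * (x ^ c.val)⁻¹ ∈ Subgroup.center R := by
    intro x
    rw [← hker, hadd, pi_inv π hadd, hint, hsv, pi_pow π hadd, ZMod.natCast_zmod_val, add_neg_cancel]
  have hcomm : φ (n ^ k) z = z ^ (c.val * c.val) := by
    obtain ⟨ζ₁, hζ₁⟩ : ∃ ζ₁, ζ₁ = φ (n ^ k) v * (v ^ c.val)⁻¹ := ⟨_, rfl⟩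
    obtain ⟨ζ₂, hζ₂⟩ : ∃ ζ₂, ζ₂ = φ (n ^ k) y * (y ^ c.val)⁻¹ := ⟨_, rfl⟩
    have h1 : ζ₁ ∈ Subgroup.center R := by rw [hζ₁]; exact hcor v
    have h2 : ζ₂ ∈ Subgroup.center R := by rw [hζ₂]; exact hcor y
    have e1 : φ (n ^ k) v = ζ₁ * v ^ c.val := by rw [hζ₁]; group
    have e2 : φ (n ^ k) y = ζ₂ * y ^ c.val := by rw [hζ₂]; group
    have hcp := comm_pow_two hz (hzc' v) (hzc' y) c.val c.val
    have hexp : z ^ (c.val * c.val) = v ^ c.val * y ^ c.val * (v ^ c.val)⁻¹ * (y ^ c.val)⁻¹ := by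
      rw [hcp]
      have h3 : Commute (z ^ (c.val * c.val)) (y ^ c.val) := ((hzc' _).pow_pow _ _)
      group
    rw [hexp]
    conv_lhs => rw [hz]
    simp only [map_mul, map_inv]
    rw [e1, e2]
    exact comm_central h1 h2
  rw [hφk] at hcomm
  have hmod : l₀ ^ k ≡ c.val * c.val [MOD p] := by
    have h := (pow_eq_pow_iff_modEq).mp hcomm
    rw [hzo] at h
    exact h
  have hcast := (ZMod.natCast_eq_natCast_iff _ _ _).mpr hmod
  push_cast at hcast
  rw [ZMod.natCast_zmod_val, hcμ] at hcast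
  have h3k : 3 * k = k + 2 * k := by ring
  rw [h3k, pow_add, hcast, two_mul, pow_add]
  calc (e : ZMod p) ^ k * (e : ZMod p) ^ k * ((l₀ : ZMod p) ^ k * (l₀ : ZMod p) ^ k) =
      (((e : ZMod p) * (l₀ : ZMod p)) ^ k) * (((e : ZMod p) * (l₀ : ZMod p)) ^ k) := by
        rw [mul_pow]
        ring
    _ = 1 := by rw [hle, one_pow, one_mul]

end Stage2

end Cfsg.Agent.H14.ES
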