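import Mathlib
import Cfsg.Agent.Lib.H14.ES4
import Cfsg.Agent.Lib.H08.Basic

/-! Frattini step: from an automorphism to an element normalizing the Sylow subgroup. -/

set_option autoImplicit false

namespace Cfsg.Agent.H14.ES

section

variable {G : Type*} [Group G]

theorem conj_inv_mem [Finite G] (K : Subgroup G) (n : G) (h : ∀ a ∈ K, n * a * n⁻¹ ∈ K) : ∀ a ∈ K, n⁻¹ * a * n ∈ K := by
  have h1 : K.map (MulAut.conj n).toMonoidHom ≤ K := by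
    rintro _ ⟨a, ha, rfl⟩
    exact h a ha
  have h2 : Nat.card (K.map (MulAut.conj n).toMonoidHom) = Nat.card K :=
    Nat.card_congr (K.equivMapOfInjective _ (MulAut.conj n).injective).symm.toEquiv
  have h3 : K.map (MulAut.conj n).toMonoidHom = K := Subgroup.eq_of_le_of_card_ge h1 h2.ge
  intro a ha
  rw [← h3] at ha
  obtain ⟨b, hb, rfl⟩ := ha
  have : n⁻¹ * ((MulAut.conj n).toMonoidHom b) * n = b := by
    simp [MulAut.conj_apply]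
    group
  rw [this]
  exact hb

theorem cmul (g x y : G) : g * (x * y) * g⁻¹ = (g * x * g⁻¹) * (g * y * g⁻¹) := by group

/-- the element `n₀` -/
theorem stage0 {p : ℕ} {z v : G} (hzv : Commute z v) (hvp : v ^ p = 1) (g₁ u g₃ : G) (a₀ b₀ : ℕ)
    (hg1z : g₁ * z * g₁⁻¹ = z * v ^ a₀) (hg1v : g₁ * v * g₁⁻¹ = v) (huz : u * z * u⁻¹ = z)
    (huv : u * v * u⁻¹ = z ^ b₀ * v) (hg3z : g₃ * z * g₃⁻¹ = z * v) (hg3v : g₃ * v * g₃⁻¹ = v)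
    (hdiv : p ∣ a₀ * (1 + b₀) + 1) :
    (g₁ * u * g₃) * z * (g₁ * u * g₃)⁻¹ = z ^ (1 + b₀) ∧
      (g₁ * u * g₃) * v * (g₁ * u * g₃)⁻¹ = z ^ b₀ * v ^ (a₀ * b₀ + 1) := by
  have hc : ∀ (i j : ℕ), Commute (z ^ i) (v ^ j) := fun i j => hzv.pow_pow i j
  have e1 : ∀ x : G, (g₁ * u * g₃) * x * (g₁ * u * g₃)⁻¹ = g₁ * (u * (g₃ * x * g₃⁻¹) * u⁻¹) * g₁⁻¹ := by
    intro x
    group
  have hpw : ∀ i j : ℕ, g₁ * (z ^ i * v ^ j) * g₁⁻¹ = z ^ i * v ^ (a₀ * i + j) := by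
    intro i j
    rw [cmul, ← conj_pow, ← conj_pow, hg1z, hg1v, (hzv.pow_right a₀).mul_pow, ← pow_mul, mul_assoc, ← pow_add]
  constructor
  · rw [e1, hg3z, cmul u, huz, huv]
    have e2 : z * (z ^ b₀ * v) = z ^ (b₀ + 1) * v ^ 1 := by
      rw [pow_one, ← mul_assoc, ← pow_succ']
    rw [e2, hpw]
    obtain ⟨m, hm⟩ := hdiv
    have hm' : a₀ * (b₀ + 1) + 1 = p * m := by rw [← hm]; ring
    rw [hm', pow_mul, hvp, one_pow, mul_one, add_comm]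
  · rw [e1, hg3v, huv]
    have h2 := hpw b₀ 1
    rw [pow_one] at h2
    rw [h2, mul_comm a₀ b₀]

variable [Finite G]

theorem stage1 {p : ℕ} [Fact p.Prime] (P : Sylow p G) (A : Subgroup G) (z v : G)
    (hAP : A ≤ P) (hzA : z ∈ A) (hvA : v ∈ A) (hAgen : ∀ a ∈ A, ∃ i j : ℕ, a = z ^ i * v ^ j)
    (hZ : ∀ x ∈ (P : Subgroup G), ∀ u ∈ (P : Subgroup G), u * x * u⁻¹ * x⁻¹ ∈ Subgroup.zpowers z)
    (hzc : ∀ u ∈ (P : Subgroup G), u * z = z * u)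
    (hF : ∀ r : ℕ, ∃ u ∈ (P : Subgroup G), u * z * u⁻¹ = z ∧ u * v * u⁻¹ = z ^ r * v)
    (n₀ : G) (hn₀A : ∀ a ∈ A, n₀ * a * n₀⁻¹ ∈ A) (hn₀z : ∀ a ∈ Subgroup.zpowers z, n₀ * a * n₀⁻¹ ∈ Subgroup.zpowers z) :
    ∃ n ∈ Subgroup.normalizer ((P : Subgroup G) : Set G), ∀ a ∈ A, n * a * n⁻¹ = n₀ * a * n₀⁻¹ := by
  classical
  have hzpA : Subgroup.zpowers z ≤ A := Subgroup.zpowers_le.mpr hzA
  obtain ⟨C, hC⟩ : ∃ C, C = Subgroup.centralizer (A : Set G) := ⟨_, rfl⟩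
  have hCmem : ∀ c, c ∈ C ↔ ∀ a ∈ A, a * c = c * a := by
    intro c
    rw [hC, Subgroup.mem_centralizer_iff]
    rfl
  have hnA : ∀ u ∈ (P : Subgroup G), ∀ a ∈ A, u * a * u⁻¹ ∈ A := by
    intro u hu a ha
    have h1 := hZ a (hAP ha) u hu
    have h2 := hzpA h1
    have h3 : u * a * u⁻¹ = (u * a * u⁻¹ * a⁻¹) * a := by group
    rw [h3]
    exact A.mul_mem h2 ha
  have hPC : ∀ u ∈ (P : Subgroup G), ∀ c ∈ C, u * c * u⁻¹ ∈ C := by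
    intro u hu c hc
    rw [hCmem] at hc ⊢
    intro a ha
    have h1 := hc _ (hnA u⁻¹ ((P : Subgroup G).inv_mem hu) a ha)
    simp only [inv_inv] at h1
    calc a * (u * c * u⁻¹) = u * ((u⁻¹ * a * u) * c) * u⁻¹ := by group
      _ = u * (c * (u⁻¹ * a * u)) * u⁻¹ := by rw [h1]
      _ = u * c * u⁻¹ * a := by group
  let Y : Subgroup G :=
    { carrier := {x | ∃ u ∈ (P : Subgroup G), ∃ c ∈ C, x = u * c}
      mul_mem' := by
        rintro _ _ ⟨u₁, hu₁, c₁, hc₁, rfl⟩ ⟨u₂, hu₂, c₂, hc₂, rfl⟩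
        refine ⟨u₁ * u₂, (P : Subgroup G).mul_mem hu₁ hu₂, (u₂⁻¹ * c₁ * u₂⁻¹⁻¹) * c₂,
          C.mul_mem (hPC _ ((P : Subgroup G).inv_mem hu₂) _ hc₁) hc₂, ?_⟩
        group
      one_mem' := ⟨1, (P : Subgroup G).one_mem, 1, C.one_mem, by simp⟩
      inv_mem' := by
        rintro _ ⟨u, hu, c, hc, rfl⟩
        refine ⟨u⁻¹, (P : Subgroup G).inv_mem hu, u * c⁻¹ * u⁻¹, hPC _ hu _ (C.inv_mem hc), ?_⟩
        group }
  have hPY : (P : Subgroup G) ≤ Y := fun u hu => ⟨u, hu, 1, C.one_mem, by simp⟩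
  have hn₀inv := conj_inv_mem _ _ hn₀A
  have hn₀zinv := conj_inv_mem _ _ hn₀z
  have hQ : ∀ u ∈ (P : Subgroup G), n₀ * u * n₀⁻¹ ∈ Y := by
    intro u hu
    obtain ⟨w, hw⟩ : ∃ w, w = n₀ * u * n₀⁻¹ := ⟨_, rfl⟩
    rw [← hw]
    -- action on z
    have hz1 : n₀⁻¹ * z * n₀ ∈ Subgroup.zpowers z := hn₀zinv z (Subgroup.mem_zpowers z)
    obtain ⟨t, ht⟩ := (mem_powers_iff_mem_zpowers).mpr hz1
    simp only at ht
    have hwz : w * z * w⁻¹ = z := by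
      have h1 : u * (n₀⁻¹ * z * n₀) * u⁻¹ = n₀⁻¹ * z * n₀ := by
        rw [← ht, ← conj_pow]
        have : u * z * u⁻¹ = z := by rw [hzc u hu]; group
        rw [this]
      calc w * z * w⁻¹ = n₀ * (u * (n₀⁻¹ * z * n₀) * u⁻¹) * n₀⁻¹ := by rw [hw]; group
        _ = z := by rw [h1]; group
    -- action on v
    have hv₁ : n₀⁻¹ * v * n₀ ∈ A := hn₀inv v hvA
    have hc := hZ _ (hAP hv₁) u hu
    have hc2 := hn₀z _ hc
    obtain ⟨r, hr⟩ := (mem_powers_iff_mem_zpowers).mpr hc2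
    simp only at hr
    have hwv : w * v * w⁻¹ = z ^ r * v := by
      rw [hr, hw]
      group
    obtain ⟨u', hu', h1, h2⟩ := hF r
    have hcen : u'⁻¹ * w ∈ C := by
      rw [hCmem]
      intro a ha
      obtain ⟨i, j, rfl⟩ := hAgen a ha
      have h3 : (u'⁻¹ * w) * z * (u'⁻¹ * w)⁻¹ = z := by
        have : (u'⁻¹ * w) * z * (u'⁻¹ * w)⁻¹ = u'⁻¹ * (w * z * w⁻¹) * u' := by group
        rw [this, hwz]
        calc u'⁻¹ * z * u' = u'⁻¹ * (u' * z * u'⁻¹) * u' := by rw [h1]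
          _ = z := by group
      have h4 : (u'⁻¹ * w) * v * (u'⁻¹ * w)⁻¹ = v := by
        have : (u'⁻¹ * w) * v * (u'⁻¹ * w)⁻¹ = u'⁻¹ * (w * v * w⁻¹) * u' := by group
        rw [this, hwv, ← h2]
        group
      have h5 : (u'⁻¹ * w) * (z ^ i * v ^ j) * (u'⁻¹ * w)⁻¹ = z ^ i * v ^ j := by
        rw [cmul, ← conj_pow, ← conj_pow, h3, h4]
      calc z ^ i * v ^ j * (u'⁻¹ * w) = (u'⁻¹ * w) * (z ^ i * v ^ j) * (u'⁻¹ * w)⁻¹ * (u'⁻¹ * w) := by rw [h5]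
        _ = _ := by group
    exact ⟨u', hu', u'⁻¹ * w, hcen, by group⟩
  obtain ⟨Q, hQdef⟩ : ∃ Q, Q = (P : Subgroup G).map (MulAut.conj n₀).toMonoidHom := ⟨_, rfl⟩
  have hQp : IsPGroup p Q := by
    rw [hQdef]
    exact (P.isPGroup').map _
  have hQY : Q ≤ Y := by
    rw [hQdef]
    rintro _ ⟨u, hu, rfl⟩
    exact hQ u hu
  obtain ⟨y', hy', hy'2⟩ := H08.exists_conj_into_sylow_of_le Y P hPY Q hQp hQY
  obtain ⟨u₁, hu₁, c₁, hc₁, rfl⟩ := hy'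
  have hnP : ∀ x ∈ (P : Subgroup G), (c₁ * n₀) * x * (c₁ * n₀)⁻¹ ∈ (P : Subgroup G) := by
    intro x hx
    have h1 : n₀ * x * n₀⁻¹ ∈ Q := by
      rw [hQdef]
      exact ⟨x, hx, rfl⟩
    have h2 := hy'2 _ h1
    have h3 := (P : Subgroup G).mul_mem ((P : Subgroup G).mul_mem ((P : Subgroup G).inv_mem hu₁) h2) hu₁
    have e : u₁⁻¹ * (u₁ * c₁ * (n₀ * x * n₀⁻¹) * (u₁ * c₁)⁻¹) * u₁ = (c₁ * n₀) * x * (c₁ * n₀)⁻¹ := by group
    rw [e] at h3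
    exact h3
  have hnP' := conj_inv_mem _ _ hnP
  refine ⟨c₁ * n₀, ?_, fun a ha => ?_⟩
  · rw [Subgroup.mem_normalizer_iff]
    intro h
    constructor
    · exact hnP h
    · intro h2
      have := hnP' _ h2
      have e : (c₁ * n₀)⁻¹ * ((c₁ * n₀) * h * (c₁ * n₀)⁻¹) * (c₁ * n₀) = h := by group
      rw [e] at this
      exact this
  · have h1 := hn₀A a ha
    have h2 := (hCmem c₁).mp hc₁ _ h1
    calc (c₁ * n₀) * a * (c₁ * n₀)⁻¹ = c₁ * (n₀ * a * n₀⁻¹) * c₁⁻¹ := by group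
      _ = (n₀ * a * n₀⁻¹) * c₁ * c₁⁻¹ := by rw [h2]
      _ = _ := by group

end

end Cfsg.Agent.H14.ES
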