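import Mathlib
import Cfsg.Agent.Lib.H14.ES5
import Cfsg.Prelude.Def_Transfer

/-! The key lemma for extraspecial Sylow subgroups of order `p³`. -/

set_option autoImplicit false

namespace Cfsg.Agent.H14.ES

open Matrix Cfsg

variable {p : ℕ} [hp : Fact p.Prime]

section Transv

variable {A : Type*} [CommGroup A] [Finite A]

theorem exists_transv0 [Module (ZMod p) (Additive A)] (hexp : ∀ a : A, a ^ p = 1) (hcard : Nat.card A = p ^ 2)
    (z v : A) (hz : z ≠ 1) (hvz : v ∉ Subgroup.zpowers z) (r : ℕ) (hr : ¬ p ∣ r) :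
    ∃ φ : MulAut A, orderOf φ = p ∧ φ z = z * v ^ r ∧ φ v = v := by
  classical
  haveI : Module.Finite (ZMod p) (Additive A) := Module.Finite.of_finite
  have hfr : Module.finrank (ZMod p) (Additive A) = 2 := by
    have h1 := Module.natCard_eq_pow_finrank (K := ZMod p) (V := Additive A)
    rw [Nat.card_zmod] at h1
    have h2 : Nat.card (Additive A) = p ^ 2 := hcard
    rw [h2] at h1
    exact (Nat.pow_right_injective hp.out.two_le h1).symm
  have hz0 : Additive.ofMul z ≠ 0 := by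
    intro h
    exact hz (Additive.ofMul.injective h)
  have hli : LinearIndependent (ZMod p) ![Additive.ofMul z, Additive.ofMul v] := by
    rw [LinearIndependent.pair_iff]
    intro s t hst
    by_cases ht : t = 0
    · subst ht
      rw [zero_smul, add_zero] at hst
      exact ⟨(smul_eq_zero.mp hst).resolve_right hz0, rfl⟩
    · exfalso
      apply hvz
      have h1 : Additive.ofMul v = (-(t⁻¹ * s)) • Additive.ofMul z := by
        have h2 : t • Additive.ofMul v = (-s) • Additive.ofMul z := by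
          rw [neg_smul]
          exact eq_neg_of_add_eq_zero_right hst
        calc Additive.ofMul v = t⁻¹ • (t • Additive.ofMul v) := by rw [smul_smul, inv_mul_cancel₀ ht, one_smul]
          _ = _ := by rw [h2, smul_smul]; ring_nf
      have h3 : (-(t⁻¹ * s)) • Additive.ofMul z = ((-(t⁻¹ * s)).val : ℕ) • Additive.ofMul z := by
        rw [← Nat.cast_smul_eq_nsmul (ZMod p), ZMod.natCast_zmod_val]
      rw [h3, ← ofMul_pow] at h1
      have h4 : v = z ^ (-(t⁻¹ * s)).val := Additive.ofMul.injective h1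
      rw [h4]
      exact Subgroup.npow_mem_zpowers z _
  let b : Module.Basis (Fin 2) (ZMod p) (Additive A) :=
    basisOfLinearIndependentOfCardEqFinrank hli (by rw [hfr]; rfl)
  have hb0 : b 0 = Additive.ofMul z := by
    simp [b]
  have hb1 : b 1 = Additive.ofMul v := by
    simp [b]
  let χ : Additive A →ₗ[ZMod p] Additive A := (b.coord 0).smulRight ((r : ZMod p) • Additive.ofMul v)
  have hχ : ∀ x, χ x = (b.coord 0 x) • ((r : ZMod p) • Additive.ofMul v) := fun x => rfl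
  have hχ1 : χ (Additive.ofMul v) = 0 := by
    rw [hχ, ← hb1]
    simp
  have hχz : χ (Additive.ofMul z) = (r : ZMod p) • Additive.ofMul v := by
    rw [hχ, ← hb0]
    simp [hb1]
  have hχχ : ∀ x, χ (χ x) = 0 := by
    intro x
    rw [hχ x, map_smul, map_smul, hχ1, smul_zero, smul_zero]
  let φ : MulAut A :=
    { toFun := fun a => a * Additive.toMul (χ (Additive.ofMul a))
      invFun := fun a => a * (Additive.toMul (χ (Additive.ofMul a)))⁻¹
      left_inv := by
        intro a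
        apply Additive.ofMul.injective
        simp only [ofMul_mul, ofMul_inv, ofMul_toMul, map_add, hχχ, add_zero]
        abel
      right_inv := by
        intro a
        apply Additive.ofMul.injective
        simp only [ofMul_mul, ofMul_inv, ofMul_toMul, map_add, map_neg, hχχ, neg_zero, add_zero]
        abel
      map_mul' := by
        intro a c
        apply Additive.ofMul.injective
        simp only [ofMul_mul, ofMul_toMul, map_add]
        abel }
  have hφ : ∀ a, φ a = a * Additive.toMul (χ (Additive.ofMul a)) := fun a => rfl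
  have hpow : ∀ k : ℕ, ∀ a, (φ ^ k) a = a * (Additive.toMul (χ (Additive.ofMul a))) ^ k := by
    intro k a
    induction k with
    | zero => simp
    | succ k ih =>
      rw [pow_succ', MulAut.mul_apply, ih, hφ]
      apply Additive.ofMul.injective
      simp only [ofMul_mul, ofMul_pow, ofMul_toMul, map_add, map_nsmul, hχχ, smul_zero, add_zero, add_smul, one_smul]
      abel
  have hvord : v ≠ 1 := by
    intro h
    apply hvz
    rw [h]
    exact Subgroup.one_mem _
  have hφz : φ z = z * v ^ r := by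
    rw [hφ, hχz, Nat.cast_smul_eq_nsmul (ZMod p)]
    rfl
  have hφv : φ v = v := by
    rw [hφ, hχ1]
    exact mul_one v
  refine ⟨φ, orderOf_eq_prime ?_ ?_, hφz, hφv⟩
  · ext a
    rw [hpow, hexp, mul_one]
    rfl
  · intro h1
    have h2 : φ z = z := by rw [h1]; rfl
    rw [hφz] at h2
    have h3 : v ^ r = 1 := by simpa using h2
    have h4 := orderOf_dvd_of_pow_eq_one h3
    have h5 : orderOf v = p := orderOf_eq_prime (hexp v) hvord
    rw [h5] at h4
    exact hr h4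

theorem exists_transv (hexp : ∀ a : A, a ^ p = 1) (hcard : Nat.card A = p ^ 2)
    (z v : A) (hz : z ≠ 1) (hvz : v ∉ Subgroup.zpowers z) (r : ℕ) (hr : ¬ p ∣ r) :
    ∃ φ : MulAut A, orderOf φ = p ∧ φ z = z * v ^ r ∧ φ v = v := by
  letI : Module (ZMod p) (Additive A) := AddCommGroup.zmodModule (fun x => by
    apply Additive.toMul.injective
    simpa using hexp x.toMul)
  exact exists_transv0 hexp hcard z v hz hvz r hr

end Transv

section Main

variable {G : Type*} [Group G] [Finite G]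

theorem ex_facts (P : Sylow p G) (hE : IsExtraspecial p ↥(P : Subgroup G)) (hcard : Nat.card ↥(P : Subgroup G) = p ^ 3)
    (hexp : Monoid.exponent ↥(P : Subgroup G) = p) :
    (∀ a : ↥(P : Subgroup G), a ^ p = 1) ∧ (∀ a b : ↥(P : Subgroup G), a * b * a⁻¹ * b⁻¹ ∈ Subgroup.center ↥(P : Subgroup G)) ∧
      Nat.card (↥(P : Subgroup G) ⧸ Subgroup.center ↥(P : Subgroup G)) = p ^ 2 := by
  obtain ⟨⟨-, -, hcm⟩, hzc⟩ := hE
  refine ⟨fun a => by
    have := Monoid.pow_exponent_eq_one a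
    rwa [hexp] at this, fun a b => ?_, ?_⟩
  · rw [← hcm, commutator_def]
    exact Subgroup.commutator_mem_commutator (Subgroup.mem_top a) (Subgroup.mem_top b)
  · have h1 := Subgroup.card_eq_card_quotient_mul_card_subgroup (Subgroup.center ↥(P : Subgroup G))
    rw [hcard, hzc] at h1
    have h2 : p ^ 3 = p ^ 2 * p := by ring
    rw [h2] at h1
    exact (Nat.eq_of_mul_eq_mul_right hp.out.pos h1).symm

theorem mem_of_pelem (P : Sylow p G) (x : G) (hx : x ∈ Subgroup.normalizer ((P : Subgroup G) : Set G)) (b : ℕ)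
    (hb : x ^ (p ^ b) = 1) : x ∈ (P : Subgroup G) := by
  have h1 : IsPGroup p (Subgroup.zpowers x) := by
    rw [IsPGroup.iff_orderOf]
    rintro ⟨y, hy⟩
    obtain ⟨k, rfl⟩ := Subgroup.mem_zpowers_iff.mp hy
    have h2 : (x ^ k) ^ (p ^ b) = 1 := by
      rw [← zpow_natCast, ← _root_.zpow_mul, mul_comm, _root_.zpow_mul, zpow_natCast, hb, _root_.one_zpow]
    obtain ⟨c, -, hc⟩ := (Nat.dvd_prime_pow hp.out).mp (orderOf_dvd_of_pow_eq_one h2)
    exact ⟨c, by rw [← Subgroup.orderOf_coe]; exact hc⟩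
  have h2 : IsPGroup p ↥((P : Subgroup G) ⊔ Subgroup.zpowers x) :=
    IsPGroup.to_sup_of_normal_left' P.isPGroup' h1 (Subgroup.zpowers_le.mpr hx)
  have h3 := P.is_maximal' h2 le_sup_left
  rw [← h3]
  exact (le_sup_right : Subgroup.zpowers x ≤ _) (Subgroup.mem_zpowers x)

/-- the group `⟨z, v⟩` -/
def zvGroup (z v : G) (hc : Commute z v) (hz : z ^ p = 1) (hv : v ^ p = 1) : Subgroup G where
  carrier := {x | ∃ i j : ℕ, x = z ^ i * v ^ j}
  mul_mem' := by
    rintro _ _ ⟨i, j, rfl⟩ ⟨k, l, rfl⟩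
    refine ⟨i + k, j + l, ?_⟩
    have h1 : Commute (v ^ j) (z ^ k) := (hc.pow_pow k j).symm
    rw [pow_add, pow_add]
    calc z ^ i * v ^ j * (z ^ k * v ^ l) = z ^ i * (v ^ j * z ^ k) * v ^ l := by simp only [mul_assoc]
      _ = z ^ i * (z ^ k * v ^ j) * v ^ l := by rw [h1.eq]
      _ = _ := by simp only [mul_assoc]
  one_mem' := ⟨0, 0, by simp⟩
  inv_mem' := by
    rintro _ ⟨i, j, rfl⟩
    refine ⟨(p - 1) * i, (p - 1) * j, ?_⟩
    have hi : z ^ ((p - 1) * i) = (z ^ i)⁻¹ := by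
      apply eq_inv_of_mul_eq_one_left
      rw [← pow_add, show (p - 1) * i + i = p * i by
        have := hp.out.one_lt
        obtain ⟨q, rfl⟩ : ∃ q, p = q + 1 := ⟨p - 1, by omega⟩
        simp
        ring, pow_mul, hz, one_pow]
    have hj : v ^ ((p - 1) * j) = (v ^ j)⁻¹ := by
      apply eq_inv_of_mul_eq_one_left
      rw [← pow_add, show (p - 1) * j + j = p * j by
        have := hp.out.one_lt
        obtain ⟨q, rfl⟩ : ∃ q, p = q + 1 := ⟨p - 1, by omega⟩
        simp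
        ring, pow_mul, hv, one_pow]
    rw [hi, hj, _root_.mul_inv_rev]
    exact ((hc.pow_pow i j).inv_inv).symm.eq

section Rep

variable (P : Sylow p G)
  (M : Subgroup.normalizer ((P : Subgroup G) : Set G) →* GL (Fin 2) (ZMod p))
  (π : ↥(P : Subgroup G) → Fin 2 → ZMod p)

theorem hcop_of_rep (hadd : ∀ a b, π (a * b) = π a + π b) (hker : ∀ a, π a = 0 ↔ a ∈ Subgroup.center ↥(P : Subgroup G))
    (hsurj : Function.Surjective π)
    (hint : ∀ g a, π ((P : Subgroup G).normalizerMonoidHom g a) = (M g : Matrix (Fin 2) (Fin 2) (ZMod p)) *ᵥ π a)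
    (hcomm : ∀ a b : ↥(P : Subgroup G), a * b * a⁻¹ * b⁻¹ ∈ Subgroup.center ↥(P : Subgroup G))
    (g : Subgroup.normalizer ((P : Subgroup G) : Set G)) : (orderOf (M g)).Coprime p := by
  obtain ⟨b, l, hl, hord⟩ := Nat.exists_eq_pow_mul_and_not_dvd (orderOf_pos g).ne' p hp.out.ne_one
  have hx : (g ^ l) ^ (p ^ b) = 1 := by
    rw [← pow_mul, mul_comm, ← hord, pow_orderOf_eq_one]
  have hxP : ((g ^ l : Subgroup.normalizer ((P : Subgroup G) : Set G)) : G) ∈ (P : Subgroup G) :=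
    mem_of_pelem P _ (g ^ l).2 b (by
      have := congrArg Subtype.val hx
      simpa using this)
  have hM1 : M (g ^ l) = 1 := by
    have hact : ∀ a : ↥(P : Subgroup G), π ((P : Subgroup G).normalizerMonoidHom (g ^ l) a) = π a := by
      intro a
      have h1 : (P : Subgroup G).normalizerMonoidHom (g ^ l) a = (⟨_, hxP⟩ * a * (⟨_, hxP⟩ : ↥(P : Subgroup G))⁻¹ * a⁻¹) * a := by
        rw [inv_mul_cancel_right]
        apply Subtype.ext
        rfl
      rw [h1, hadd, (hker _).mpr (hcomm _ _), zero_add]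
    have hw : ∀ w, ((M (g ^ l) : GL (Fin 2) (ZMod p)) : Matrix (Fin 2) (Fin 2) (ZMod p)) *ᵥ w = w := by
      intro w
      obtain ⟨a, rfl⟩ := hsurj w
      rw [← hint, hact]
    apply Units.ext
    rw [Units.val_one]
    apply Matrix.mulVec_injective
    funext w
    rw [hw, Matrix.one_mulVec]
  have h4 : (M g) ^ l = 1 := by rw [← map_pow, hM1]
  have h5 := orderOf_dvd_of_pow_eq_one h4
  refine Nat.Coprime.symm ((Nat.Prime.coprime_iff_not_dvd hp.out).mpr fun h => hl (h.trans h5))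

theorem key (hR1 : ∀ a : ↥(P : Subgroup G), a ^ p = 1)
    (hcomm : ∀ a b : ↥(P : Subgroup G), a * b * a⁻¹ * b⁻¹ ∈ Subgroup.center ↥(P : Subgroup G))
    (hzcard : Nat.card (Subgroup.center ↥(P : Subgroup G)) = p)
    (hadd : ∀ a b, π (a * b) = π a + π b) (hker : ∀ a, π a = 0 ↔ a ∈ Subgroup.center ↥(P : Subgroup G))
    (hint : ∀ g a, π ((P : Subgroup G).normalizerMonoidHom g a) = (M g : Matrix (Fin 2) (Fin 2) (ZMod p)) *ᵥ π a)
    (v y z : ↥(P : Subgroup G)) (hz : z = v * y * v⁻¹ * y⁻¹) (hne : z ≠ 1)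
    (hF₂ : ∀ r : ℕ, ¬ p ∣ r → ∃ g : G, g * (z : G) * g⁻¹ = z * (v : G) ^ r ∧ g * (v : G) * g⁻¹ = v)
    (l : ZMod p) (hl : l ≠ 0) :
    π v ≠ 0 ∧ ∃ n : Subgroup.normalizer ((P : Subgroup G) : Set G),
      (∃ μ : ZMod p, (M n : Matrix (Fin 2) (Fin 2) (ZMod p)) *ᵥ π v = μ • π v) ∧
      ∀ k, Scal (M n ^ k) → l ^ (3 * k) = 1 := by
  classical
  have hzc : z ∈ Subgroup.center ↥(P : Subgroup G) := by
    rw [hz]
    exact hcomm v y
  have hzo : orderOf z = p := orderOf_eq_prime (hR1 z) hne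
  have hcenter : Subgroup.zpowers z = Subgroup.center ↥(P : Subgroup G) := by
    refine Subgroup.eq_of_le_of_card_ge (Subgroup.zpowers_le.mpr hzc) ?_
    rw [Nat.card_zpowers, hzo, hzcard]
  have hzcm := Subgroup.mem_center_iff.mp hzc
  have hcG : Commute (z : G) (v : G) := by
    have := hzcm v
    exact (congrArg Subtype.val this).symm
  have hzG : (z : G) ^ p = 1 := by
    have := congrArg Subtype.val (hR1 z)
    simpa using this
  have hvG : (v : G) ^ p = 1 := by
    have := congrArg Subtype.val (hR1 v)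
    simpa using this
  obtain ⟨A, hA⟩ : ∃ A, A = zvGroup (z : G) (v : G) hcG hzG hvG := ⟨_, rfl⟩
  have hAmem : ∀ x, x ∈ A ↔ ∃ i j : ℕ, x = (z : G) ^ i * (v : G) ^ j := by
    intro x
    rw [hA]
    rfl
  have hzA : (z : G) ∈ A := (hAmem _).mpr ⟨1, 0, by simp⟩
  have hvA : (v : G) ∈ A := (hAmem _).mpr ⟨0, 1, by simp⟩
  have hAP : A ≤ (P : Subgroup G) := by
    intro x hx
    obtain ⟨i, j, rfl⟩ := (hAmem x).mp hx
    exact (P : Subgroup G).mul_mem ((P : Subgroup G).pow_mem z.2 i) ((P : Subgroup G).pow_mem v.2 j)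
  have hZ : ∀ x ∈ (P : Subgroup G), ∀ u ∈ (P : Subgroup G), u * x * u⁻¹ * x⁻¹ ∈ Subgroup.zpowers (z : G) := by
    intro x hx u hu
    have h1 := hcomm ⟨u, hu⟩ ⟨x, hx⟩
    rw [← hcenter] at h1
    obtain ⟨k, hk⟩ := Subgroup.mem_zpowers_iff.mp h1
    refine Subgroup.mem_zpowers_iff.mpr ⟨k, ?_⟩
    have := congrArg Subtype.val hk
    simpa using this
  have hzcG : ∀ u ∈ (P : Subgroup G), u * (z : G) = z * u := by
    intro u hu
    have := hzcm ⟨u, hu⟩
    exact congrArg Subtype.val this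
  have hyv : y⁻¹ * v * y = z * v := by
    have h2 : v * y = y * (z * v) := by
      calc v * y = (v * y * v⁻¹ * y⁻¹) * y * v := by group
        _ = z * y * v := by rw [← hz]
        _ = (y * z) * v := by rw [hzcm y]
        _ = y * (z * v) := by rw [mul_assoc]
    calc y⁻¹ * v * y = y⁻¹ * (v * y) := mul_assoc _ _ _
      _ = y⁻¹ * (y * (z * v)) := by rw [h2]
      _ = z * v := by group
  have hFR : ∀ r : ℕ, (y⁻¹) ^ r * v * ((y⁻¹) ^ r)⁻¹ = z ^ r * v := by
    intro r
    have e : ∀ w : ↥(P : Subgroup G), (y⁻¹ * w) * v * (y⁻¹ * w)⁻¹ = y⁻¹ * (w * v * w⁻¹) * y := fun w => by group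
    have hcp : ∀ k : ℕ, ∀ x : ↥(P : Subgroup G), x * z ^ k = z ^ k * x := by
      intro k x
      exact (((Commute.symm (hzcm x)).pow_left k).symm).eq
    induction r with
    | zero => simp
    | succ r ih =>
      rw [pow_succ', e, ih]
      calc y⁻¹ * (z ^ r * v) * y = (y⁻¹ * z ^ r) * v * y := by simp only [mul_assoc]
        _ = (z ^ r * y⁻¹) * v * y := by rw [hcp]
        _ = z ^ r * (y⁻¹ * v * y) := by simp only [mul_assoc]
        _ = z ^ (r + 1) * v := by rw [hyv, pow_succ, mul_assoc]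
  have hF : ∀ r : ℕ, ∃ u ∈ (P : Subgroup G), u * (z : G) * u⁻¹ = z ∧ u * (v : G) * u⁻¹ = (z : G) ^ r * v := by
    intro r
    refine ⟨(((y⁻¹) ^ r : ↥(P : Subgroup G)) : G), Subtype.coe_prop _, ?_, ?_⟩
    · rw [hzcG _ (Subtype.coe_prop _)]
      group
    · have := congrArg Subtype.val (hFR r)
      simpa using this
  -- parameters
  obtain ⟨l₀, hl₀⟩ : ∃ l₀, l₀ = l.val := ⟨_, rfl⟩
  have hlc : (l₀ : ZMod p) = l := by
    rw [hl₀, ZMod.natCast_zmod_val]
  have hl₀pos : 1 ≤ l₀ := by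
    by_contra h
    have h0 : l₀ = 0 := by omega
    rw [h0, Nat.cast_zero] at hlc
    exact hl hlc.symm
  obtain ⟨b₀, rfl⟩ : ∃ b₀, l₀ = 1 + b₀ := ⟨l₀ - 1, by omega⟩
  have hb₀c : (b₀ : ZMod p) = l - 1 := by
    rw [← hlc]
    push_cast
    ring
  obtain ⟨a₀, ha₀⟩ : ∃ a₀, a₀ = (-l⁻¹).val := ⟨_, rfl⟩
  have ha₀c : (a₀ : ZMod p) = -l⁻¹ := by
    rw [ha₀, ZMod.natCast_zmod_val]
  have ha₀d : ¬ p ∣ a₀ := by
    intro h
    have h1 := (ZMod.natCast_eq_zero_iff a₀ p).mpr h
    rw [ha₀c, neg_eq_zero] at h1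
    exact inv_ne_zero hl h1
  have h1d : ¬ p ∣ 1 := by
    intro h
    exact hp.out.one_lt.ne' (Nat.dvd_one.mp h)
  obtain ⟨g₁, h11, h12⟩ := hF₂ a₀ ha₀d
  obtain ⟨g₃, h31, h32⟩ := hF₂ 1 h1d
  rw [pow_one] at h31
  obtain ⟨u, hu, h21, h22⟩ := hF b₀
  have hdiv : p ∣ a₀ * (1 + b₀) + 1 := by
    rw [← ZMod.natCast_eq_zero_iff]
    push_cast
    rw [ha₀c, hb₀c]
    field_simp
    ring
  obtain ⟨e1, e2⟩ := stage0 hcG hvG g₁ u g₃ a₀ b₀ h11 h12 h21 h22 h31 h32 hdiv
  obtain ⟨n₀, hn₀⟩ : ∃ n₀, n₀ = g₁ * u * g₃ := ⟨_, rfl⟩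
  rw [← hn₀] at e1 e2
  obtain ⟨n, hn, hna⟩ := stage1 P A (z : G) (v : G) hAP hzA hvA (fun a ha => (hAmem a).mp ha) hZ hzcG hF n₀
    (by
      intro a ha
      obtain ⟨i, j, rfl⟩ := (hAmem a).mp ha
      rw [cmul, ← conj_pow, ← conj_pow, e1, e2]
      exact A.mul_mem (A.pow_mem (A.pow_mem hzA _) _) (A.pow_mem (A.mul_mem (A.pow_mem hzA _) (A.pow_mem hvA _)) _))
    (by
      intro a ha
      obtain ⟨k, rfl⟩ := Subgroup.mem_zpowers_iff.mp ha
      rw [← conj_zpow, e1]
      exact Subgroup.zpow_mem _ (Subgroup.npow_mem_zpowers _ _) _)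
  have hn1 : (P : Subgroup G).normalizerMonoidHom ⟨n, hn⟩ z = z ^ (1 + b₀) := by
    apply Subtype.ext
    have h1 := hna (z : G) hzA
    rw [e1] at h1
    have h2 : (((P : Subgroup G).normalizerMonoidHom ⟨n, hn⟩ z : ↥(P : Subgroup G)) : G) = n * (z : G) * n⁻¹ := rfl
    rw [h2, h1]
    simp
  have hn2 : (P : Subgroup G).normalizerMonoidHom ⟨n, hn⟩ v = z ^ b₀ * v ^ (a₀ * b₀ + 1) := by
    apply Subtype.ext
    have h1 := hna (v : G) hvA
    rw [e2] at h1
    have h2 : (((P : Subgroup G).normalizerMonoidHom ⟨n, hn⟩ v : ↥(P : Subgroup G)) : G) = n * (v : G) * n⁻¹ := rfl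
    rw [h2, h1]
    simp
  have hle : ((a₀ * b₀ + 1 : ℕ) : ZMod p) * ((1 + b₀ : ℕ) : ZMod p) = 1 := by
    push_cast
    rw [ha₀c, hb₀c]
    field_simp
    ring
  obtain ⟨h1, h2, h3⟩ := stage2 ((P : Subgroup G).normalizerMonoidHom) M π hadd hker hint z v y hz hzc hzo ⟨n, hn⟩ (1 + b₀)
    (a₀ * b₀ + 1) b₀ hn1 hn2 hle
  refine ⟨h1, ⟨n, hn⟩, h2, fun k hk => ?_⟩
  rw [← hlc]
  exact h3 k hk

end Rep

end Main

end Cfsg.Agent.H14.ES
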