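import Mathlib
import Cfsg.Agent.Lib.H14.ES6
import Cfsg.Agent.Lib.H09.KSeq2
import Cfsg.Agent.Lib.H18.ExtraCard

/-! Final arguments for extraspecial Sylow subgroups of order `p³`. -/

set_option autoImplicit false

namespace Cfsg.Agent.H14.ES

open Matrix Cfsg

variable {p : ℕ} [hp : Fact p.Prime]

theorem exists_prim : ∃ l : ZMod p, l ≠ 0 ∧ ∀ k : ℕ, l ^ k = 1 → (p - 1) ∣ k := by
  classical
  obtain ⟨g, hg⟩ := IsCyclic.exists_generator (α := (ZMod p)ˣ)
  have hord : orderOf g = p - 1 := by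
    rw [orderOf_eq_card_of_forall_mem_zpowers hg, Nat.card_eq_fintype_card, ZMod.card_units p]
  refine ⟨(g : ZMod p), g.ne_zero, fun k hk => ?_⟩
  rw [← hord]
  apply orderOf_dvd_of_pow_eq_one
  apply Units.ext
  rw [Units.val_pow_eq_pow_val, hk, Units.val_one]

section Main

variable {G : Type*} [Group G] [Finite G]

/-- the entries of a product with a vector -/
theorem mv0 (A : Matrix (Fin 2) (Fin 2) (ZMod p)) (w : Fin 2 → ZMod p) : (A *ᵥ w) 0 = A 0 0 * w 0 + A 0 1 * w 1 := by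
  simp [Matrix.mulVec, dotProduct, Fin.sum_univ_two]

theorem mv1 (A : Matrix (Fin 2) (Fin 2) (ZMod p)) (w : Fin 2 → ZMod p) : (A *ᵥ w) 1 = A 1 0 * w 0 + A 1 1 * w 1 := by
  simp [Matrix.mulVec, dotProduct, Fin.sum_univ_two]

variable (P : Sylow p G)

theorem center_le_line (hR1 : ∀ a : ↥(P : Subgroup G), a ^ p = 1) (hcard : Nat.card ↥(P : Subgroup G) = p ^ 3)
    (hzcard : Nat.card (Subgroup.center ↥(P : Subgroup G)) = p) (A : Subgroup G) (hAP : A ≤ (P : Subgroup G))
    (hAcard : Nat.card A = p ^ 2) (c : ↥(P : Subgroup G)) (hc : c ∈ Subgroup.center ↥(P : Subgroup G)) : (c : G) ∈ A := by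
  have hpg : IsPGroup p ↥(P : Subgroup G) := P.isPGroup'
  have h1 : Nat.card (A.subgroupOf (P : Subgroup G)) = p ^ 2 := by
    rw [← hAcard]
    exact Nat.card_congr (Subgroup.subgroupOfEquivOfLe hAP).toEquiv
  have hidx : (A.subgroupOf (P : Subgroup G)).index = p := by
    have h2 := Subgroup.card_mul_index (A.subgroupOf (P : Subgroup G))
    rw [h1, hcard] at h2
    have h3 : p ^ 3 = p ^ 2 * p := by ring
    rw [h3] at h2
    exact Nat.eq_of_mul_eq_mul_left (pow_pos hp.out.pos 2) h2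
  haveI hn : (A.subgroupOf (P : Subgroup G)).Normal := H18.normal_of_index_prime' hpg hidx
  have hne : A.subgroupOf (P : Subgroup G) ≠ ⊥ := by
    intro h0
    rw [h0, Subgroup.card_bot] at h1
    have := hp.out.one_lt
    have h5 : 1 < p ^ 2 := Nat.one_lt_pow (by norm_num) this
    omega
  have h2 := H09.normal_inf_center_ne_bot hpg (A.subgroupOf (P : Subgroup G)) hne
  haveI := (Subgroup.nontrivial_iff_ne_bot _).mpr h2
  obtain ⟨d, hd, hd1⟩ := Subgroup.exists_ne_one_of_nontrivial (A.subgroupOf (P : Subgroup G) ⊓ Subgroup.center ↥(P : Subgroup G))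
  have hdo : orderOf d = p := orderOf_eq_prime (hR1 d) hd1
  have heq : Subgroup.zpowers d = Subgroup.center ↥(P : Subgroup G) := by
    refine Subgroup.eq_of_le_of_card_ge (Subgroup.zpowers_le.mpr hd.2) ?_
    rw [Nat.card_zpowers, hdo, hzcard]
  have hle : Subgroup.center ↥(P : Subgroup G) ≤ A.subgroupOf (P : Subgroup G) := by
    rw [← heq, Subgroup.zpowers_le]
    exact hd.1
  exact Subgroup.mem_subgroupOf.mp (hle hc)

theorem exists_noncentral (hzcard : Nat.card (Subgroup.center ↥(P : Subgroup G)) = p) (A : Subgroup G) (hAP : A ≤ (P : Subgroup G))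
    (hAcard : Nat.card A = p ^ 2) : ∃ v : ↥(P : Subgroup G), (v : G) ∈ A ∧ v ∉ Subgroup.center ↥(P : Subgroup G) := by
  by_contra hcon
  push Not at hcon
  have h1 : A.subgroupOf (P : Subgroup G) ≤ Subgroup.center ↥(P : Subgroup G) := fun v hv => hcon v (Subgroup.mem_subgroupOf.mp hv)
  have h2 := Subgroup.card_le_of_le h1
  have h3 : Nat.card (A.subgroupOf (P : Subgroup G)) = p ^ 2 := by
    rw [← hAcard]
    exact Nat.card_congr (Subgroup.subgroupOfEquivOfLe hAP).toEquiv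
  rw [h3, hzcard] at h2
  have := hp.out.one_lt
  nlinarith

theorem exists_comm (v : ↥(P : Subgroup G)) (hv : v ∉ Subgroup.center ↥(P : Subgroup G)) :
    ∃ y z : ↥(P : Subgroup G), z = v * y * v⁻¹ * y⁻¹ ∧ z ≠ 1 := by
  rw [Subgroup.mem_center_iff] at hv
  push Not at hv
  obtain ⟨y, hy⟩ := hv
  refine ⟨y, _, rfl, fun h => hy ?_⟩
  have h2 : v * y = y * v := by
    calc v * y = (v * y * v⁻¹ * y⁻¹) * (y * v) := by group
      _ = y * v := by rw [h, one_mul]
  exact h2.symm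

/-- transvections from the hypothesis of S3054 -/
theorem transv_of_SL (hR1 : ∀ a : ↥(P : Subgroup G), a ^ p = 1) (A : Subgroup G) (hAP : A ≤ (P : Subgroup G))
    (hAcard : Nat.card A = p ^ 2)
    (hSL : ∀ φ : MulAut ↥A, orderOf φ = p → ∃ g : G, ∀ a : ↥A, (φ a : G) = g * (a : G) * g⁻¹)
    (z v : ↥(P : Subgroup G)) (hzA : (z : G) ∈ A) (hvA : (v : G) ∈ A) (hz1 : z ≠ 1) (hzc : z ∈ Subgroup.center ↥(P : Subgroup G))
    (hvc : v ∉ Subgroup.center ↥(P : Subgroup G)) (r : ℕ) (hr : ¬ p ∣ r) :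
    ∃ g : G, g * (z : G) * g⁻¹ = z * (v : G) ^ r ∧ g * (v : G) * g⁻¹ = v := by
  letI : CommGroup ↥A := { (inferInstance : Group ↥A) with mul_comm := IsPGroup.commutative_of_card_eq_prime_sq hAcard }
  have hexp : ∀ a : ↥A, a ^ p = 1 := by
    intro a
    have h1 := congrArg Subtype.val (hR1 ⟨a, hAP a.2⟩)
    apply Subtype.ext
    simpa using h1
  obtain ⟨φ, hφ1, hφ2, hφ3⟩ := exists_transv (p := p) hexp hAcard (⟨z, hzA⟩ : ↥A) (⟨v, hvA⟩ : ↥A)
    (by
      intro h
      apply hz1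
      apply Subtype.ext
      exact congrArg (Subtype.val : ↥A → G) h)
    (by
      intro h
      apply hvc
      obtain ⟨k, hk⟩ := Subgroup.mem_zpowers_iff.mp h
      have h1 : z ^ k = v := by
        apply Subtype.ext
        have := congrArg Subtype.val hk
        simpa using this
      rw [← h1]
      exact Subgroup.zpow_mem _ hzc k) r hr
  obtain ⟨g, hg⟩ := hSL φ hφ1
  refine ⟨g, ?_, ?_⟩
  · rw [← hg ⟨z, hzA⟩, hφ2]
    rfl
  · rw [← hg ⟨v, hvA⟩, hφ3]

theorem lines_distinct (hzcard : Nat.card (Subgroup.center ↥(P : Subgroup G)) = p) (A B : Subgroup G)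
    (hAcard : Nat.card A = p ^ 2) (hBcard : Nat.card B = p ^ 2)
    (hAc : ∀ c ∈ Subgroup.center ↥(P : Subgroup G), (c : G) ∈ A) (hBc : ∀ c ∈ Subgroup.center ↥(P : Subgroup G), (c : G) ∈ B)
    (v : ↥(P : Subgroup G)) (hvc : v ∉ Subgroup.center ↥(P : Subgroup G)) (hvA : (v : G) ∈ A) (hvB : (v : G) ∈ B) : A = B := by
  obtain ⟨K, hK⟩ : ∃ K, K = A ⊓ B := ⟨_, rfl⟩
  have hKA : K ≤ A := by rw [hK]; exact inf_le_left
  have hKB : K ≤ B := by rw [hK]; exact inf_le_right
  have hd : Nat.card K ∣ p ^ 2 := by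
    rw [← hAcard]
    exact Subgroup.card_dvd_of_le hKA
  obtain ⟨c, hc2, hc⟩ := (Nat.dvd_prime_pow hp.out).mp hd
  have hZle : (Subgroup.center ↥(P : Subgroup G)).map (P : Subgroup G).subtype ≤ K := by
    rintro _ ⟨c, hc, rfl⟩
    rw [hK]
    exact ⟨hAc c hc, hBc c hc⟩
  have hZcard : Nat.card ((Subgroup.center ↥(P : Subgroup G)).map (P : Subgroup G).subtype) = p := by
    rw [Subgroup.card_map_of_injective (P : Subgroup G).subtype_injective, hzcard]
  have hc2' : c = 2 := by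
    by_contra hne
    have hc1 : c ≤ 1 := by omega
    have hle : Nat.card K ≤ Nat.card ((Subgroup.center ↥(P : Subgroup G)).map (P : Subgroup G).subtype) := by
      rw [hc, hZcard]
      calc p ^ c ≤ p ^ 1 := Nat.pow_le_pow_right hp.out.pos hc1
        _ = p := pow_one p
    have heq := Subgroup.eq_of_le_of_card_ge hZle hle
    have hvK : (v : G) ∈ K := by
      rw [hK]
      exact ⟨hvA, hvB⟩
    rw [← heq] at hvK
    obtain ⟨c', hc', hcv⟩ := hvK
    have : c' = v := Subtype.ext hcv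
    rw [this] at hc'
    exact hvc hc'
  have h1 : K = A := Subgroup.eq_of_le_of_card_ge hKA (by rw [hAcard, hc, hc2'])
  have h2 : K = B := Subgroup.eq_of_le_of_card_ge hKB (by rw [hBcard, hc, hc2'])
  rw [← h1, h2]

end Main

end Cfsg.Agent.H14.ES
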