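import Mathlib
import Cfsg.Agent.Lib.H14.ES7
import Cfsg.Agent.Lib.H08.Basic

/-! Final arguments for extraspecial Sylow subgroups of order `p³`: conjugate elements. -/

set_option autoImplicit false

namespace Cfsg.Agent.H14.ES

open Matrix Cfsg

variable {p : ℕ} [hp : Fact p.Prime]

section Main

variable {G : Type*} [Group G] [Finite G]

variable (P : Sylow p G)

/-- transvections from the hypothesis of S3055 -/
theorem transv_of_conj (hR1 : ∀ a : ↥(P : Subgroup G), a ^ p = 1)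
    (hcomm : ∀ a b : ↥(P : Subgroup G), a * b * a⁻¹ * b⁻¹ ∈ Subgroup.center ↥(P : Subgroup G))
    (hzcard : Nat.card (Subgroup.center ↥(P : Subgroup G)) = p)
    (hconj : ∀ x y : ↥(P : Subgroup G), x ≠ 1 → y ≠ 1 → ∃ g : G, g * (x : G) * g⁻¹ = (y : G))
    (v z : ↥(P : Subgroup G)) (hvc : v ∉ Subgroup.center ↥(P : Subgroup G))
    (hzc : z ∈ Subgroup.center ↥(P : Subgroup G)) (hz1 : z ≠ 1) (r : ℕ) (hr : ¬ p ∣ r) :
    ∃ g : G, g * (z : G) * g⁻¹ = z * (v : G) ^ r ∧ g * (v : G) * g⁻¹ = v := by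
  classical
  have hv1 : v ≠ 1 := fun h => hvc (h ▸ one_mem _)
  obtain ⟨t, ht⟩ := hconj v z hv1 hz1
  have hzcm := Subgroup.mem_center_iff.mp hzc
  have hcG : Commute (z : G) (v : G) := ((congrArg Subtype.val (hzcm v))).symm
  have hzp : (z : G) ^ p = 1 := by
    have := congrArg Subtype.val (hR1 z)
    simpa using this
  have hvp : (v : G) ^ p = 1 := by
    have := congrArg Subtype.val (hR1 v)
    simpa using this
  obtain ⟨z', hz'⟩ : ∃ z', z' = t * (z : G) * t⁻¹ := ⟨_, rfl⟩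
  have hz'p : z' ^ p = 1 := by
    rw [hz', conj_pow, hzp]
    simp
  have hc' : Commute z' (z : G) := by
    have := hcG.conj t
    rwa [ht, ← hz'] at this
  obtain ⟨Q, hQ⟩ : ∃ Q, Q = zvGroup z' (z : G) hc' hz'p hzp := ⟨_, rfl⟩
  have hQmem : ∀ x, x ∈ Q ↔ ∃ i j : ℕ, x = z' ^ i * (z : G) ^ j := by
    intro x
    rw [hQ]
    rfl
  have hQp : IsPGroup p Q := by
    intro x
    refine ⟨1, ?_⟩
    apply Subtype.ext
    obtain ⟨i, j, hx⟩ := (hQmem x).mp x.2
    have h2 : (x : G) ^ p = 1 := by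
      rw [hx, (hc'.pow_pow i j).mul_pow, ← pow_mul, ← pow_mul, mul_comm i, mul_comm j, pow_mul, pow_mul, hz'p, hzp]
      simp
    simpa using h2
  have hPC : (P : Subgroup G) ≤ Subgroup.centralizer {(z : G)} := by
    intro x hx
    rw [Subgroup.mem_centralizer_singleton_iff]
    have := congrArg Subtype.val (hzcm ⟨x, hx⟩)
    exact this
  have hQC : Q ≤ Subgroup.centralizer {(z : G)} := by
    intro x hx
    rw [Subgroup.mem_centralizer_singleton_iff]
    obtain ⟨i, j, rfl⟩ := (hQmem x).mp hx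
    have h1 : Commute (z' ^ i * (z : G) ^ j) (z : G) :=
      (hc'.pow_left i).mul_left ((Commute.refl (z : G)).pow_left j)
    exact h1.eq
  obtain ⟨c, hc, hcQ⟩ := H08.exists_conj_into_sylow_of_le _ P hPC Q hQp hQC
  rw [Subgroup.mem_centralizer_singleton_iff] at hc
  have hz'Q : z' ∈ Q := (hQmem _).mpr ⟨1, 0, by simp⟩
  obtain ⟨z₁, hz₁⟩ : ∃ z₁ : ↥(P : Subgroup G), (z₁ : G) = c * z' * c⁻¹ := ⟨⟨_, hcQ z' hz'Q⟩, rfl⟩
  obtain ⟨τ, hτ⟩ : ∃ τ, τ = c * t := ⟨_, rfl⟩
  have hτv : τ * (v : G) * τ⁻¹ = z := by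
    rw [hτ]
    calc c * t * (v : G) * (c * t)⁻¹ = c * (t * (v : G) * t⁻¹) * c⁻¹ := by group
      _ = c * (z : G) * c⁻¹ := by rw [ht]
      _ = (z : G) * c * c⁻¹ := by rw [hc]
      _ = z := by group
  have hτz : τ * (z : G) * τ⁻¹ = z₁ := by
    rw [hτ, hz₁, hz']
    group
  -- `z₁` is not central
  have hzo : orderOf z = p := orderOf_eq_prime (hR1 z) hz1
  have hvo : orderOf v = p := orderOf_eq_prime (hR1 v) hv1
  have hcenter : Subgroup.zpowers z = Subgroup.center ↥(P : Subgroup G) := by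
    refine Subgroup.eq_of_le_of_card_ge (Subgroup.zpowers_le.mpr hzc) ?_
    rw [Nat.card_zpowers, hzo, hzcard]
  have hz₁c : z₁ ∉ Subgroup.center ↥(P : Subgroup G) := by
    intro hmem
    rw [← hcenter] at hmem
    obtain ⟨k, hk⟩ := Subgroup.mem_zpowers_iff.mp hmem
    have h1 : (z : G) = (v : G) ^ k := by
      have h2 : ((z : G)) ^ k = z₁ := by
        have := congrArg Subtype.val hk
        simpa using this
      have h3 : τ * (z : G) * τ⁻¹ = τ * (v : G) ^ k * τ⁻¹ := by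
        rw [hτz, ← h2, ← conj_zpow, hτv]
      have h4 := mul_right_cancel h3
      exact mul_left_cancel h4
    have h1' : z = v ^ k := by
      apply Subtype.ext
      simpa using h1
    have hle : Subgroup.zpowers z ≤ Subgroup.zpowers v := by
      rw [Subgroup.zpowers_le, h1']
      exact Subgroup.zpow_mem_zpowers v k
    have heq : Subgroup.zpowers z = Subgroup.zpowers v :=
      Subgroup.eq_of_le_of_card_ge hle (by rw [Nat.card_zpowers, Nat.card_zpowers, hzo, hvo])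
    apply hvc
    rw [← hcenter, heq]
    exact Subgroup.mem_zpowers v
  obtain ⟨y, z₂, hz₂, hz₂1⟩ := exists_comm P z₁ hz₁c
  -- `y z₁ y⁻¹ z₁⁻¹ = z ^ s`
  have hc1 : y * z₁ * y⁻¹ * z₁⁻¹ ≠ 1 := by
    intro h
    apply hz₂1
    rw [hz₂]
    have h2 : (z₁ * y * z₁⁻¹ * y⁻¹)⁻¹ = y * z₁ * y⁻¹ * z₁⁻¹ := by group
    rw [← inv_eq_one, h2, h]
  have hc2 : y * z₁ * y⁻¹ * z₁⁻¹ ∈ Subgroup.zpowers z := by
    rw [hcenter]
    exact hcomm y z₁
  have hfin : IsOfFinOrder z := isOfFinOrder_of_finite z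
  obtain ⟨s, hs⟩ := (hfin.mem_powers_iff_mem_zpowers).mpr hc2
  simp only at hs
  have hsp : ¬ p ∣ s := by
    rintro ⟨q, rfl⟩
    apply hc1
    rw [← hs, pow_mul, hR1 z, one_pow]
  have hsG : (y : G) * (z₁ : G) * (y : G)⁻¹ = (z : G) ^ s * z₁ := by
    have h1 := congrArg Subtype.val hs
    have h2 : (z : G) ^ s = (y : G) * z₁ * (y : G)⁻¹ * (z₁ : G)⁻¹ := by simpa using h1
    rw [h2]
    group
  have hyz : (y : G) * (z : G) * (y : G)⁻¹ = z := by
    have h1 : ((y * z : ↥(P : Subgroup G)) : G) = ((z * y : ↥(P : Subgroup G)) : G) := by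
      rw [hzcm y]
    have h2 : (y : G) * (z : G) = (z : G) * (y : G) := by simpa using h1
    rw [h2]
    group
  obtain ⟨w, hw⟩ : ∃ w, w = τ⁻¹ * (y : G) * τ := ⟨_, rfl⟩
  have hwz : w * (z : G) * w⁻¹ = (z : G) * (v : G) ^ s := by
    have h1 : τ⁻¹ * (z : G) * τ = v := by
      rw [← hτv]
      group
    have h2 : τ⁻¹ * (z₁ : G) * τ = z := by
      rw [← hτz]
      group
    calc w * (z : G) * w⁻¹ = τ⁻¹ * ((y : G) * (τ * (z : G) * τ⁻¹) * (y : G)⁻¹) * τ := by
          rw [hw]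
          group
      _ = τ⁻¹ * ((z : G) ^ s * z₁) * τ := by rw [hτz, hsG]
      _ = (τ⁻¹ * (z : G) ^ s * τ) * (τ⁻¹ * (z₁ : G) * τ) := by group
      _ = (τ⁻¹ * (z : G) * τ) ^ s * (τ⁻¹ * (z₁ : G) * τ) := by
          congr 1
          have := conj_pow (a := τ⁻¹) (b := (z : G)) (i := s)
          rw [inv_inv] at this
          exact this.symm
      _ = (v : G) ^ s * (z : G) := by rw [h1, h2]
      _ = (z : G) * (v : G) ^ s := ((hcG.pow_right s).eq).symm
  have hwv : w * (v : G) * w⁻¹ = v := by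
    have h1 : τ⁻¹ * (z : G) * τ = v := by
      rw [← hτv]
      group
    calc w * (v : G) * w⁻¹ = τ⁻¹ * ((y : G) * (τ * (v : G) * τ⁻¹) * (y : G)⁻¹) * τ := by
          rw [hw]
          group
      _ = τ⁻¹ * (z : G) * τ := by rw [hτv, hyz]
      _ = v := h1
  have hwj : ∀ j : ℕ, w ^ j * (z : G) * (w ^ j)⁻¹ = (z : G) * (v : G) ^ (s * j) ∧ w ^ j * (v : G) * (w ^ j)⁻¹ = v := by
    intro j
    induction j with
    | zero => simp
    | succ j ih =>
      obtain ⟨ih1, ih2⟩ := ih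
      have h3 : (w ^ (j + 1))⁻¹ = w⁻¹ * (w ^ j)⁻¹ := by
        rw [pow_succ, _root_.mul_inv_rev]
      constructor
      · calc w ^ (j + 1) * (z : G) * (w ^ (j + 1))⁻¹ = w ^ j * (w * (z : G) * w⁻¹) * (w ^ j)⁻¹ := by
              rw [h3, pow_succ]
              group
          _ = (w ^ j * (z : G) * (w ^ j)⁻¹) * (w ^ j * (v : G) * (w ^ j)⁻¹) ^ s := by
              rw [hwz, conj_pow]
              group
          _ = (z : G) * (v : G) ^ (s * j) * (v : G) ^ s := by rw [ih1, ih2]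
          _ = (z : G) * (v : G) ^ (s * (j + 1)) := by
              rw [mul_add, pow_add, mul_one, mul_assoc]
      · calc w ^ (j + 1) * (v : G) * (w ^ (j + 1))⁻¹ = w ^ j * (w * (v : G) * w⁻¹) * (w ^ j)⁻¹ := by
              rw [h3, pow_succ]
              group
          _ = v := by rw [hwv, ih2]
  -- choose `j`
  have hsz : (s : ZMod p) ≠ 0 := by
    rwa [Ne, ZMod.natCast_eq_zero_iff]
  obtain ⟨j, hj⟩ : ∃ j : ℕ, (s : ZMod p) * (j : ZMod p) = r := by
    refine ⟨(((r : ZMod p) * (s : ZMod p)⁻¹).val), ?_⟩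
    rw [ZMod.natCast_val, ZMod.cast_id', id]
    field_simp
  have hvG1 : orderOf (v : G) = p := (Subgroup.orderOf_coe v).trans hvo
  refine ⟨w ^ j, ?_, (hwj j).2⟩
  rw [(hwj j).1]
  congr 1
  apply (pow_eq_pow_iff_modEq).mpr
  rw [hvG1]
  apply (ZMod.natCast_eq_natCast_iff _ _ p).mp
  push_cast
  exact hj

end Main

end Cfsg.Agent.H14.ES
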