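import Mathlib
import Cfsg.Agent.Lib.H14.FusionZJ
import Cfsg.Agent.Lib.H14.ZJInst
import Cfsg.Agent.Lib.H14.QdStable
import Cfsg.Agent.Lib.H09.CentralSylow
import Cfsg.Agent.Lib.H01.Hall
import Cfsg.Agent.Lib.H21.SelfCent

/-! Control of strong fusion without any `p`-constraint: an induction over a class of groups. -/

set_option autoImplicit false

namespace Cfsg.Agent.H14

open Cfsg Cfsg.Agent.H13 ZJFam

open scoped commutatorElement

universe u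

section Refactor

variable {G : Type*} [Group G] [Finite G] {p : ℕ} [Fact p.Prime] {n : ℕ}

/-- The local hypothesis used in the chain argument. -/
def LocalStep (p n : ℕ) [Fact p.Prime] {G : Type*} [Group G] (P : Sylow p G) (D : Subgroup G) (N₀ : ℕ) : Prop :=
  ∀ V : Subgroup G, V ≠ ⊥ → V ≤ (P : Subgroup G) →
    ¬ p ∣ ((P : Subgroup G) ⊓ NN V).relIndex (NN V) →
    ∀ t ∈ NN V, ∀ Q : Subgroup G, Q ≤ (P : Subgroup G) ⊓ NN V → N₀ ≤ Nat.card Q →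
      (∀ q ∈ Q, t * q * t⁻¹ ∈ (P : Subgroup G) ⊓ NN V) →
      ∃ t' ∈ NN ((elFam G n).zz (D ⊓ ((P : Subgroup G) ⊓ NN V))),
        ∀ q ∈ Q, t' * q * t'⁻¹ = t * q * t⁻¹

/-- The claim on subgroups in good position. -/
theorem claimC' (hn : n = 0 ∨ n = p) (P : Sylow p G) {D : Subgroup G}
    (hD : IsStronglyClosed D (P : Subgroup G)) (hDne : D ≠ ⊥) (N₀ : ℕ)
    (hA : ∀ R : Subgroup G, R ≤ (P : Subgroup G) → N₀ < Nat.card R →
      Ctrl P (NN ((elFam G n).zz D)) R) (hLS : LocalStep p n P D N₀) :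
    ∀ k : ℕ, ∀ V : Subgroup G, V ≠ ⊥ → V ≤ (P : Subgroup G) →
      ¬ p ∣ ((P : Subgroup G) ⊓ NN V).relIndex (NN V) →
      Nat.card (P : Subgroup G) ≤ Nat.card ((P : Subgroup G) ⊓ NN V : Subgroup G) + k →
      ∀ t ∈ NN V, ∀ Q : Subgroup G, Q ≤ (P : Subgroup G) ⊓ NN V → N₀ ≤ Nat.card Q →
        (∀ q ∈ Q, t * q * t⁻¹ ∈ (P : Subgroup G) ⊓ NN V) →
        ∃ x ∈ NN ((elFam G n).zz D), ∀ q ∈ Q, t * q * t⁻¹ = x * q * x⁻¹ := by
  classical
  have hDP : D ≤ (P : Subgroup G) := hD.1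
  have hPD := sylow_le_normalizer_of_closed hD
  have top_case : ∀ V : Subgroup G, V ≠ ⊥ → V ≤ (P : Subgroup G) →
      ¬ p ∣ ((P : Subgroup G) ⊓ NN V).relIndex (NN V) → (P : Subgroup G) ⊓ NN V = (P : Subgroup G) →
      ∀ t ∈ NN V, ∀ Q : Subgroup G, Q ≤ (P : Subgroup G) ⊓ NN V → N₀ ≤ Nat.card Q →
        (∀ q ∈ Q, t * q * t⁻¹ ∈ (P : Subgroup G) ⊓ NN V) →
        ∃ x ∈ NN ((elFam G n).zz D), ∀ q ∈ Q, t * q * t⁻¹ = x * q * x⁻¹ := by
    intro V hV hVP htame hS t ht Q hQ hQn htQ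
    obtain ⟨t', ht'N, ht'⟩ := hLS V hV hVP htame t ht Q hQ hQn htQ
    rw [hS, inf_eq_left.mpr hDP] at ht'N
    exact ⟨t', ht'N, fun q hq => (ht' q hq).symm⟩
  intro k
  induction k with
  | zero =>
    intro V hV hVP htame hk t ht Q hQ hQn htQ
    have hS : (P : Subgroup G) ⊓ NN V = (P : Subgroup G) :=
      Subgroup.eq_of_le_of_card_ge inf_le_left (by simpa using hk)
    exact top_case V hV hVP htame hS t ht Q hQ hQn htQ
  | succ k ih =>
    intro V hV hVP htame hk t ht Q hQ hQn htQ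
    by_cases hS : (P : Subgroup G) ⊓ NN V = (P : Subgroup G)
    · exact top_case V hV hVP htame hS t ht Q hQ hQn htQ
    obtain ⟨t', ht'N, ht'⟩ := hLS V hV hVP htame t ht Q hQ hQn htQ
    set S := (P : Subgroup G) ⊓ NN V with hSdef
    have hSP : S ≤ (P : Subgroup G) := inf_le_left
    have hSp : IsPGroup p S := P.isPGroup'.to_le hSP
    set D₁ := D ⊓ S with hD₁
    have hD₁S : D₁ ≤ S := inf_le_right
    have hD₁p : IsPGroup p D₁ := hSp.to_le hD₁S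
    have hD₁ne : D₁ ≠ ⊥ := by
      obtain ⟨w, hw, hw1, hwc⟩ := exists_central_mem hD hDne
      have hwP : w ∈ (P : Subgroup G) := hD.1 hw
      have hwH : w ∈ NN V := by
        apply mem_normalizer_of_map_conj_le
        rintro _ ⟨x, hx, rfl⟩
        change w * x * w⁻¹ ∈ V
        rw [hwc x (hVP hx)]
        simpa using hx
      intro h
      have : w ∈ D₁ := ⟨hw, hwP, hwH⟩
      rw [h] at this
      exact hw1 (Subgroup.mem_bot.mp this)
    set W₁ := (elFam G n).zz D₁ with hW₁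
    have hW₁D : W₁ ≤ D₁ := (zz_le_jj D₁).trans (jj_le D₁)
    have hW₁p : IsPGroup p W₁ := hD₁p.to_le hW₁D
    have hW₁ne : W₁ ≠ ⊥ := zz_ne_bot n hn hD₁p hD₁ne
    set Y := (P : Subgroup G) ⊓ NN W₁ with hY
    have hYp : IsPGroup p Y := P.isPGroup'.to_le inf_le_left
    have hnormS : (P : Subgroup G) ⊓ NN S ≤ NN W₁ := by
      intro v hv
      refine zz_normalizer_ge n D₁ ?_
      rw [Subgroup.mem_normalizer_iff]
      intro x
      have h1 := Subgroup.mem_normalizer_iff.mp (hPD hv.1) x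
      have h2 := Subgroup.mem_normalizer_iff.mp hv.2 x
      constructor
      · rintro ⟨h3, h4⟩
        exact ⟨h1.mp h3, h2.mp h4⟩
      · rintro ⟨h3, h4⟩
        exact ⟨h1.mpr h3, h2.mpr h4⟩
    have hSY : S ≤ Y := le_inf hSP ((le_inf hSP Subgroup.le_normalizer).trans hnormS)
    obtain ⟨u, huP, huS, huN⟩ := Cfsg.Agent.H14.exists_mem_normalizer_of_pgroup P.isPGroup' hSP hS
    have hSltY : S < Y := by
      refine lt_of_le_of_ne hSY ?_
      intro h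
      apply huS
      rw [h]
      exact ⟨huP, hnormS ⟨huP, huN⟩⟩
    have hcardSY : Nat.card S < Nat.card Y := card_lt_of_lt hSltY
    have hcardQS : Nat.card Q ≤ Nat.card S := Subgroup.card_le_of_le hQ
    obtain ⟨c, hcY, htame₂⟩ := exists_tame2 P hYp (inf_le_right : Y ≤ NN W₁)
    obtain ⟨xc, hxcX, hxc⟩ := hA Y inf_le_left (by omega) c (fun r hr => hcY ⟨r, hr, rfl⟩)
    set W₂ := W₁.map (MulAut.conj c).toMonoidHom with hW₂
    have hW₂ne : W₂ ≠ ⊥ := fun h =>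
      hW₁ne ((Subgroup.map_eq_bot_iff_of_injective W₁ (MulAut.conj c).injective).mp h)
    have hW₂P : W₂ ≤ (P : Subgroup G) :=
      (Subgroup.map_mono (hW₁D.trans (hD₁S.trans hSY))).trans hcY
    have hNW₂ : NN W₂ = (NN W₁).map (MulAut.conj c).toMonoidHom := normalizer_conj W₁ c
    set Yc := Y.map (MulAut.conj c).toMonoidHom with hYc
    have hYcle : Yc ≤ (P : Subgroup G) ⊓ NN W₂ := by
      refine le_inf hcY ?_
      rw [hNW₂]
      exact Subgroup.map_mono inf_le_right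
    have hcardYc : Nat.card Yc = Nat.card Y :=
      (Nat.card_congr ((MulAut.conj c).subgroupMap Y).toEquiv).symm
    have hcardY2 : Nat.card Yc ≤ Nat.card ((P : Subgroup G) ⊓ NN W₂ : Subgroup G) :=
      Subgroup.card_le_of_le hYcle
    have hQY : Q ≤ Y := hQ.trans hSY
    have hstep := ih W₂ hW₂ne hW₂P htame₂ (by omega) (c * t' * c⁻¹)
      (by rw [hNW₂]; exact ⟨t', ht'N, rfl⟩) (Q.map (MulAut.conj c).toMonoidHom)
      ((Subgroup.map_mono hQY).trans hYcle)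
      (by
        have : Nat.card (Q.map (MulAut.conj c).toMonoidHom) = Nat.card Q :=
          (Nat.card_congr ((MulAut.conj c).subgroupMap Q).toEquiv).symm
        omega)
      (by
        rintro _ ⟨q, hq, rfl⟩
        change (c * t' * c⁻¹) * (c * q * c⁻¹) * (c * t' * c⁻¹)⁻¹ ∈ _
        have e : (c * t' * c⁻¹) * (c * q * c⁻¹) * (c * t' * c⁻¹)⁻¹ = c * (t' * q * t'⁻¹) * c⁻¹ := by
          group
        rw [e, ht' q hq]
        exact hYcle ⟨_, hSY (htQ q hq), rfl⟩)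
    obtain ⟨x₂, hx₂X, hx₂⟩ := hstep
    refine ⟨xc⁻¹ * x₂ * xc, Subgroup.mul_mem _ (Subgroup.mul_mem _ (Subgroup.inv_mem _ hxcX) hx₂X) hxcX, ?_⟩
    intro q hq
    have hs : t * q * t⁻¹ ∈ Y := hSY (htQ q hq)
    have h1 := hxc q (hQY hq)
    have h2 := hxc _ hs
    have h3 := hx₂ (c * q * c⁻¹) ⟨q, hq, rfl⟩
    have e : (c * t' * c⁻¹) * (c * q * c⁻¹) * (c * t' * c⁻¹)⁻¹ = c * (t' * q * t'⁻¹) * c⁻¹ := by
      group
    rw [e, ht' q hq, h2] at h3
    calc t * q * t⁻¹ = xc⁻¹ * (xc * (t * q * t⁻¹) * xc⁻¹) * xc := by group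
      _ = xc⁻¹ * (x₂ * (c * q * c⁻¹) * x₂⁻¹) * xc := by rw [h3]
      _ = xc⁻¹ * (x₂ * (xc * q * xc⁻¹) * x₂⁻¹) * xc := by rw [h1]
      _ = _ := by group

/-- The main step. -/
theorem stepA' (hn : n = 0 ∨ n = p) (P : Sylow p G) {D : Subgroup G}
    (hD : IsStronglyClosed D (P : Subgroup G)) (hDne : D ≠ ⊥)
    {B : Subgroup G} (hBP : B ≤ (P : Subgroup G))
    (hA : ∀ R : Subgroup G, R ≤ (P : Subgroup G) → Nat.card B < Nat.card R →
      Ctrl P (NN ((elFam G n).zz D)) R) (hLS : LocalStep p n P D (Nat.card B)) :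
    Ctrl P (NN ((elFam G n).zz D)) B := by
  classical
  intro g hg
  by_cases hBtop : B = (P : Subgroup G)
  · refine ⟨g, zz_normalizer_ge n D ?_, fun _ _ => rfl⟩
    apply mem_normalizer_of_map_conj_le
    rintro _ ⟨d, hd, rfl⟩
    exact hD.2 d hd g (hg d (hBtop ▸ hD.1 hd))
  by_cases hBbot : B = ⊥
  · refine ⟨1, Subgroup.one_mem _, fun r hr => ?_⟩
    rw [hBbot] at hr
    rw [Subgroup.mem_bot.mp hr]
    group
  have hcardB : Nat.card B < Nat.card (P : Subgroup G) := card_lt_of_lt (lt_of_le_of_ne hBP hBtop)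
  set B' := B.map (MulAut.conj g).toMonoidHom with hB'
  have hB'P : B' ≤ (P : Subgroup G) := by
    rintro _ ⟨b, hb, rfl⟩
    exact hg b hb
  have hcardB' : Nat.card B' = Nat.card B :=
    (Nat.card_congr ((MulAut.conj g).subgroupMap B).toEquiv).symm
  have hB'top : B' ≠ (P : Subgroup G) := by
    intro h
    rw [h] at hcardB'
    omega
  have hbig : ∀ K : Subgroup G, K ≤ (P : Subgroup G) → K ≠ (P : Subgroup G) →
      Nat.card K < Nat.card ((P : Subgroup G) ⊓ NN K : Subgroup G) := by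
    intro K hK hKne
    obtain ⟨u, huP, huS, huN⟩ := Cfsg.Agent.H14.exists_mem_normalizer_of_pgroup P.isPGroup' hK hKne
    apply card_lt_of_lt
    refine lt_of_le_of_ne (le_inf hK Subgroup.le_normalizer) ?_
    intro h
    apply huS
    rw [h]
    exact ⟨huP, huN⟩
  set R := (P : Subgroup G) ⊓ NN B with hR
  set R' := (P : Subgroup G) ⊓ NN B' with hR'
  have hBR : B ≤ R := le_inf hBP Subgroup.le_normalizer
  have hB'R' : B' ≤ R' := le_inf hB'P Subgroup.le_normalizer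
  have hRp : IsPGroup p R := P.isPGroup'.to_le inf_le_left
  have hR'p : IsPGroup p R' := P.isPGroup'.to_le inf_le_left
  obtain ⟨y, hyR, htame⟩ := exists_tame2 P hRp (inf_le_right : R ≤ NN B)
  obtain ⟨x₁, hx₁X, hx₁⟩ := hA R inf_le_left (hbig B hBP hBtop) y (fun r hr => hyR ⟨r, hr, rfl⟩)
  set V := B.map (MulAut.conj y).toMonoidHom with hV
  have hVne : V ≠ ⊥ := fun h =>
    hBbot ((Subgroup.map_eq_bot_iff_of_injective B (MulAut.conj y).injective).mp h)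
  have hVP : V ≤ (P : Subgroup G) := (Subgroup.map_mono hBR).trans hyR
  have hV' : B'.map (MulAut.conj (y * g⁻¹)).toMonoidHom = V := by
    ext x
    constructor
    · rintro ⟨_, ⟨b, hb, rfl⟩, rfl⟩
      refine ⟨b, hb, ?_⟩
      change y * b * y⁻¹ = (y * g⁻¹) * (g * b * g⁻¹) * (y * g⁻¹)⁻¹
      group
    · rintro ⟨b, hb, rfl⟩
      refine ⟨g * b * g⁻¹, ⟨b, hb, rfl⟩, ?_⟩
      change (y * g⁻¹) * (g * b * g⁻¹) * (y * g⁻¹)⁻¹ = y * b * y⁻¹
      group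
  have hNV : NN V = (NN B').map (MulAut.conj (y * g⁻¹)).toMonoidHom := by
    rw [← hV']
    exact normalizer_conj B' (y * g⁻¹)
  obtain ⟨v, hvN, hv⟩ := exists_conj_into_tame P htame
    (hR'p.map (MulAut.conj (y * g⁻¹)).toMonoidHom)
    (by rw [hNV]; exact Subgroup.map_mono inf_le_right)
  obtain ⟨x₂, hx₂X, hx₂⟩ := hA R' inf_le_left
    (by have : Nat.card B' < Nat.card R' := hbig B' hB'P hB'top; omega) (v * (y * g⁻¹))
    (fun r hr => by
      have h1 := hv ⟨_, ⟨r, hr, rfl⟩, rfl⟩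
      have e : (v * (y * g⁻¹)) * r * (v * (y * g⁻¹))⁻¹ =
          v * ((y * g⁻¹) * r * (y * g⁻¹)⁻¹) * v⁻¹ := by group
      rw [e]
      exact h1.1)
  have hcardV : Nat.card V = Nat.card B :=
    (Nat.card_congr ((MulAut.conj y).subgroupMap B).toEquiv).symm
  obtain ⟨xt, hxtX, hxt⟩ := claimC' hn P hD hDne (Nat.card B) hA hLS (Nat.card (P : Subgroup G))
    V hVne hVP htame (by omega) v hvN V (le_inf hVP Subgroup.le_normalizer) (by omega)
    (fun q hq => by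
      have h1 : v * q * v⁻¹ ∈ V := (Subgroup.mem_normalizer_iff.mp hvN q).mp hq
      exact ⟨hVP h1, Subgroup.le_normalizer h1⟩)
  refine ⟨x₂⁻¹ * xt * x₁, Subgroup.mul_mem _ (Subgroup.mul_mem _ (Subgroup.inv_mem _ hx₂X) hxtX) hx₁X, ?_⟩
  intro b hb
  have h1 := hx₁ b (hBR hb)
  have h2 := hxt (y * b * y⁻¹) ⟨b, hb, rfl⟩
  have h3 := hx₂ (g * b * g⁻¹) (hB'R' ⟨b, hb, rfl⟩)
  have e : (v * (y * g⁻¹)) * (g * b * g⁻¹) * (v * (y * g⁻¹))⁻¹ = v * (y * b * y⁻¹) * v⁻¹ := by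
    group
  rw [e, h2, h1] at h3
  calc g * b * g⁻¹ = x₂⁻¹ * (x₂ * (g * b * g⁻¹) * x₂⁻¹) * x₂ := by group
    _ = x₂⁻¹ * (xt * (x₁ * b * x₁⁻¹) * xt⁻¹) * x₂ := by rw [h3]
    _ = _ := by group

/-- Control on all subgroups of `P`. -/
theorem ctrl_all' (hn : n = 0 ∨ n = p) (P : Sylow p G) {D : Subgroup G}
    (hD : IsStronglyClosed D (P : Subgroup G)) (hDne : D ≠ ⊥)
    (hLS : ∀ N₀ : ℕ, (∀ R : Subgroup G, R ≤ (P : Subgroup G) → N₀ < Nat.card R →
      Ctrl P (NN ((elFam G n).zz D)) R) → LocalStep p n P D N₀) :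
    ∀ k : ℕ, ∀ B : Subgroup G, B ≤ (P : Subgroup G) →
      Nat.card (P : Subgroup G) ≤ Nat.card B + k → Ctrl P (NN ((elFam G n).zz D)) B := by
  intro k
  induction k with
  | zero =>
    intro B hB hk
    have hA : ∀ R : Subgroup G, R ≤ (P : Subgroup G) → Nat.card B < Nat.card R →
        Ctrl P (NN ((elFam G n).zz D)) R := by
      intro R hR hlt
      exfalso
      have := Subgroup.card_le_of_le hR
      omega
    exact stepA' hn P hD hDne hB hA (hLS _ hA)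
  | succ k ih =>
    intro B hB hk
    have hA : ∀ R : Subgroup G, R ≤ (P : Subgroup G) → Nat.card B < Nat.card R →
        Ctrl P (NN ((elFam G n).zz D)) R := fun R hR hlt => ih R hR (by omega)
    exact stepA' hn P hD hDne hB hA (hLS _ hA)

end Refactor

section Sub

variable {G : Type*} [Group G] [Finite G] {p : ℕ} [Fact p.Prime] {n : ℕ}

/-- The fusion-control statement for a group. -/
def TT (p n : ℕ) [Fact p.Prime] (H : Type*) [Group H] : Prop :=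
  ∀ (S : Sylow p H) (D : Subgroup H), IsStronglyClosed D (S : Subgroup H) →
    ∀ B : Subgroup H, B ≤ (S : Subgroup H) → Ctrl S (NN ((elFam H n).zz D)) B

/-- Applying the statement to a subgroup. -/
theorem sub_step (P : Sylow p G) {D : Subgroup G} (hD : IsStronglyClosed D (P : Subgroup G))
    (H : Subgroup G) (hTT : TT p n ↥H) (htame : ¬ p ∣ ((P : Subgroup G) ⊓ H).relIndex H)
    {t : G} (ht : t ∈ H) {Q : Subgroup G} (hQ : Q ≤ (P : Subgroup G) ⊓ H)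
    (htQ : ∀ q ∈ Q, t * q * t⁻¹ ∈ (P : Subgroup G) ⊓ H) :
    ∃ t' ∈ NN ((elFam G n).zz (D ⊓ ((P : Subgroup G) ⊓ H))),
      ∀ q ∈ Q, t' * q * t'⁻¹ = t * q * t⁻¹ := by
  classical
  set S₀ := (P : Subgroup G) ⊓ H with hS₀
  have hpg : IsPGroup p (S₀.subgroupOf H) := (P.isPGroup'.to_le inf_le_left).comap_subtype
  let S : Sylow p H := hpg.toSylow htame
  have hSmem : ∀ x : H, x ∈ (S : Subgroup H) ↔ (x : G) ∈ S₀ := fun x => Subgroup.mem_subgroupOf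
  let D₁ : Subgroup H := (D ⊓ S₀).subgroupOf H
  have hcl : IsStronglyClosed D₁ (S : Subgroup H) := by
    refine ⟨fun x hx => (hSmem x).mpr (Subgroup.mem_subgroupOf.mp hx).2, fun x hx g hg => ?_⟩
    have h1 := (hSmem _).mp hg
    refine Subgroup.mem_subgroupOf.mpr ⟨?_, h1⟩
    exact hD.2 (x : G) (Subgroup.mem_subgroupOf.mp hx).1 (g : G) h1.1
  obtain ⟨t', ht'N, ht'⟩ := hTT S D₁ hcl (Q.subgroupOf H)
    (fun q hq => (hSmem q).mpr (hQ (Subgroup.mem_subgroupOf.mp hq))) ⟨t, ht⟩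
    (fun q hq => (hSmem _).mpr (by simpa using htQ q (Subgroup.mem_subgroupOf.mp hq)))
  have hD'map : D₁.map H.subtype = D ⊓ S₀ := by
    rw [Subgroup.subgroupOf_map_subtype]
    exact inf_eq_left.mpr (inf_le_right.trans inf_le_right)
  have hz : ((elFam H n).zz D₁).map H.subtype = (elFam G n).zz (D ⊓ S₀) := by
    rw [← zz_map n H.subtype D₁ (fun x _ hx => Subtype.ext hx), hD'map]
  refine ⟨t', ?_, ?_⟩
  · have h1 := Subgroup.le_normalizer_map H.subtype ⟨t', ht'N, rfl⟩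
    rw [hz] at h1
    exact h1
  · intro q hq
    have h1 := ht' ⟨q, (hQ hq).2⟩ (Subgroup.mem_subgroupOf.mpr hq)
    exact (congrArg Subtype.val h1).symm

/-- The case of a subgroup containing `P`. -/
theorem sub_step_top (P : Sylow p G) {D : Subgroup G} (hD : IsStronglyClosed D (P : Subgroup G))
    (H : Subgroup G) (hTT : TT p n ↥H) (hPH : (P : Subgroup G) ≤ H)
    {t : G} (ht : t ∈ H) {Q : Subgroup G} (hQ : Q ≤ (P : Subgroup G))
    (htQ : ∀ q ∈ Q, t * q * t⁻¹ ∈ (P : Subgroup G)) :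
    ∃ t' ∈ NN ((elFam G n).zz D), ∀ q ∈ Q, t' * q * t'⁻¹ = t * q * t⁻¹ := by
  have h1 : (P : Subgroup G) ⊓ H = (P : Subgroup G) := inf_eq_left.mpr hPH
  have htame : ¬ p ∣ ((P : Subgroup G) ⊓ H).relIndex H := by
    rw [h1]
    intro h
    exact P.not_dvd_index (h.trans (Subgroup.relIndex_dvd_index_of_le hPH))
  have h2 := sub_step (n := n) P hD H hTT htame ht (Q := Q) (by rw [h1]; exact hQ) (by rw [h1]; exact htQ)
  rwa [h1, inf_eq_left.mpr hD.1] at h2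

/-- The lifting step modulo a normal `p'`-subgroup. -/
theorem quot_frattini₂ {L Z S B : Subgroup G} (hLn : L.Normal) (hL : (Nat.card L).Coprime p)
    (hZ : IsPGroup p Z) (hS : IsPGroup p S)
    (hSZ : S ≤ Subgroup.normalizer (Z : Set G)) (hB : B ≤ S) {t x : G}
    (hx : x ∈ Subgroup.normalizer ((Z ⊔ L : Subgroup G) : Set G))
    (hxB : ∀ b ∈ B, (x * b * x⁻¹)⁻¹ * (t * b * t⁻¹) ∈ L)
    (ht : ∀ b ∈ B, t * b * t⁻¹ ∈ S) :
    ∃ t' ∈ Subgroup.normalizer (Z : Set G), ∀ b ∈ B, t' * b * t'⁻¹ = t * b * t⁻¹ := by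
  classical
  haveI := hLn
  have hπ : ∀ g : G, QuotientGroup.mk' L g = 1 ↔ g ∈ L := fun g => QuotientGroup.eq_one_iff g
  have hle1 : Z.map (MulAut.conj x).toMonoidHom ≤ Z ⊔ L := by
    rintro _ ⟨z, hz, rfl⟩
    exact (Subgroup.mem_normalizer_iff.mp hx z).mp (Subgroup.mem_sup_left hz)
  obtain ⟨ℓ₁, hℓ₁, h1⟩ := exists_conj_of_le_sup hZ hLn hL (hZ.map (MulAut.conj x).toMonoidHom) hle1
  have ht₁N : ℓ₁ * x ∈ Subgroup.normalizer (Z : Set G) := by
    apply mem_normalizer_of_map_conj_le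
    rintro _ ⟨w, hw, rfl⟩
    have h3 : ℓ₁ * (x * w * x⁻¹) * ℓ₁⁻¹ ∈ Z := h1 ⟨x * w * x⁻¹, ⟨w, hw, rfl⟩, rfl⟩
    have e3 : (ℓ₁ * x) * w * (ℓ₁ * x)⁻¹ = ℓ₁ * (x * w * x⁻¹) * ℓ₁⁻¹ := by group
    change (ℓ₁ * x) * w * (ℓ₁ * x)⁻¹ ∈ Z
    rw [e3]
    exact h3
  set t₁ := ℓ₁ * x with ht₁
  have hℓ₁1 : QuotientGroup.mk' L ℓ₁ = 1 := (hπ ℓ₁).mpr hℓ₁
  -- modulo `L` everything agrees
  have hmod : ∀ b ∈ B, QuotientGroup.mk' L (t₁ * b * t₁⁻¹) = QuotientGroup.mk' L (t * b * t⁻¹) := by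
    intro b hb
    have h2 := (hπ _).mpr (hxB b hb)
    rw [map_mul, map_inv, inv_mul_eq_one] at h2
    rw [ht₁, ← h2]
    simp only [map_mul, map_inv, hℓ₁1, one_mul, inv_one]
  let B₂ : Subgroup G := B.map (MulAut.conj t).toMonoidHom
  let B₁ : Subgroup G := B.map (MulAut.conj t₁).toMonoidHom
  have hB₂S : B₂ ≤ S := by
    rintro _ ⟨b, hb, rfl⟩
    exact ht b hb
  have hBp : IsPGroup p B := hS.to_le hB
  have hB₂p : IsPGroup p B₂ := hBp.map _
  have hB₁p : IsPGroup p B₁ := hBp.map _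
  have hB₁N : B₁ ≤ Subgroup.normalizer (Z : Set G) := by
    rintro _ ⟨b, hb, rfl⟩
    exact Subgroup.mul_mem _ (Subgroup.mul_mem _ ht₁N (hSZ (hB hb))) (Subgroup.inv_mem _ ht₁N)
  let Q₂ : Subgroup G := B₂ ⊔ Z
  let Q₁ : Subgroup G := B₁ ⊔ Z
  have hQ₂p : IsPGroup p Q₂ := hB₂p.to_sup_of_normal_right' hZ (hB₂S.trans hSZ)
  have hQ₁p : IsPGroup p Q₁ := hB₁p.to_sup_of_normal_right' hZ hB₁N
  have hQ₁le : Q₁ ≤ Q₂ ⊔ L := by
    refine sup_le ?_ (le_sup_of_le_left le_sup_right)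
    rintro _ ⟨b, hb, rfl⟩
    change t₁ * b * t₁⁻¹ ∈ Q₂ ⊔ L
    have e : t₁ * b * t₁⁻¹ = (t * b * t⁻¹) * ((t * b * t⁻¹)⁻¹ * (t₁ * b * t₁⁻¹)) := by group
    rw [e]
    refine Subgroup.mul_mem _ (Subgroup.mem_sup_left (Subgroup.mem_sup_left ⟨b, hb, rfl⟩))
      (Subgroup.mem_sup_right ?_)
    rw [← hπ, map_mul, map_inv, hmod b hb, inv_mul_cancel]
  obtain ⟨ℓ₀, hℓ₀, h2⟩ := exists_conj_of_le_sup hQ₂p hLn hL hQ₁p hQ₁le
  have hℓ₀Z : ∀ z ∈ Z, ℓ₀ * z * ℓ₀⁻¹ = z := by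
    intro z hz
    have h3 : ℓ₀ * z * ℓ₀⁻¹ ∈ Q₂ := h2 ⟨z, Subgroup.mem_sup_right hz, rfl⟩
    have h4 : (ℓ₀ * z * ℓ₀⁻¹) * z⁻¹ ∈ Q₂ := Q₂.mul_mem h3 (Q₂.inv_mem (Subgroup.mem_sup_right hz))
    have h5 : (ℓ₀ * z * ℓ₀⁻¹) * z⁻¹ ∈ L := by
      have e : (ℓ₀ * z * ℓ₀⁻¹) * z⁻¹ = ℓ₀ * (z * ℓ₀⁻¹ * z⁻¹) := by group
      rw [e]
      exact L.mul_mem hℓ₀ (hLn.conj_mem _ (L.inv_mem hℓ₀) z)
    have h6 := eq_one_of_mem_inf_coprime hQ₂p hL h4 h5
    exact mul_inv_eq_one.mp h6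
  have hℓ₀N : ℓ₀ ∈ Subgroup.normalizer (Z : Set G) := by
    apply mem_normalizer_of_map_conj_le
    rintro _ ⟨w, hw, rfl⟩
    change ℓ₀ * w * ℓ₀⁻¹ ∈ Z
    rw [hℓ₀Z w hw]
    exact hw
  refine ⟨ℓ₀ * t₁, Subgroup.mul_mem _ hℓ₀N ht₁N, ?_⟩
  intro b hb
  have h3 : ℓ₀ * (t₁ * b * t₁⁻¹) * ℓ₀⁻¹ ∈ Q₂ :=
    h2 ⟨t₁ * b * t₁⁻¹, Subgroup.mem_sup_left ⟨b, hb, rfl⟩, rfl⟩
  have h3' : t * b * t⁻¹ ∈ Q₂ := Subgroup.mem_sup_left ⟨b, hb, rfl⟩
  have h4 := Q₂.mul_mem h3 (Q₂.inv_mem h3')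
  have hℓ₀1 : QuotientGroup.mk' L ℓ₀ = 1 := (hπ ℓ₀).mpr hℓ₀
  have h5 : (ℓ₀ * (t₁ * b * t₁⁻¹) * ℓ₀⁻¹) * (t * b * t⁻¹)⁻¹ ∈ L := by
    rw [← hπ]
    rw [map_mul, map_mul, map_mul, map_inv, map_inv, hℓ₀1, hmod b hb]
    simp
  have h6 := eq_one_of_mem_inf_coprime hQ₂p hL h4 h5
  have h7 := mul_inv_eq_one.mp h6
  calc (ℓ₀ * t₁) * b * (ℓ₀ * t₁)⁻¹ = ℓ₀ * (t₁ * b * t₁⁻¹) * ℓ₀⁻¹ := by group
    _ = _ := h7

/-- Lifting control from the quotient by a normal `p'`-subgroup. -/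
theorem ctrl_of_quot (P : Sylow p G) {D : Subgroup G} (hcl : IsStronglyClosed D (P : Subgroup G))
    {L : Subgroup G} [hLn : L.Normal] (hLc : (Nat.card L).Coprime p) (hT : TT p n (G ⧸ L))
    {B : Subgroup G} (hB : B ≤ (P : Subgroup G)) : Ctrl P (NN ((elFam G n).zz D)) B := by
  classical
  have hp : p.Prime := Fact.out
  intro t ht
  let π := QuotientGroup.mk' L
  have hπs : Function.Surjective π := QuotientGroup.mk'_surjective L
  have hπ1 : ∀ x : G, π x = 1 ↔ x ∈ L := fun x => QuotientGroup.eq_one_iff x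
  have hDp : IsPGroup p D := P.isPGroup'.to_le hcl.1
  have hinj : ∀ x ∈ D, π x = 1 → x = 1 := by
    intro x hx h
    exact eq_one_of_mem_inf_coprime hDp hLc hx ((hπ1 x).mp h)
  let Pb : Sylow p (G ⧸ L) := P.mapSurjective hπs
  have hPb : (Pb : Subgroup (G ⧸ L)) = (P : Subgroup G).map π := Sylow.coe_mapSurjective hπs P
  have hcl' : IsStronglyClosed (D.map π) (Pb : Subgroup (G ⧸ L)) := by
    refine ⟨by rw [hPb]; exact Subgroup.map_mono hcl.1, ?_⟩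
    rintro _ ⟨x, hx, rfl⟩ gb hgb
    obtain ⟨g, rfl⟩ := hπs gb
    rw [hPb] at hgb
    obtain ⟨u, hu, e⟩ := hgb
    have hmem : g * x * g⁻¹ ∈ (P : Subgroup G) ⊔ L := by
      have h1 : u⁻¹ * (g * x * g⁻¹) ∈ L := by
        have e0 : π (g * x * g⁻¹) = π g * π x * (π g)⁻¹ := by simp only [map_mul, map_inv]
        rw [← hπ1, map_mul, map_inv, e0, e, inv_mul_cancel]
      have e2 : g * x * g⁻¹ = u * (u⁻¹ * (g * x * g⁻¹)) := by group
      rw [e2]
      exact Subgroup.mul_mem _ (Subgroup.mem_sup_left hu) (Subgroup.mem_sup_right h1)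
    have hxp : IsPGroup p (Subgroup.zpowers (g * x * g⁻¹)) := by
      obtain ⟨k, hk⟩ := hDp ⟨x, hx⟩
      have hk' : x ^ p ^ k = 1 := congrArg Subtype.val hk
      have h2 : (g * x * g⁻¹) ^ p ^ k = 1 := by rw [conj_pow, hk']; group
      apply IsPGroup.of_card (n := Nat.factorization (orderOf (g * x * g⁻¹)) p)
      rw [Nat.card_zpowers]
      obtain ⟨j, -, hj⟩ := (Nat.dvd_prime_pow hp).mp (orderOf_dvd_of_pow_eq_one h2)
      rw [hj, hp.factorization_pow]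
      simp
    obtain ⟨ℓ, hℓ, hle⟩ := exists_conj_of_le_sup P.isPGroup' hLn hLc hxp
      ((Subgroup.zpowers_le).mpr hmem)
    have h3 : ℓ * (g * x * g⁻¹) * ℓ⁻¹ ∈ (P : Subgroup G) :=
      hle ⟨_, Subgroup.mem_zpowers _, rfl⟩
    have h4 : (ℓ * g) * x * (ℓ * g)⁻¹ ∈ (P : Subgroup G) := by
      have e3 : (ℓ * g) * x * (ℓ * g)⁻¹ = ℓ * (g * x * g⁻¹) * ℓ⁻¹ := by group
      rw [e3]
      exact h3
    have h5 := hcl.2 x hx (ℓ * g) h4
    refine ⟨_, h5, ?_⟩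
    have h6 : π ℓ = 1 := (hπ1 ℓ).mpr hℓ
    simp [map_mul, h6]
  obtain ⟨xb, hxbN, hxb⟩ := hT Pb (D.map π) hcl' (B.map π)
    (by rw [hPb]; exact Subgroup.map_mono hB) (π t) (by
      rintro _ ⟨b, hb, rfl⟩
      rw [hPb]
      exact ⟨t * b * t⁻¹, ht b hb, by simp only [map_mul, map_inv]⟩)
  obtain ⟨x, rfl⟩ := hπs xb
  rw [zz_map n π D hinj] at hxbN
  set Z := (elFam G n).zz D with hZ
  have hZp : IsPGroup p Z := hDp.to_le ((zz_le_jj D).trans (jj_le D))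
  have hxN : x ∈ Subgroup.normalizer ((Z ⊔ L : Subgroup G) : Set G) := by
    have h1 := comap_mem_normalizer π hxbN
    have h2 : (Z.map π).comap π = Z ⊔ L := by
      rw [Subgroup.comap_map_eq, QuotientGroup.ker_mk']
    rwa [h2] at h1
  have hSZ : (P : Subgroup G) ≤ Subgroup.normalizer (Z : Set G) :=
    (sylow_le_normalizer_of_closed hcl).trans (zz_normalizer_ge n D)
  obtain ⟨t', ht'N, ht'⟩ := quot_frattini₂ hLn hLc hZp P.isPGroup' hSZ hB hxN (t := t) (by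
    intro b hb
    rw [← hπ1]
    have h3 := hxb (π b) ⟨b, hb, rfl⟩
    simp only [map_mul, map_inv]
    rw [← h3]
    group) (fun b hb => ht b hb)
  exact ⟨t', ht'N, fun b hb => (ht' b hb).symm⟩

end Sub

section Normal

variable {G : Type*} [Group G] [Finite G] {p : ℕ} [Fact p.Prime] {n : ℕ}

lemma card_mul_relIndex' {H K : Subgroup G} (h : H ≤ K) : Nat.card H * H.relIndex K = Nat.card K := by
  rw [← Subgroup.relIndex_bot_left, ← Subgroup.relIndex_bot_left]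
  exact Subgroup.relIndex_mul_relIndex ⊥ H K bot_le h

lemma relIndex_sup_eq (R C : Subgroup G) [C.Normal] : R.relIndex (R ⊔ C) = (R ⊓ C).relIndex C := by
  have h1 := Cfsg.Agent.H01.card_sup_mul_card_inf R C
  have h2 : R.relIndex (R ⊔ C) * Nat.card R = Nat.card (R ⊔ C : Subgroup G) := by
    rw [mul_comm]
    exact card_mul_relIndex' le_sup_left
  have h3 : (R ⊓ C).relIndex C * Nat.card (R ⊓ C : Subgroup G) = Nat.card C := by
    rw [mul_comm]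
    exact card_mul_relIndex' inf_le_right
  have hR : 0 < Nat.card R := Nat.card_pos
  have hI : 0 < Nat.card (R ⊓ C : Subgroup G) := Nat.card_pos
  apply Nat.eq_of_mul_eq_mul_right (Nat.mul_pos hR hI)
  calc R.relIndex (R ⊔ C) * (Nat.card R * Nat.card (R ⊓ C : Subgroup G))
      = (R.relIndex (R ⊔ C) * Nat.card R) * Nat.card (R ⊓ C : Subgroup G) := by ring
    _ = Nat.card R * Nat.card C := by rw [h2, h1]
    _ = Nat.card R * ((R ⊓ C).relIndex C * Nat.card (R ⊓ C : Subgroup G)) := by rw [h3]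
    _ = _ := by ring

lemma not_dvd_sylow_inf_normal (P : Sylow p G) (C : Subgroup G) [C.Normal] :
    ¬ p ∣ ((P : Subgroup G) ⊓ C).relIndex C := by
  rw [← relIndex_sup_eq]
  intro h
  exact P.not_dvd_index (h.trans (Subgroup.relIndex_dvd_index_of_le le_sup_left))

/-- Moving a `p`-subgroup of `R C` into `R` by an element of the normal subgroup `C`. -/
theorem exists_conj_of_sylow_inf {C R A : Subgroup G} (hC : C.Normal) (hR : IsPGroup p R)
    (hRC : ¬ p ∣ (R ⊓ C).relIndex C) (hA : IsPGroup p A) (hle : A ≤ R ⊔ C) :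
    ∃ c ∈ C, ∀ a ∈ A, c * a * c⁻¹ ∈ R := by
  classical
  haveI := hC
  have h1 : ¬ p ∣ R.relIndex (R ⊔ C) := by
    rw [relIndex_sup_eq]
    exact hRC
  obtain ⟨x, hx, hxA⟩ := Cfsg.Agent.H09.exists_conj_le_of_not_dvd_relIndex le_sup_left hR h1 hle hA
  obtain ⟨y, hy, z, hz, rfl⟩ := Subgroup.mem_sup_of_normal_right.mp hx
  refine ⟨z, hz, fun a ha => ?_⟩
  have h2 : (y * z) * a * (y * z)⁻¹ ∈ R := hxA ⟨a, ha, rfl⟩
  have h3 := R.mul_mem (R.mul_mem (R.inv_mem hy) h2) hy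
  have e : y⁻¹ * ((y * z) * a * (y * z)⁻¹) * y = z * a * z⁻¹ := by group
  rwa [e] at h3

/-- Elements stabilizing the chain `V ≥ V₀ ≥ 1` act as `p`-elements. -/
lemma conj_pow_of_central {y v w : G} (hw : y * v * y⁻¹ * v⁻¹ = w) (hyw : y * w = w * y) (m : ℕ) :
    y ^ m * v * (y ^ m)⁻¹ = w ^ m * v := by
  induction m with
  | zero => simp
  | succ m ih =>
    have e1 : y * v * y⁻¹ = w * v := by
      rw [← hw]
      group
    have e2 : y * w ^ m = w ^ m * y := (Commute.pow_right hyw m)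
    calc y ^ (m + 1) * v * (y ^ (m + 1))⁻¹ = y * (y ^ m * v * (y ^ m)⁻¹) * y⁻¹ := by
          rw [pow_succ']
          group
      _ = y * (w ^ m * v) * y⁻¹ := by rw [ih]
      _ = (y * w ^ m) * v * y⁻¹ := by group
      _ = w ^ m * (y * v * y⁻¹) := by rw [e2]; group
      _ = w ^ m * (w * v) := by rw [e1]
      _ = w ^ (m + 1) * v := by rw [pow_succ]; group

/-- On a subgroup in good position, an element which is trivial modulo `V₀` acts like an element of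
the Sylow subgroup, provided `G / C(V₀)` is a `p`-group. -/
theorem tame_sigma (P : Sylow p G) {V V₀ : Subgroup G} (hV₀n : V₀.Normal) (hV₀p : IsPGroup p V₀)
    (hcp : ∀ g : G, ∃ k : ℕ, g ^ p ^ k ∈ Subgroup.centralizer (V₀ : Set G))
    (htame : ¬ p ∣ ((P : Subgroup G) ⊓ NN V).relIndex (NN V))
    {s : G} (hs : s ∈ NN V) (hsV : ∀ v ∈ V, s * v * s⁻¹ * v⁻¹ ∈ V₀) :
    ∃ u ∈ (P : Subgroup G) ⊓ NN V, ∀ v ∈ V, u * v * u⁻¹ = s * v * s⁻¹ := by
  classical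
  set N := NN V with hN
  set Cn : Subgroup N := (Subgroup.centralizer (V : Set G)).subgroupOf N with hCn
  let π := QuotientGroup.mk' Cn
  have hπs : Function.Surjective π := QuotientGroup.mk'_surjective Cn
  have hπ1 : ∀ x : N, π x = 1 ↔ x ∈ Cn := fun x => QuotientGroup.eq_one_iff x
  -- the subgroup of elements trivial on `V / V₀`
  let Sg : Subgroup N :=
    { carrier := {z | ∀ v ∈ V, (z : G) * v * (z : G)⁻¹ * v⁻¹ ∈ V₀}
      mul_mem' := by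
        intro a b ha hb v hv
        have e : ((a * b : N) : G) * v * ((a * b : N) : G)⁻¹ * v⁻¹ =
            (a : G) * ((b : G) * v * (b : G)⁻¹ * v⁻¹) * (a : G)⁻¹ * ((a : G) * v * (a : G)⁻¹ * v⁻¹) := by
          simp only [Subgroup.coe_mul]
          group
        rw [e]
        exact V₀.mul_mem (hV₀n.conj_mem _ (hb v hv) _) (ha v hv)
      one_mem' := by
        intro v _
        simp
      inv_mem' := by
        intro a ha v hv
        have h1 : (a : G)⁻¹ * v * a ∈ V := by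
          have := (Subgroup.mem_normalizer_iff.mp (Subgroup.inv_mem _ a.2) v).mp hv
          simpa using this
        have h2 := ha _ h1
        have e : ((a⁻¹ : N) : G) * v * ((a⁻¹ : N) : G)⁻¹ * v⁻¹ =
            ((a : G) * ((a : G)⁻¹ * v * a) * (a : G)⁻¹ * ((a : G)⁻¹ * v * a)⁻¹)⁻¹ := by
          simp only [Subgroup.coe_inv]
          group
        rw [e]
        exact V₀.inv_mem h2 }
  have hSgn : Sg.Normal := by
    refine ⟨fun z hz g v hv => ?_⟩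
    have h1 : (g : G)⁻¹ * v * g ∈ V := by
      have := (Subgroup.mem_normalizer_iff.mp (Subgroup.inv_mem _ g.2) v).mp hv
      simpa using this
    have h2 := hz _ h1
    have e : ((g * z * g⁻¹ : N) : G) * v * ((g * z * g⁻¹ : N) : G)⁻¹ * v⁻¹ =
        (g : G) * ((z : G) * ((g : G)⁻¹ * v * g) * (z : G)⁻¹ * ((g : G)⁻¹ * v * g)⁻¹) * (g : G)⁻¹ := by
      simp only [Subgroup.coe_mul, Subgroup.coe_inv]
      group
    rw [e]
    exact hV₀n.conj_mem _ h2 _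
  have hSgp : IsPGroup p (Sg.map π) := by
    rintro ⟨_, z, hz, rfl⟩
    obtain ⟨a, ha⟩ := hcp (z : G)
    obtain ⟨b, hb⟩ := IsPGroup.iff_card.mp hV₀p
    refine ⟨a + b, ?_⟩
    apply Subtype.ext
    simp only [Subgroup.coe_pow, Subgroup.coe_one]
    rw [← map_pow, hπ1, hCn, Subgroup.mem_subgroupOf]
    set z₁ : N := z ^ p ^ a with hz₁
    have hz₁Sg : z₁ ∈ Sg := Sg.pow_mem hz _
    have hz₁C : (z₁ : G) ∈ Subgroup.centralizer (V₀ : Set G) := by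
      rw [hz₁]
      simpa using ha
    have e : z ^ p ^ (a + b) = z₁ ^ p ^ b := by
      rw [hz₁, pow_add, pow_mul]
    rw [e]
    change ((z₁ : G) ^ p ^ b) ∈ Subgroup.centralizer (V : Set G)
    rw [Subgroup.mem_centralizer_iff]
    intro v hv
    have hw := hz₁Sg v hv
    have hyw := (Subgroup.mem_centralizer_iff.mp hz₁C) _ hw
    have h2 := conj_pow_of_central rfl hyw.symm (p ^ b)
    have h3 : ((z₁ : G) * v * (z₁ : G)⁻¹ * v⁻¹) ^ p ^ b = 1 := by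
      have h4 := pow_card_eq_one' (x := (⟨_, hw⟩ : V₀))
      rw [hb] at h4
      exact congrArg Subtype.val h4
    rw [h3, one_mul] at h2
    calc v * (z₁ : G) ^ p ^ b = ((z₁ : G) ^ p ^ b * v * ((z₁ : G) ^ p ^ b)⁻¹) * (z₁ : G) ^ p ^ b := by
          rw [h2]
      _ = _ := by group
  have hSgn' : (Sg.map π).Normal := hSgn.map π hπs
  have hcore : Sg.map π ≤ Cfsg.pCore p (N ⧸ Cn) := le_pCore hSgn' hSgp
  have hpg : IsPGroup p (((P : Subgroup G) ⊓ N).subgroupOf N) :=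
    (P.isPGroup'.to_le inf_le_left).comap_subtype
  let S : Sylow p N := hpg.toSylow htame
  let Sb : Sylow p (N ⧸ Cn) := S.mapSurjective hπs
  have hSb : (Sb : Subgroup (N ⧸ Cn)) = (S : Subgroup N).map π := Sylow.coe_mapSurjective hπs S
  have hsSg : (⟨s, hs⟩ : N) ∈ Sg := hsV
  have h1 : π ⟨s, hs⟩ ∈ (Sb : Subgroup (N ⧸ Cn)) := pCore_le_sylow Sb (hcore ⟨_, hsSg, rfl⟩)
  rw [hSb] at h1
  obtain ⟨u, hu, e⟩ := h1
  refine ⟨u, Subgroup.mem_subgroupOf.mp hu, fun v hv => ?_⟩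
  have h2 : u⁻¹ * ⟨s, hs⟩ ∈ Cn := by
    rw [← hπ1, map_mul, map_inv, e, inv_mul_cancel]
  rw [hCn, Subgroup.mem_subgroupOf] at h2
  have h3 := (Subgroup.mem_centralizer_iff.mp h2) v hv
  have h4 : v * ((u : G)⁻¹ * s) = ((u : G)⁻¹ * s) * v := by
    simpa using h3
  have h5 : s * v * s⁻¹ = (u : G) * (((u : G)⁻¹ * s) * v * ((u : G)⁻¹ * s)⁻¹) * (u : G)⁻¹ := by group
  rw [h5, ← h4]
  group

/-- Elements trivial modulo `V₀` are controlled. -/
theorem sigma_lemma (P : Sylow p G) {D : Subgroup G} (hD : IsStronglyClosed D (P : Subgroup G))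
    {N₀ : ℕ} (hA : ∀ R : Subgroup G, R ≤ (P : Subgroup G) → N₀ < Nat.card R →
      Ctrl P (NN ((elFam G n).zz D)) R)
    {V₀ : Subgroup G} (hV₀n : V₀.Normal) (hV₀p : IsPGroup p V₀)
    (hcp : ∀ g : G, ∃ k : ℕ, g ^ p ^ k ∈ Subgroup.centralizer (V₀ : Set G))
    {Q₂ : Subgroup G} (hQ₂P : Q₂ ≤ (P : Subgroup G)) (hQ₂n : N₀ ≤ Nat.card Q₂) {s : G} (hs : s ∈ NN Q₂)
    (hsQ : ∀ r ∈ Q₂, s * r * s⁻¹ * r⁻¹ ∈ V₀) :
    ∃ y ∈ NN ((elFam G n).zz D), ∀ r ∈ Q₂, s * r * s⁻¹ = y * r * y⁻¹ := by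
  classical
  have hPX : (P : Subgroup G) ≤ NN ((elFam G n).zz D) :=
    (sylow_le_normalizer_of_closed hD).trans (zz_normalizer_ge n D)
  by_cases hQ₂top : Q₂ = (P : Subgroup G)
  · refine ⟨s, zz_normalizer_ge n D ?_, fun _ _ => rfl⟩
    apply mem_normalizer_of_map_conj_le
    rintro _ ⟨d, hd, rfl⟩
    refine hD.2 d hd s ?_
    have h1 : d ∈ Q₂ := hQ₂top ▸ hD.1 hd
    exact hQ₂P ((Subgroup.mem_normalizer_iff.mp hs d).mp h1)
  set R := (P : Subgroup G) ⊓ NN Q₂ with hR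
  have hRp : IsPGroup p R := P.isPGroup'.to_le inf_le_left
  have hQ₂R : Q₂ ≤ R := le_inf hQ₂P Subgroup.le_normalizer
  have hcard : Nat.card Q₂ < Nat.card R := by
    obtain ⟨u, huP, huS, huN⟩ := Cfsg.Agent.H14.exists_mem_normalizer_of_pgroup P.isPGroup' hQ₂P hQ₂top
    apply card_lt_of_lt
    refine lt_of_le_of_ne hQ₂R ?_
    intro h
    apply huS
    rw [h]
    exact ⟨huP, huN⟩
  obtain ⟨y₀, hy₀R, htame⟩ := exists_tame2 P hRp (inf_le_right : R ≤ NN Q₂)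
  obtain ⟨x₀, hx₀X, hx₀⟩ := hA R inf_le_left (by omega) y₀ (fun r hr => hy₀R ⟨r, hr, rfl⟩)
  set V := Q₂.map (MulAut.conj y₀).toMonoidHom with hV
  have hVmem : ∀ r ∈ Q₂, x₀ * r * x₀⁻¹ ∈ V := by
    intro r hr
    rw [← hx₀ r (hQ₂R hr)]
    exact ⟨r, hr, rfl⟩
  have hVmem' : ∀ v ∈ V, x₀⁻¹ * v * x₀ ∈ Q₂ := by
    rintro _ ⟨r, hr, rfl⟩
    change x₀⁻¹ * (y₀ * r * y₀⁻¹) * x₀ ∈ Q₂
    rw [hx₀ r (hQ₂R hr)]
    have e : x₀⁻¹ * (x₀ * r * x₀⁻¹) * x₀ = r := by group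
    rw [e]
    exact hr
  set s' := x₀ * s * x₀⁻¹ with hs'
  have hs'N : s' ∈ NN V := by
    apply mem_normalizer_of_map_conj_le
    rintro _ ⟨v, hv, rfl⟩
    change s' * v * s'⁻¹ ∈ V
    have h1 := hVmem' v hv
    have h2 : s * (x₀⁻¹ * v * x₀) * s⁻¹ ∈ Q₂ := (Subgroup.mem_normalizer_iff.mp hs _).mp h1
    have h3 := hVmem _ h2
    have e : x₀ * (s * (x₀⁻¹ * v * x₀) * s⁻¹) * x₀⁻¹ = s' * v * s'⁻¹ := by
      rw [hs']
      group
    rwa [e] at h3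
  obtain ⟨u, hu, hue⟩ := tame_sigma P hV₀n hV₀p hcp htame hs'N (by
    intro v hv
    have h1 := hsQ _ (hVmem' v hv)
    have h2 := hV₀n.conj_mem _ h1 x₀
    have e : x₀ * (s * (x₀⁻¹ * v * x₀) * s⁻¹ * (x₀⁻¹ * v * x₀)⁻¹) * x₀⁻¹ = s' * v * s'⁻¹ * v⁻¹ := by
      rw [hs']
      group
    rwa [e] at h2)
  refine ⟨x₀⁻¹ * u * x₀, Subgroup.mul_mem _ (Subgroup.mul_mem _ (Subgroup.inv_mem _ hx₀X) (hPX hu.1)) hx₀X, ?_⟩
  intro r hr
  have h1 := hue _ (hVmem r hr)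
  have e1 : s' * (x₀ * r * x₀⁻¹) * s'⁻¹ = x₀ * (s * r * s⁻¹) * x₀⁻¹ := by
    rw [hs']
    group
  rw [e1] at h1
  calc s * r * s⁻¹ = x₀⁻¹ * (x₀ * (s * r * s⁻¹) * x₀⁻¹) * x₀ := by group
    _ = x₀⁻¹ * (u * (x₀ * r * x₀⁻¹) * u⁻¹) * x₀ := by rw [h1]
    _ = _ := by group

/-- The case where `G / C(V₀)` is a `p`-group, `V₀ = O_p(G)`. -/
theorem cp_case (hn : n = 0 ∨ n = p) (P : Sylow p G) {D : Subgroup G}
    (hD : IsStronglyClosed D (P : Subgroup G))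
    {N₀ : ℕ} (hA : ∀ R : Subgroup G, R ≤ (P : Subgroup G) → N₀ < Nat.card R →
      Ctrl P (NN ((elFam G n).zz D)) R)
    (hsubT : ∀ H : Subgroup G, H ≠ ⊤ → TT p n ↥H)
    (hquot : TT p n (G ⧸ Cfsg.pCore p G))
    (hcp : ∀ g : G, ∃ k : ℕ, g ^ p ^ k ∈ Subgroup.centralizer ((Cfsg.pCore p G : Subgroup G) : Set G))
    {Q : Subgroup G} (hQ : Q ≤ (P : Subgroup G)) (hQn : N₀ ≤ Nat.card Q)
    (hV₀Q : Cfsg.pCore p G ≤ Q) {t : G} (ht : ∀ q ∈ Q, t * q * t⁻¹ ∈ (P : Subgroup G)) :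
    ∃ x ∈ NN ((elFam G n).zz D), ∀ q ∈ Q, t * q * t⁻¹ = x * q * x⁻¹ := by
  classical
  set V₀ := Cfsg.pCore p G with hV₀
  have hV₀n : V₀.Normal := Cfsg.Agent.H01.pCore_normal p
  have hV₀p : IsPGroup p V₀ := Cfsg.Agent.H01.pCore_isPGroup p
  have hV₀P : V₀ ≤ (P : Subgroup G) := Cfsg.Agent.H01.pCore_le_sylow p P
  haveI := hV₀n
  by_cases hDV : D ≤ V₀
  · refine ⟨t, ?_, fun _ _ => rfl⟩
    have hDn : D.Normal := ⟨fun d hd g => hD.2 d hd g (hV₀P (hV₀n.conj_mem d (hDV hd) g))⟩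
    have h1 : NN D = ⊤ := Subgroup.normalizer_eq_top_iff.mpr hDn
    have h2 : t ∈ NN D := by rw [h1]; trivial
    exact zz_normalizer_ge n D h2
  let π := QuotientGroup.mk' V₀
  have hπs : Function.Surjective π := QuotientGroup.mk'_surjective V₀
  have hπ1 : ∀ x : G, π x = 1 ↔ x ∈ V₀ := fun x => QuotientGroup.eq_one_iff x
  let Pb : Sylow p (G ⧸ V₀) := P.mapSurjective hπs
  have hPb : (Pb : Subgroup (G ⧸ V₀)) = (P : Subgroup G).map π := Sylow.coe_mapSurjective hπs P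
  have hmodP : ∀ g : G, π g ∈ (P : Subgroup G).map π → g ∈ (P : Subgroup G) := by
    rintro g ⟨u, hu, e⟩
    have h1 : u⁻¹ * g ∈ V₀ := by
      rw [← hπ1, map_mul, map_inv, e, inv_mul_cancel]
    have h2 := (P : Subgroup G).mul_mem hu (hV₀P h1)
    simpa using h2
  have hcl : IsStronglyClosed (D.map π) (Pb : Subgroup (G ⧸ V₀)) := by
    refine ⟨by rw [hPb]; exact Subgroup.map_mono hD.1, ?_⟩
    rintro _ ⟨x, hx, rfl⟩ gb hgb
    obtain ⟨g, rfl⟩ := hπs gb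
    rw [hPb] at hgb
    have h1 : g * x * g⁻¹ ∈ (P : Subgroup G) := hmodP _ (by simpa only [map_mul, map_inv] using hgb)
    refine ⟨_, hD.2 x hx g h1, ?_⟩
    simp only [map_mul, map_inv]
  have hDbp : IsPGroup p (D.map π) := (P.isPGroup'.to_le hD.1).map π
  have hDbne : D.map π ≠ ⊥ := by
    intro h
    apply hDV
    intro d hd
    have h1 : π d ∈ D.map π := ⟨d, hd, rfl⟩
    rw [h] at h1
    exact (hπ1 d).mp (Subgroup.mem_bot.mp h1)
  set Zb := (elFam (G ⧸ V₀) n).zz (D.map π) with hZb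
  have hZbne : Zb ≠ ⊥ := zz_ne_bot n hn hDbp hDbne
  have hZbD : Zb ≤ D.map π := (zz_le_jj _).trans (jj_le _)
  obtain ⟨xb, hxbN, hxb⟩ := hquot Pb (D.map π) hcl (Q.map π)
    (by rw [hPb]; exact Subgroup.map_mono hQ) (π t) (by
      rintro _ ⟨q, hq, rfl⟩
      rw [hPb]
      exact ⟨t * q * t⁻¹, ht q hq, by simp only [map_mul, map_inv]⟩)
  obtain ⟨x₀, rfl⟩ := hπs xb
  let M : Subgroup G := Zb.comap π
  have hMP : M ≤ (P : Subgroup G) := by
    intro m hm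
    have h1 : π m ∈ Zb := hm
    have h2 := hcl.1 (hZbD h1)
    rw [hPb] at h2
    exact hmodP _ h2
  have hMp : IsPGroup p M := P.isPGroup'.to_le hMP
  have hMnn : ¬ M.Normal := by
    intro hMn
    have h1 : M ≤ V₀ := Cfsg.Agent.H01.le_pCore hMn hMp
    apply hZbne
    rw [eq_bot_iff]
    intro z hz
    obtain ⟨g, rfl⟩ := hπs z
    exact Subgroup.mem_bot.mpr ((hπ1 g).mpr (h1 hz))
  have hNMne : NN M ≠ ⊤ := fun h => hMnn (Subgroup.normalizer_eq_top_iff.mp h)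
  have hPM : (P : Subgroup G) ≤ NN M := by
    intro u hu
    refine comap_mem_normalizer π (zz_normalizer_ge n _ ?_)
    refine sylow_le_normalizer_of_closed hcl ?_
    rw [hPb]
    exact ⟨u, hu, rfl⟩
  have hx₀M : x₀ ∈ NN M := comap_mem_normalizer π hxbN
  have hmodq : ∀ q ∈ Q, π (x₀ * q * x₀⁻¹) = π (t * q * t⁻¹) := by
    intro q hq
    have h1 := hxb (π q) ⟨q, hq, rfl⟩
    simp only [map_mul, map_inv] at h1 ⊢
    exact h1.symm
  have hx₀P : ∀ q ∈ Q, x₀ * q * x₀⁻¹ ∈ (P : Subgroup G) := by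
    intro q hq
    apply hmodP
    rw [hmodq q hq]
    exact ⟨_, ht q hq, rfl⟩
  obtain ⟨x₁, hx₁X, hx₁⟩ := sub_step_top P hD (NN M) (hsubT _ hNMne) hPM hx₀M hQ hx₀P
  have hmodx : ∀ q ∈ Q, π (x₁ * q * x₁⁻¹) = π (t * q * t⁻¹) := by
    intro q hq
    rw [hx₁ q hq, hmodq q hq]
  set Q₂ := Q.map (MulAut.conj x₁).toMonoidHom with hQ₂
  set Q₃ := Q.map (MulAut.conj t).toMonoidHom with hQ₃
  have hV₀Q₃ : V₀ ≤ Q₃ := by
    intro v hv
    refine ⟨t⁻¹ * v * t, hV₀Q ?_, ?_⟩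
    · have := hV₀n.conj_mem v hv t⁻¹
      simpa using this
    · change t * (t⁻¹ * v * t) * t⁻¹ = v
      group
  have hQ₂Q₃ : Q₂ ≤ Q₃ := by
    rintro _ ⟨q, hq, rfl⟩
    change x₁ * q * x₁⁻¹ ∈ Q₃
    have h1 : (t * q * t⁻¹)⁻¹ * (x₁ * q * x₁⁻¹) ∈ V₀ := by
      rw [← hπ1, map_mul, map_inv, hmodx q hq, inv_mul_cancel]
    have h2 := Q₃.mul_mem (show t * q * t⁻¹ ∈ Q₃ from ⟨q, hq, rfl⟩) (hV₀Q₃ h1)
    rwa [mul_inv_cancel_left] at h2
  have hcQ₂ : Nat.card Q₂ = Nat.card Q :=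
    (Nat.card_congr ((MulAut.conj x₁).subgroupMap Q).toEquiv).symm
  have hcQ₃ : Nat.card Q₃ = Nat.card Q :=
    (Nat.card_congr ((MulAut.conj t).subgroupMap Q).toEquiv).symm
  have hQ₂eq : Q₂ = Q₃ := Subgroup.eq_of_le_of_card_ge hQ₂Q₃ (by omega)
  set s := t * x₁⁻¹ with hs
  have hsq : ∀ q, s * (x₁ * q * x₁⁻¹) * s⁻¹ = t * q * t⁻¹ := by
    intro q
    rw [hs]
    group
  have hsN : s ∈ NN Q₂ := by
    apply mem_normalizer_of_map_conj_le
    rintro _ ⟨_, ⟨q, hq, rfl⟩, rfl⟩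
    change s * (x₁ * q * x₁⁻¹) * s⁻¹ ∈ Q₂
    rw [hsq, hQ₂eq]
    exact ⟨q, hq, rfl⟩
  have hQ₂P : Q₂ ≤ (P : Subgroup G) := by
    rintro _ ⟨q, hq, rfl⟩
    change x₁ * q * x₁⁻¹ ∈ (P : Subgroup G)
    rw [hx₁ q hq]
    exact hx₀P q hq
  obtain ⟨y, hyX, hy⟩ := sigma_lemma P hD hA hV₀n hV₀p hcp hQ₂P (by omega) hsN (by
    rintro _ ⟨q, hq, rfl⟩
    change s * (x₁ * q * x₁⁻¹) * s⁻¹ * (x₁ * q * x₁⁻¹)⁻¹ ∈ V₀
    rw [hsq, ← hπ1, map_mul, map_inv, hmodx q hq, mul_inv_cancel])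
  refine ⟨y * x₁, Subgroup.mul_mem _ hyX hx₁X, fun q hq => ?_⟩
  have h1 := hy (x₁ * q * x₁⁻¹) ⟨q, hq, rfl⟩
  rw [hsq] at h1
  rw [h1]
  group

/-- The `p'`-core of the normal subgroup `C` is trivial when that of `G` is. -/
theorem centralizer_le_of_central_sylow (P : Sylow p G) (hL1 : Cfsg.pPrimeCore p G = ⊥)
    {C V₀ : Subgroup G} [hCn : C.Normal] (hV₀C : ∀ c ∈ C, ∀ v ∈ V₀, v * c = c * v)
    (hPC : (P : Subgroup G) ⊓ C ≤ V₀) : C ≤ V₀ := by
  classical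
  let Z : Subgroup C := (P : Subgroup G).subgroupOf C
  have hZp : IsPGroup p Z := P.isPGroup'.comap_subtype
  have hi : ¬ p ∣ Z.index := by
    have h := not_dvd_sylow_inf_normal P C
    rw [Subgroup.inf_relIndex_right] at h
    exact h
  have hZc : Z ≤ Subgroup.center C := by
    intro z hz
    rw [Subgroup.mem_center_iff]
    intro c
    apply Subtype.ext
    have h1 : (z : G) ∈ V₀ := hPC ⟨Subgroup.mem_subgroupOf.mp hz, z.2⟩
    exact (hV₀C c c.2 z h1).symm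
  have h1 := Cfsg.Agent.H09.sup_pPrimeCore_of_central_aux Z hZp hi hZc
  have h2 : Cfsg.pPrimeCore p C = ⊥ := by
    have h3 := Cfsg.Agent.H21.map_pPrimeCore_le (G := G) (p := p) (H := C)
    rw [hL1, le_bot_iff, Subgroup.map_eq_bot_iff_of_injective _ C.subtype_injective] at h3
    exact h3
  rw [h2, sup_bot_eq] at h1
  intro c hc
  have h3 : (⟨c, hc⟩ : C) ∈ Z := by rw [h1]; trivial
  exact hPC ⟨Subgroup.mem_subgroupOf.mp h3, hc⟩

/-- The case where `G / C(V₀)` is not generated by `P`. -/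
theorem noncp_case (P : Sylow p G) {D : Subgroup G} (hD : IsStronglyClosed D (P : Subgroup G))
    (hsubT : ∀ H : Subgroup G, H ≠ ⊤ → TT p n ↥H) {C : Subgroup G} [hCn : C.Normal]
    (hP₁ : ¬ ((P : Subgroup G) ⊓ C).Normal) (hG₂ : (P : Subgroup G) ⊔ C ≠ ⊤)
    {Q : Subgroup G} (hQ : Q ≤ (P : Subgroup G)) {t : G} (ht : ∀ q ∈ Q, t * q * t⁻¹ ∈ (P : Subgroup G)) :
    ∃ x ∈ NN ((elFam G n).zz D), ∀ q ∈ Q, t * q * t⁻¹ = x * q * x⁻¹ := by
  classical
  set P₁ := (P : Subgroup G) ⊓ C with hP₁def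
  have hP₁P : P₁ ≤ (P : Subgroup G) := inf_le_left
  set Q₃ := Q.map (MulAut.conj t).toMonoidHom with hQ₃
  have hQ₃P : Q₃ ≤ (P : Subgroup G) := by
    rintro _ ⟨q, hq, rfl⟩
    exact ht q hq
  set Qs := Q ⊔ P₁ with hQs
  set Rs := Q₃ ⊔ P₁ with hRs
  have hQsP : Qs ≤ (P : Subgroup G) := sup_le hQ hP₁P
  have hRsP : Rs ≤ (P : Subgroup G) := sup_le hQ₃P hP₁P
  have hRsp : IsPGroup p Rs := P.isPGroup'.to_le hRsP
  have hA₀p : IsPGroup p (Qs.map (MulAut.conj t).toMonoidHom) :=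
    (P.isPGroup'.to_le hQsP).map _
  have hA₀le : Qs.map (MulAut.conj t).toMonoidHom ≤ Rs ⊔ C := by
    rw [hQs, Subgroup.map_sup]
    refine sup_le (le_sup_of_le_left le_sup_left) (le_sup_of_le_right ?_)
    rintro _ ⟨c, hc, rfl⟩
    exact hCn.conj_mem c hc.2 t
  have hidx : ¬ p ∣ (Rs ⊓ C).relIndex C := by
    have h1 : P₁ ≤ Rs ⊓ C := le_inf le_sup_right inf_le_right
    intro h
    exact not_dvd_sylow_inf_normal P C (h.trans (Subgroup.relIndex_dvd_of_le_left C h1))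
  obtain ⟨c₃, hc₃, hc₃A⟩ := exists_conj_of_sylow_inf hCn hRsp hidx hA₀p hA₀le
  set h' := c₃ * t with hh'
  have hh'Qs : ∀ q ∈ Qs, h' * q * h'⁻¹ ∈ Rs := by
    intro q hq
    have h1 := hc₃A (t * q * t⁻¹) ⟨q, hq, rfl⟩
    have e : h' * q * h'⁻¹ = c₃ * (t * q * t⁻¹) * c₃⁻¹ := by
      rw [hh']
      group
    rw [e]
    exact h1
  have hh'N : h' ∈ NN P₁ := by
    apply mem_normalizer_of_map_conj_le
    rintro _ ⟨c, hc, rfl⟩
    change h' * c * h'⁻¹ ∈ P₁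
    exact ⟨hRsP (hh'Qs c (Subgroup.mem_sup_right hc)), hCn.conj_mem c hc.2 h'⟩
  have hNP₁ne : NN P₁ ≠ ⊤ := fun h => hP₁ (Subgroup.normalizer_eq_top_iff.mp h)
  have hPN : (P : Subgroup G) ≤ NN P₁ := by
    intro u hu
    apply mem_normalizer_of_map_conj_le
    rintro _ ⟨c, hc, rfl⟩
    change u * c * u⁻¹ ∈ P₁
    exact ⟨(P : Subgroup G).mul_mem ((P : Subgroup G).mul_mem hu hc.1) ((P : Subgroup G).inv_mem hu),
      hCn.conj_mem c hc.2 u⟩
  obtain ⟨x₁, hx₁X, hx₁⟩ := sub_step_top P hD (NN P₁) (hsubT _ hNP₁ne) hPN hh'N hQ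
    (fun q hq => hRsP (hh'Qs q (Subgroup.mem_sup_left hq)))
  set c₂ := c₃⁻¹ with hc₂
  have hc₂G : c₂ ∈ (P : Subgroup G) ⊔ C := Subgroup.mem_sup_right (C.inv_mem hc₃)
  have hQ'P : Q.map (MulAut.conj h').toMonoidHom ≤ (P : Subgroup G) := by
    rintro _ ⟨q, hq, rfl⟩
    exact hRsP (hh'Qs q (Subgroup.mem_sup_left hq))
  have hc₂q : ∀ q, c₂ * (h' * q * h'⁻¹) * c₂⁻¹ = t * q * t⁻¹ := by
    intro q
    rw [hc₂, hh']
    group
  obtain ⟨y, hyX, hy⟩ := sub_step_top P hD ((P : Subgroup G) ⊔ C) (hsubT _ hG₂) le_sup_left hc₂G hQ'P (by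
    rintro _ ⟨q, hq, rfl⟩
    change c₂ * (h' * q * h'⁻¹) * c₂⁻¹ ∈ (P : Subgroup G)
    rw [hc₂q]
    exact ht q hq)
  refine ⟨y * x₁, Subgroup.mul_mem _ hyX hx₁X, fun q hq => ?_⟩
  have h1 := hy (h' * q * h'⁻¹) ⟨q, hq, rfl⟩
  rw [hc₂q] at h1
  rw [← h1, ← hx₁ q hq]
  group

/-- Groups with a nontrivial normal `p`-subgroup and no normal `p'`-subgroup. -/
theorem normal_case (hp2 : p ≠ 2) (hn : n = 0 ∨ n = p) (P : Sylow p G) {D : Subgroup G}
    (hD : IsStronglyClosed D (P : Subgroup G)) (hst : Cfsg.IsNormalizerPStable p G)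
    {N₀ : ℕ} (hA : ∀ R : Subgroup G, R ≤ (P : Subgroup G) → N₀ < Nat.card R →
      Ctrl P (NN ((elFam G n).zz D)) R)
    (hsubT : ∀ H : Subgroup G, H ≠ ⊤ → TT p n ↥H)
    (hquot : (∀ g : G, ∃ k : ℕ, g ^ p ^ k ∈ Subgroup.centralizer ((Cfsg.pCore p G : Subgroup G) : Set G)) →
      TT p n (G ⧸ Cfsg.pCore p G))
    (hL1 : Cfsg.pPrimeCore p G = ⊥)
    {Q : Subgroup G} (hQ : Q ≤ (P : Subgroup G)) (hQn : N₀ ≤ Nat.card Q)
    {t : G} (ht : ∀ q ∈ Q, t * q * t⁻¹ ∈ (P : Subgroup G)) :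
    ∃ x ∈ NN ((elFam G n).zz D), ∀ q ∈ Q, t * q * t⁻¹ = x * q * x⁻¹ := by
  classical
  set V₀ := Cfsg.pCore p G with hV₀
  have hV₀n : V₀.Normal := Cfsg.Agent.H01.pCore_normal p
  have hV₀p : IsPGroup p V₀ := Cfsg.Agent.H01.pCore_isPGroup p
  have hV₀P : V₀ ≤ (P : Subgroup G) := Cfsg.Agent.H01.pCore_le_sylow p P
  haveI := hV₀n
  -- first make `Q` contain `V₀`
  by_cases hV₀Q : V₀ ≤ Q
  swap
  · have hlt : Q < Q ⊔ V₀ := lt_of_le_of_ne le_sup_left (fun h => hV₀Q (by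
      rw [h]
      exact le_sup_right))
    have hc : Nat.card Q < Nat.card (Q ⊔ V₀ : Subgroup G) := card_lt_of_lt hlt
    obtain ⟨x, hx, he⟩ := hA (Q ⊔ V₀) (sup_le hQ hV₀P) (by omega) t (by
      have hle : Q ⊔ V₀ ≤ (P : Subgroup G).comap (MulAut.conj t).toMonoidHom := by
        refine sup_le (fun q hq => ht q hq) (fun v hv => ?_)
        exact hV₀P (hV₀n.conj_mem v hv t)
      exact fun r hr => hle hr)
    exact ⟨x, hx, fun q hq => he q (Subgroup.mem_sup_left hq)⟩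
  set C := Subgroup.centralizer (V₀ : Set G) with hC
  haveI hCn : C.Normal := Subgroup.normal_centralizer
  by_cases hCV : C ≤ V₀
  · refine ⟨t, ?_, fun _ _ => rfl⟩
    have h1 := zz_normal (elFam G n) hp2 P hD hst hCV
    have h2 : NN ((elFam G n).zz D) = ⊤ := Subgroup.normalizer_eq_top_iff.mpr h1
    rw [h2]
    trivial
  by_cases hG₂ : (P : Subgroup G) ⊔ C = ⊤
  · have hcp : ∀ g : G, ∃ k : ℕ, g ^ p ^ k ∈ C := by
      intro g
      have hg : g ∈ (P : Subgroup G) ⊔ C := by rw [hG₂]; trivial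
      obtain ⟨u, hu, c, hc, rfl⟩ := Subgroup.mem_sup_of_normal_right.mp hg
      obtain ⟨k, hk⟩ := P.isPGroup' ⟨u, hu⟩
      have hk' : u ^ p ^ k = 1 := congrArg Subtype.val hk
      refine ⟨k, ?_⟩
      have hc1 : QuotientGroup.mk' C c = 1 := (QuotientGroup.eq_one_iff c).mpr hc
      have h1 : QuotientGroup.mk' C ((u * c) ^ p ^ k) = 1 := by
        rw [map_pow, map_mul, hc1, mul_one, ← map_pow, hk', map_one]
      exact (QuotientGroup.eq_one_iff _).mp h1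
    exact cp_case hn P hD hA hsubT (hquot hcp) hcp hQ hQn hV₀Q ht
  · have hP₁ : ¬ ((P : Subgroup G) ⊓ C).Normal := by
      intro h
      have h1 : (P : Subgroup G) ⊓ C ≤ V₀ :=
        Cfsg.Agent.H01.le_pCore h (P.isPGroup'.to_le inf_le_left)
      apply hCV
      refine centralizer_le_of_central_sylow P hL1 ?_ h1
      intro c hc v hv
      exact (Subgroup.mem_centralizer_iff.mp hc) v hv
    exact noncp_case P hD hsubT hP₁ hG₂ hQ ht

end Normal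

section Main

/-- A class of groups in which the induction runs. -/
structure FusClass (p : ℕ) (Cl : ∀ (Y : Type u) [Group Y], Prop) : Prop where
  stable : ∀ (Y : Type u) [Group Y] [Finite Y], Cl Y → Cfsg.IsNormalizerPStable p Y
  sub : ∀ (Y : Type u) [Group Y] [Finite Y] (H : Subgroup Y), Cl Y → Cl ↥H
  quotQ : ∀ (Y : Type u) [Group Y] [Finite Y] (L : Subgroup Y) [L.Normal], (Nat.card L).Coprime p →
    Cl Y → Cl (Y ⧸ L)
  quotP : ∀ (Y : Type u) [Group Y] [Finite Y] (V : Subgroup Y) [V.Normal], IsPGroup p V →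
    (∀ g : Y, ∃ k : ℕ, g ^ p ^ k ∈ Subgroup.centralizer (V : Set Y)) → Cl Y → Cl (Y ⧸ V)

variable {p : ℕ} [Fact p.Prime] {n : ℕ}

theorem T_main {Cl : ∀ (Y : Type u) [Group Y], Prop} (hCl : FusClass.{u} p Cl) (hp2 : p ≠ 2)
    (hn : n = 0 ∨ n = p) :
    ∀ (N : ℕ) (G : Type u) [Group G] [Finite G], Nat.card G ≤ N → Cl G → TT p n G := by
  classical
  intro N
  induction N with
  | zero =>
    intro G _ _ hc
    have : 0 < Nat.card G := Nat.card_pos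
    omega
  | succ N ih =>
    intro G _ _ hc hG P D hD B hB
    have hst := hCl.stable G hG
    have hsubT : ∀ H : Subgroup G, H ≠ ⊤ → TT p n ↥H := by
      intro H hH
      apply ih ↥H _ (hCl.sub G H hG)
      have h1 : Nat.card H < Nat.card G := by
        have h2 : H < ⊤ := lt_top_iff_ne_top.mpr hH
        have h3 := card_lt_of_lt h2
        rwa [Subgroup.card_top] at h3
      omega
    have hquotcard : ∀ (L : Subgroup G) [L.Normal], L ≠ ⊥ → Nat.card (G ⧸ L) ≤ N := by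
      intro L _ hL
      have h1 : Nat.card G = Nat.card L * Nat.card (G ⧸ L) := by
        rw [mul_comm]
        exact (Subgroup.card_eq_card_quotient_mul_card_subgroup L)
      have h2 : 1 < Nat.card L := by
        have h3 : (⊥ : Subgroup G) < L := bot_lt_iff_ne_bot.mpr hL
        have h4 := card_lt_of_lt h3
        rwa [Subgroup.card_bot] at h4
      have h5 : 0 < Nat.card (G ⧸ L) := Nat.card_pos
      nlinarith
    by_cases hDne : D = ⊥
    · intro g _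
      refine ⟨g, ?_, fun _ _ => rfl⟩
      have h1 : (elFam G n).zz D = ⊥ := by
        rw [eq_bot_iff, ← hDne]
        exact (zz_le_jj _).trans (jj_le _)
      rw [h1]
      have h2 : NN (⊥ : Subgroup G) = ⊤ := Subgroup.normalizer_eq_top_iff.mpr inferInstance
      rw [h2]
      trivial
    by_cases hL : Cfsg.pPrimeCore p G = ⊥
    · refine ctrl_all' hn P hD hDne ?_ (Nat.card (P : Subgroup G)) B hB (by omega)
      intro N₀ hA V hV hVP htame t ht Q hQ hQn htQ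
      by_cases hNV : NN V = ⊤
      · have hPV : (P : Subgroup G) ⊓ NN V = (P : Subgroup G) := by
          rw [hNV]
          exact inf_top_eq _
        have hVn : V.Normal := Subgroup.normalizer_eq_top_iff.mp hNV
        have hV₀ne : Cfsg.pCore p G ≠ ⊥ := by
          intro h
          apply hV
          have h1 : V ≤ Cfsg.pCore p G :=
            Cfsg.Agent.H01.le_pCore hVn (P.isPGroup'.to_le hVP)
          rw [h] at h1
          exact le_bot_iff.mp h1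
        haveI : (Cfsg.pCore p G).Normal := Cfsg.Agent.H01.pCore_normal p
        obtain ⟨x, hx, he⟩ := normal_case hp2 hn P hD hst hA hsubT
          (fun hcp => ih (G ⧸ Cfsg.pCore p G) (hquotcard _ hV₀ne)
            (hCl.quotP G _ (Cfsg.Agent.H01.pCore_isPGroup p) hcp hG))
          hL (hQ.trans inf_le_left) hQn (fun q hq => (htQ q hq).1)
        refine ⟨x, ?_, fun q hq => (he q hq).symm⟩
        rw [hPV, inf_eq_left.mpr hD.1]
        exact hx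
      · exact sub_step P hD (NN V) (hsubT _ hNV) htame ht hQ htQ
    · haveI hLn : (Cfsg.pPrimeCore p G).Normal := Cfsg.Agent.H03.pPrimeCore_normal'
      have hLc : (Nat.card (Cfsg.pPrimeCore p G)).Coprime p := Cfsg.Agent.H06.coprime_card_pPrimeCore p
      exact ctrl_of_quot P hD hLc
        (ih (G ⧸ Cfsg.pPrimeCore p G) (hquotcard _ hL) (hCl.quotQ G _ hLc hG)) hB

/-- The class of `Qd(p)`-free groups. -/
theorem fusClass_qdFree (hp2 : p ≠ 2) :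
    FusClass.{u} p (fun Y _ => ¬ Cfsg.Involves ↥(Cfsg.qdOver (ZMod p)) Y) where
  stable := fun Y _ _ h => stable_of_not_involves hp2 h
  sub := fun Y _ _ H h h' => h (Cfsg.Agent.H09.Involves.trans' h' (Cfsg.Agent.H09.involves_subgroup H))
  quotQ := fun Y _ _ L _ _ h h' => h (Cfsg.Agent.H09.Involves.trans' h' (Cfsg.Agent.H09.involves_quotient L))
  quotP := fun Y _ _ L _ _ _ h h' => h (Cfsg.Agent.H09.Involves.trans' h' (Cfsg.Agent.H09.involves_quotient L))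

/-- `N(Z(J(D)))` controls strong fusion in `Qd(p)`-free groups. -/
theorem controls_strong_zz_qdFree {G : Type u} [Group G] [Finite G] (hp2 : p ≠ 2) (hn : n = 0 ∨ n = p)
    (hfree : ¬ Cfsg.Involves ↥(Cfsg.qdOver (ZMod p)) G) (P : Sylow p G) {D : Subgroup G}
    (hD : IsStronglyClosed D (P : Subgroup G)) (A : Set G) (hA : A ⊆ (P : Subgroup G)) :
    Cfsg.ControlsStrongFusionOf (NN ((elFam G n).zz D)) (P : Subgroup G) A := by
  classical
  refine ⟨hA, fun g hg => ?_⟩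
  have hB : Subgroup.closure A ≤ (P : Subgroup G) := (Subgroup.closure_le _).mpr hA
  have hcl : Subgroup.closure A ≤ (P : Subgroup G).comap (MulAut.conj g).toMonoidHom := by
    rw [Subgroup.closure_le]
    intro a ha
    exact hg ⟨a, ha, rfl⟩
  obtain ⟨x, hx, hxe⟩ := T_main (fusClass_qdFree hp2) hp2 hn (Nat.card G) G le_rfl hfree P D hD _ hB g
    (fun r hr => hcl hr)
  exact ⟨x, hx, fun a ha => hxe a (Subgroup.subset_closure ha)⟩

end Main

end Cfsg.Agent.H14
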