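import Mathlib
import Cfsg.Agent.Lib.H14.FusionQd

/-! Control of strong fusion when only the normalizers of overgroups of the centre are restricted. -/

set_option autoImplicit false

namespace Cfsg.Agent.H14

open Cfsg Cfsg.Agent.H13 ZJFam Matrix MatrixGroups

open scoped commutatorElement

universe u

section Refactor

variable {G : Type*} [Group G] [Finite G] {p : ℕ} [Fact p.Prime] {n : ℕ}

/-- The local hypothesis used in the chain argument, restricted to a family. -/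
def LocalStepF (p n : ℕ) [Fact p.Prime] {G : Type*} [Group G] (P : Sylow p G) (D : Subgroup G) (N₀ : ℕ)
    (Fam : Subgroup G → Prop) : Prop :=
  ∀ V : Subgroup G, Fam V → V ≠ ⊥ → V ≤ (P : Subgroup G) →
    ¬ p ∣ ((P : Subgroup G) ⊓ NN V).relIndex (NN V) →
    ∀ t ∈ NN V, ∀ Q : Subgroup G, Q ≤ (P : Subgroup G) ⊓ NN V → N₀ ≤ Nat.card Q →
      (∀ q ∈ Q, t * q * t⁻¹ ∈ (P : Subgroup G) ⊓ NN V) →
      ∃ t' ∈ NN ((elFam G n).zz (D ⊓ ((P : Subgroup G) ⊓ NN V))),
        ∀ q ∈ Q, t' * q * t'⁻¹ = t * q * t⁻¹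

/-- The claim on subgroups in good position. -/
theorem claimCF (hn : n = 0 ∨ n = p) (P : Sylow p G) {D : Subgroup G}
    (hD : IsStronglyClosed D (P : Subgroup G)) (hDne : D ≠ ⊥) (N₀ : ℕ) (Fam : Subgroup G → Prop)
    (hFam : ∀ V : Subgroup G, Fam V → V ≤ (P : Subgroup G) → ∀ c : G,
      ((elFam G n).zz (D ⊓ ((P : Subgroup G) ⊓ NN V))).map (MulAut.conj c).toMonoidHom ≤ (P : Subgroup G) →
      Fam (((elFam G n).zz (D ⊓ ((P : Subgroup G) ⊓ NN V))).map (MulAut.conj c).toMonoidHom))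
    (hA : ∀ R : Subgroup G, R ≤ (P : Subgroup G) → N₀ < Nat.card R →
      Ctrl P (NN ((elFam G n).zz D)) R) (hLS : LocalStepF p n P D N₀ Fam) :
    ∀ k : ℕ, ∀ V : Subgroup G, Fam V → V ≠ ⊥ → V ≤ (P : Subgroup G) →
      ¬ p ∣ ((P : Subgroup G) ⊓ NN V).relIndex (NN V) →
      Nat.card (P : Subgroup G) ≤ Nat.card ((P : Subgroup G) ⊓ NN V : Subgroup G) + k →
      ∀ t ∈ NN V, ∀ Q : Subgroup G, Q ≤ (P : Subgroup G) ⊓ NN V → N₀ ≤ Nat.card Q →
        (∀ q ∈ Q, t * q * t⁻¹ ∈ (P : Subgroup G) ⊓ NN V) →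
        ∃ x ∈ NN ((elFam G n).zz D), ∀ q ∈ Q, t * q * t⁻¹ = x * q * x⁻¹ := by
  classical
  have hDP : D ≤ (P : Subgroup G) := hD.1
  have hPD := sylow_le_normalizer_of_closed hD
  have top_case : ∀ V : Subgroup G, Fam V → V ≠ ⊥ → V ≤ (P : Subgroup G) →
      ¬ p ∣ ((P : Subgroup G) ⊓ NN V).relIndex (NN V) → (P : Subgroup G) ⊓ NN V = (P : Subgroup G) →
      ∀ t ∈ NN V, ∀ Q : Subgroup G, Q ≤ (P : Subgroup G) ⊓ NN V → N₀ ≤ Nat.card Q →
        (∀ q ∈ Q, t * q * t⁻¹ ∈ (P : Subgroup G) ⊓ NN V) →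
        ∃ x ∈ NN ((elFam G n).zz D), ∀ q ∈ Q, t * q * t⁻¹ = x * q * x⁻¹ := by
    intro V hFV hV hVP htame hS t ht Q hQ hQn htQ
    obtain ⟨t', ht'N, ht'⟩ := hLS V hFV hV hVP htame t ht Q hQ hQn htQ
    rw [hS, inf_eq_left.mpr hDP] at ht'N
    exact ⟨t', ht'N, fun q hq => (ht' q hq).symm⟩
  intro k
  induction k with
  | zero =>
    intro V hFV hV hVP htame hk t ht Q hQ hQn htQ
    have hS : (P : Subgroup G) ⊓ NN V = (P : Subgroup G) :=
      Subgroup.eq_of_le_of_card_ge inf_le_left (by simpa using hk)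
    exact top_case V hFV hV hVP htame hS t ht Q hQ hQn htQ
  | succ k ih =>
    intro V hFV hV hVP htame hk t ht Q hQ hQn htQ
    by_cases hS : (P : Subgroup G) ⊓ NN V = (P : Subgroup G)
    · exact top_case V hFV hV hVP htame hS t ht Q hQ hQn htQ
    obtain ⟨t', ht'N, ht'⟩ := hLS V hFV hV hVP htame t ht Q hQ hQn htQ
    set S := (P : Subgroup G) ⊓ NN V with hSdef
    have hSP : S ≤ (P : Subgroup G) := inf_le_left
    have hSp : IsPGroup p S := P.isPGroup'.to_le hSP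
    set D₁ := D ⊓ S with hD₁
    have hD₁S : D₁ ≤ S := inf_le_right
    have hD₁p : IsPGroup p D₁ := hSp.to_le hD₁S
    have hD₁ne : D₁ ≠ ⊥ := by
      obtain ⟨w, hw, hw1, hwc⟩ := exists_central_mem hD hDne
      have hwP : w ∈ (P : Subgroup G) := hD.1 hw
      have hwH : w ∈ NN V := by
        apply mem_normalizer_of_map_conj_le
        rintro _ ⟨x, hx, rfl⟩
        change w * x * w⁻¹ ∈ V
        rw [hwc x (hVP hx)]
        simpa using hx
      intro h
      have : w ∈ D₁ := ⟨hw, hwP, hwH⟩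
      rw [h] at this
      exact hw1 (Subgroup.mem_bot.mp this)
    set W₁ := (elFam G n).zz D₁ with hW₁
    have hW₁D : W₁ ≤ D₁ := (zz_le_jj D₁).trans (jj_le D₁)
    have hW₁p : IsPGroup p W₁ := hD₁p.to_le hW₁D
    have hW₁ne : W₁ ≠ ⊥ := zz_ne_bot n hn hD₁p hD₁ne
    set Y := (P : Subgroup G) ⊓ NN W₁ with hY
    have hYp : IsPGroup p Y := P.isPGroup'.to_le inf_le_left
    have hnormS : (P : Subgroup G) ⊓ NN S ≤ NN W₁ := by
      intro v hv
      refine zz_normalizer_ge n D₁ ?_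
      rw [Subgroup.mem_normalizer_iff]
      intro x
      have h1 := Subgroup.mem_normalizer_iff.mp (hPD hv.1) x
      have h2 := Subgroup.mem_normalizer_iff.mp hv.2 x
      constructor
      · rintro ⟨h3, h4⟩
        exact ⟨h1.mp h3, h2.mp h4⟩
      · rintro ⟨h3, h4⟩
        exact ⟨h1.mpr h3, h2.mpr h4⟩
    have hSY : S ≤ Y := le_inf hSP ((le_inf hSP Subgroup.le_normalizer).trans hnormS)
    obtain ⟨u, huP, huS, huN⟩ := Cfsg.Agent.H14.exists_mem_normalizer_of_pgroup P.isPGroup' hSP hS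
    have hSltY : S < Y := by
      refine lt_of_le_of_ne hSY ?_
      intro h
      apply huS
      rw [h]
      exact ⟨huP, hnormS ⟨huP, huN⟩⟩
    have hcardSY : Nat.card S < Nat.card Y := card_lt_of_lt hSltY
    have hcardQS : Nat.card Q ≤ Nat.card S := Subgroup.card_le_of_le hQ
    obtain ⟨c, hcY, htame₂⟩ := exists_tame2 P hYp (inf_le_right : Y ≤ NN W₁)
    obtain ⟨xc, hxcX, hxc⟩ := hA Y inf_le_left (by omega) c (fun r hr => hcY ⟨r, hr, rfl⟩)
    set W₂ := W₁.map (MulAut.conj c).toMonoidHom with hW₂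
    have hW₂ne : W₂ ≠ ⊥ := fun h =>
      hW₁ne ((Subgroup.map_eq_bot_iff_of_injective W₁ (MulAut.conj c).injective).mp h)
    have hW₂P : W₂ ≤ (P : Subgroup G) :=
      (Subgroup.map_mono (hW₁D.trans (hD₁S.trans hSY))).trans hcY
    have hNW₂ : NN W₂ = (NN W₁).map (MulAut.conj c).toMonoidHom := normalizer_conj W₁ c
    set Yc := Y.map (MulAut.conj c).toMonoidHom with hYc
    have hYcle : Yc ≤ (P : Subgroup G) ⊓ NN W₂ := by
      refine le_inf hcY ?_
      rw [hNW₂]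
      exact Subgroup.map_mono inf_le_right
    have hcardYc : Nat.card Yc = Nat.card Y :=
      (Nat.card_congr ((MulAut.conj c).subgroupMap Y).toEquiv).symm
    have hcardY2 : Nat.card Yc ≤ Nat.card ((P : Subgroup G) ⊓ NN W₂ : Subgroup G) :=
      Subgroup.card_le_of_le hYcle
    have hQY : Q ≤ Y := hQ.trans hSY
    have hstep := ih W₂ (hFam V hFV hVP c hW₂P) hW₂ne hW₂P htame₂ (by omega) (c * t' * c⁻¹)
      (by rw [hNW₂]; exact ⟨t', ht'N, rfl⟩) (Q.map (MulAut.conj c).toMonoidHom)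
      ((Subgroup.map_mono hQY).trans hYcle)
      (by
        have : Nat.card (Q.map (MulAut.conj c).toMonoidHom) = Nat.card Q :=
          (Nat.card_congr ((MulAut.conj c).subgroupMap Q).toEquiv).symm
        omega)
      (by
        rintro _ ⟨q, hq, rfl⟩
        change (c * t' * c⁻¹) * (c * q * c⁻¹) * (c * t' * c⁻¹)⁻¹ ∈ _
        have e : (c * t' * c⁻¹) * (c * q * c⁻¹) * (c * t' * c⁻¹)⁻¹ = c * (t' * q * t'⁻¹) * c⁻¹ := by
          group
        rw [e, ht' q hq]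
        exact hYcle ⟨_, hSY (htQ q hq), rfl⟩)
    obtain ⟨x₂, hx₂X, hx₂⟩ := hstep
    refine ⟨xc⁻¹ * x₂ * xc, Subgroup.mul_mem _ (Subgroup.mul_mem _ (Subgroup.inv_mem _ hxcX) hx₂X) hxcX, ?_⟩
    intro q hq
    have hs : t * q * t⁻¹ ∈ Y := hSY (htQ q hq)
    have h1 := hxc q (hQY hq)
    have h2 := hxc _ hs
    have h3 := hx₂ (c * q * c⁻¹) ⟨q, hq, rfl⟩
    have e : (c * t' * c⁻¹) * (c * q * c⁻¹) * (c * t' * c⁻¹)⁻¹ = c * (t' * q * t'⁻¹) * c⁻¹ := by
      group
    rw [e, ht' q hq, h2] at h3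
    calc t * q * t⁻¹ = xc⁻¹ * (xc * (t * q * t⁻¹) * xc⁻¹) * xc := by group
      _ = xc⁻¹ * (x₂ * (c * q * c⁻¹) * x₂⁻¹) * xc := by rw [h3]
      _ = xc⁻¹ * (x₂ * (xc * q * xc⁻¹) * x₂⁻¹) * xc := by rw [h1]
      _ = _ := by group

/-- The case of a non-centric subgroup. -/
theorem centric_reduction (P : Sylow p G) {V X : Subgroup G} {B : Subgroup G}
    (htame : ¬ p ∣ ((P : Subgroup G) ⊓ NN V).relIndex (NN V)) (hVP : V ≤ (P : Subgroup G))
    {v : G} (hvN : v ∈ NN V) (hcard : Nat.card V = Nat.card B)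
    (hcV : ¬ (P : Subgroup G) ⊓ Subgroup.centralizer (V : Set G) ≤ V)
    (hA : ∀ R : Subgroup G, R ≤ (P : Subgroup G) → Nat.card B < Nat.card R → Ctrl P X R) :
    ∃ xt ∈ X, ∀ q ∈ V, v * q * v⁻¹ = xt * q * xt⁻¹ := by
  classical
  set CC := Subgroup.centralizer (V : Set G) with hCC
  set C₀ := (P : Subgroup G) ⊓ CC with hC₀
  have hCCN : CC ≤ NN V := Subgroup.centralizer_le_normalizer _
  set N := NN V with hN
  -- `C₀` is Sylow in `CC`
  have hpS : IsPGroup p (((P : Subgroup G) ⊓ N).subgroupOf N) :=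
    (P.isPGroup'.to_le inf_le_left).comap_subtype
  let S₁ : Sylow p N := hpS.toSylow htame
  haveI hCCn : (CC.subgroupOf N).Normal := by
    constructor
    intro c hc g
    rw [Subgroup.mem_subgroupOf] at hc ⊢
    rw [hCC, Subgroup.mem_centralizer_iff] at hc ⊢
    intro h hh
    have hgi : (g : G)⁻¹ ∈ N := N.inv_mem g.2
    have h1 : (g : G)⁻¹ * h * ((g : G)⁻¹)⁻¹ ∈ V := (Subgroup.mem_normalizer_iff.mp hgi h).mp hh
    have h2 := hc _ h1
    simp only [Subgroup.coe_mul, inv_inv, Subgroup.coe_inv] at h2 ⊢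
    calc h * (↑g * ↑c * (↑g)⁻¹) = (g : G) * (((g : G)⁻¹ * h * g) * c) * (g : G)⁻¹ := by group
      _ = (g : G) * (c * ((g : G)⁻¹ * h * g)) * (g : G)⁻¹ := by rw [h2]
      _ = _ := by group
  have hs1 := not_dvd_sylow_inf_normal S₁ (CC.subgroupOf N)
  have hC₀rel : ¬ p ∣ C₀.relIndex CC := by
    have e : (S₁ : Subgroup N) ⊓ CC.subgroupOf N = C₀.subgroupOf N := by
      ext x
      constructor
      · rintro ⟨h1, h2⟩
        exact Subgroup.mem_subgroupOf.mpr ⟨(Subgroup.mem_subgroupOf.mp h1).1, Subgroup.mem_subgroupOf.mp h2⟩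
      · intro h
        have h' := Subgroup.mem_subgroupOf.mp h
        exact ⟨Subgroup.mem_subgroupOf.mpr ⟨h'.1, x.2⟩, Subgroup.mem_subgroupOf.mpr h'.2⟩
    rw [e, Subgroup.relIndex_subgroupOf hCCN] at hs1
    exact hs1
  have hC₀p : IsPGroup p C₀ := P.isPGroup'.to_le inf_le_left
  -- conjugates
  have hvC : ∀ c ∈ CC, v * c * v⁻¹ ∈ CC := by
    intro c hc
    rw [hCC, Subgroup.mem_centralizer_iff] at hc ⊢
    intro h hh
    have hgi : v⁻¹ ∈ N := N.inv_mem hvN
    have h1 : v⁻¹ * h * v⁻¹⁻¹ ∈ V := (Subgroup.mem_normalizer_iff.mp hgi h).mp hh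
    have h2 := hc _ h1
    simp only [inv_inv] at h2
    calc h * (v * c * v⁻¹) = v * ((v⁻¹ * h * v) * c) * v⁻¹ := by group
      _ = v * (c * (v⁻¹ * h * v)) * v⁻¹ := by rw [h2]
      _ = _ := by group
  obtain ⟨c, hcC, hc⟩ := Cfsg.Agent.H09.exists_conj_le_of_not_dvd_relIndex (inf_le_right : C₀ ≤ CC) hC₀p hC₀rel
    (Q := C₀.map (MulAut.conj v).toMonoidHom)
    (by rintro _ ⟨a, ha, rfl⟩; exact hvC a ha.2) (hC₀p.map _)
  set U := V ⊔ C₀ with hU
  have hUP : U ≤ (P : Subgroup G) := sup_le hVP inf_le_left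
  have hVU : V < U := by
    refine lt_of_le_of_ne le_sup_left ?_
    intro h
    exact hcV (by rw [h]; exact le_sup_right)
  have hcardU : Nat.card B < Nat.card U := by
    have := card_lt_of_lt hVU
    omega
  have hcV' : ∀ q ∈ V, c * q * c⁻¹ = q := by
    intro q hq
    have := (Subgroup.mem_centralizer_iff.mp hcC) q hq
    rw [← this]
    group
  have hUmap : ∀ u ∈ U, (c * v) * u * (c * v)⁻¹ ∈ U := by
    intro u hu
    have hle : U ≤ U.comap (MulAut.conj (c * v)).toMonoidHom := by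
      refine sup_le (fun q hq => ?_) (fun a ha => ?_)
      · change (c * v) * q * (c * v)⁻¹ ∈ U
        have h1 : v * q * v⁻¹ ∈ V := (Subgroup.mem_normalizer_iff.mp hvN q).mp hq
        have e : (c * v) * q * (c * v)⁻¹ = c * (v * q * v⁻¹) * c⁻¹ := by group
        rw [e, hcV' _ h1]
        exact Subgroup.mem_sup_left h1
      · change (c * v) * a * (c * v)⁻¹ ∈ U
        have h1 : c * (v * a * v⁻¹) * c⁻¹ ∈ C₀ := hc ⟨_, ⟨a, ha, rfl⟩, rfl⟩
        have e : (c * v) * a * (c * v)⁻¹ = c * (v * a * v⁻¹) * c⁻¹ := by group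
        rw [e]
        exact Subgroup.mem_sup_right h1
    exact hle hu
  obtain ⟨x, hx, hxe⟩ := hA U hUP hcardU (c * v) (fun u hu => hUP (hUmap u hu))
  refine ⟨x, hx, fun q hq => ?_⟩
  have h1 := hxe q (Subgroup.mem_sup_left hq)
  have h2 : v * q * v⁻¹ ∈ V := (Subgroup.mem_normalizer_iff.mp hvN q).mp hq
  have e : (c * v) * q * (c * v)⁻¹ = c * (v * q * v⁻¹) * c⁻¹ := by group
  rw [e, hcV' _ h2] at h1
  exact h1

/-- The main step. -/
theorem stepAF (hn : n = 0 ∨ n = p) (P : Sylow p G) {D : Subgroup G}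
    (hD : IsStronglyClosed D (P : Subgroup G)) (hDne : D ≠ ⊥) (Fam : Subgroup G → Prop)
    (hFam : ∀ V : Subgroup G, Fam V → V ≤ (P : Subgroup G) → ∀ c : G,
      ((elFam G n).zz (D ⊓ ((P : Subgroup G) ⊓ NN V))).map (MulAut.conj c).toMonoidHom ≤ (P : Subgroup G) →
      Fam (((elFam G n).zz (D ⊓ ((P : Subgroup G) ⊓ NN V))).map (MulAut.conj c).toMonoidHom))
    (hcent : ∀ V : Subgroup G, V ≤ (P : Subgroup G) → (P : Subgroup G) ⊓ Subgroup.centralizer (V : Set G) ≤ V → Fam V)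
    {B : Subgroup G} (hBP : B ≤ (P : Subgroup G))
    (hA : ∀ R : Subgroup G, R ≤ (P : Subgroup G) → Nat.card B < Nat.card R →
      Ctrl P (NN ((elFam G n).zz D)) R) (hLS : LocalStepF p n P D (Nat.card B) Fam) :
    Ctrl P (NN ((elFam G n).zz D)) B := by
  classical
  intro g hg
  by_cases hBtop : B = (P : Subgroup G)
  · refine ⟨g, zz_normalizer_ge n D ?_, fun _ _ => rfl⟩
    apply mem_normalizer_of_map_conj_le
    rintro _ ⟨d, hd, rfl⟩
    exact hD.2 d hd g (hg d (hBtop ▸ hD.1 hd))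
  by_cases hBbot : B = ⊥
  · refine ⟨1, Subgroup.one_mem _, fun r hr => ?_⟩
    rw [hBbot] at hr
    rw [Subgroup.mem_bot.mp hr]
    group
  have hcardB : Nat.card B < Nat.card (P : Subgroup G) := card_lt_of_lt (lt_of_le_of_ne hBP hBtop)
  set B' := B.map (MulAut.conj g).toMonoidHom with hB'
  have hB'P : B' ≤ (P : Subgroup G) := by
    rintro _ ⟨b, hb, rfl⟩
    exact hg b hb
  have hcardB' : Nat.card B' = Nat.card B :=
    (Nat.card_congr ((MulAut.conj g).subgroupMap B).toEquiv).symm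
  have hB'top : B' ≠ (P : Subgroup G) := by
    intro h
    rw [h] at hcardB'
    omega
  have hbig : ∀ K : Subgroup G, K ≤ (P : Subgroup G) → K ≠ (P : Subgroup G) →
      Nat.card K < Nat.card ((P : Subgroup G) ⊓ NN K : Subgroup G) := by
    intro K hK hKne
    obtain ⟨u, huP, huS, huN⟩ := Cfsg.Agent.H14.exists_mem_normalizer_of_pgroup P.isPGroup' hK hKne
    apply card_lt_of_lt
    refine lt_of_le_of_ne (le_inf hK Subgroup.le_normalizer) ?_
    intro h
    apply huS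
    rw [h]
    exact ⟨huP, huN⟩
  set R := (P : Subgroup G) ⊓ NN B with hR
  set R' := (P : Subgroup G) ⊓ NN B' with hR'
  have hBR : B ≤ R := le_inf hBP Subgroup.le_normalizer
  have hB'R' : B' ≤ R' := le_inf hB'P Subgroup.le_normalizer
  have hRp : IsPGroup p R := P.isPGroup'.to_le inf_le_left
  have hR'p : IsPGroup p R' := P.isPGroup'.to_le inf_le_left
  obtain ⟨y, hyR, htame⟩ := exists_tame2 P hRp (inf_le_right : R ≤ NN B)
  obtain ⟨x₁, hx₁X, hx₁⟩ := hA R inf_le_left (hbig B hBP hBtop) y (fun r hr => hyR ⟨r, hr, rfl⟩)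
  set V := B.map (MulAut.conj y).toMonoidHom with hV
  have hVne : V ≠ ⊥ := fun h =>
    hBbot ((Subgroup.map_eq_bot_iff_of_injective B (MulAut.conj y).injective).mp h)
  have hVP : V ≤ (P : Subgroup G) := (Subgroup.map_mono hBR).trans hyR
  have hV' : B'.map (MulAut.conj (y * g⁻¹)).toMonoidHom = V := by
    ext x
    constructor
    · rintro ⟨_, ⟨b, hb, rfl⟩, rfl⟩
      refine ⟨b, hb, ?_⟩
      change y * b * y⁻¹ = (y * g⁻¹) * (g * b * g⁻¹) * (y * g⁻¹)⁻¹
      group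
    · rintro ⟨b, hb, rfl⟩
      refine ⟨g * b * g⁻¹, ⟨b, hb, rfl⟩, ?_⟩
      change (y * g⁻¹) * (g * b * g⁻¹) * (y * g⁻¹)⁻¹ = y * b * y⁻¹
      group
  have hNV : NN V = (NN B').map (MulAut.conj (y * g⁻¹)).toMonoidHom := by
    rw [← hV']
    exact normalizer_conj B' (y * g⁻¹)
  obtain ⟨v, hvN, hv⟩ := exists_conj_into_tame P htame
    (hR'p.map (MulAut.conj (y * g⁻¹)).toMonoidHom)
    (by rw [hNV]; exact Subgroup.map_mono inf_le_right)
  obtain ⟨x₂, hx₂X, hx₂⟩ := hA R' inf_le_left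
    (by have : Nat.card B' < Nat.card R' := hbig B' hB'P hB'top; omega) (v * (y * g⁻¹))
    (fun r hr => by
      have h1 := hv ⟨_, ⟨r, hr, rfl⟩, rfl⟩
      have e : (v * (y * g⁻¹)) * r * (v * (y * g⁻¹))⁻¹ =
          v * ((y * g⁻¹) * r * (y * g⁻¹)⁻¹) * v⁻¹ := by group
      rw [e]
      exact h1.1)
  have hcardV : Nat.card V = Nat.card B :=
    (Nat.card_congr ((MulAut.conj y).subgroupMap B).toEquiv).symm
  have hxtall : ∃ xt ∈ NN ((elFam G n).zz D), ∀ q ∈ V, v * q * v⁻¹ = xt * q * xt⁻¹ := by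
    by_cases hcV : (P : Subgroup G) ⊓ Subgroup.centralizer (V : Set G) ≤ V
    · exact claimCF hn P hD hDne (Nat.card B) Fam hFam hA hLS (Nat.card (P : Subgroup G))
        V (hcent V hVP hcV) hVne hVP htame (by omega) v hvN V (le_inf hVP Subgroup.le_normalizer) (by omega)
        (fun q hq => by
          have h1 : v * q * v⁻¹ ∈ V := (Subgroup.mem_normalizer_iff.mp hvN q).mp hq
          exact ⟨hVP h1, Subgroup.le_normalizer h1⟩)
    · exact centric_reduction P htame hVP hvN (by omega) hcV hA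
  obtain ⟨xt, hxtX, hxt⟩ := hxtall
  refine ⟨x₂⁻¹ * xt * x₁, Subgroup.mul_mem _ (Subgroup.mul_mem _ (Subgroup.inv_mem _ hx₂X) hxtX) hx₁X, ?_⟩
  intro b hb
  have h1 := hx₁ b (hBR hb)
  have h2 := hxt (y * b * y⁻¹) ⟨b, hb, rfl⟩
  have h3 := hx₂ (g * b * g⁻¹) (hB'R' ⟨b, hb, rfl⟩)
  have e : (v * (y * g⁻¹)) * (g * b * g⁻¹) * (v * (y * g⁻¹))⁻¹ = v * (y * b * y⁻¹) * v⁻¹ := by
    group
  rw [e, h2, h1] at h3
  calc g * b * g⁻¹ = x₂⁻¹ * (x₂ * (g * b * g⁻¹) * x₂⁻¹) * x₂ := by group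
    _ = x₂⁻¹ * (xt * (x₁ * b * x₁⁻¹) * xt⁻¹) * x₂ := by rw [h3]
    _ = _ := by group

/-- Control on all subgroups of `P`. -/
theorem ctrl_allF (hn : n = 0 ∨ n = p) (P : Sylow p G) {D : Subgroup G}
    (hD : IsStronglyClosed D (P : Subgroup G)) (hDne : D ≠ ⊥) (Fam : Subgroup G → Prop)
    (hFam : ∀ V : Subgroup G, Fam V → V ≤ (P : Subgroup G) → ∀ c : G,
      ((elFam G n).zz (D ⊓ ((P : Subgroup G) ⊓ NN V))).map (MulAut.conj c).toMonoidHom ≤ (P : Subgroup G) →
      Fam (((elFam G n).zz (D ⊓ ((P : Subgroup G) ⊓ NN V))).map (MulAut.conj c).toMonoidHom))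
    (hcent : ∀ V : Subgroup G, V ≤ (P : Subgroup G) → (P : Subgroup G) ⊓ Subgroup.centralizer (V : Set G) ≤ V → Fam V)
    (hLS : ∀ N₀ : ℕ, (∀ R : Subgroup G, R ≤ (P : Subgroup G) → N₀ < Nat.card R →
      Ctrl P (NN ((elFam G n).zz D)) R) → LocalStepF p n P D N₀ Fam) :
    ∀ k : ℕ, ∀ B : Subgroup G, B ≤ (P : Subgroup G) →
      Nat.card (P : Subgroup G) ≤ Nat.card B + k → Ctrl P (NN ((elFam G n).zz D)) B := by
  intro k
  induction k with
  | zero =>
    intro B hB hk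
    have hA : ∀ R : Subgroup G, R ≤ (P : Subgroup G) → Nat.card B < Nat.card R →
        Ctrl P (NN ((elFam G n).zz D)) R := by
      intro R hR hlt
      exfalso
      have := Subgroup.card_le_of_le hR
      omega
    exact stepAF hn P hD hDne Fam hFam hcent hB hA (hLS _ hA)
  | succ k ih =>
    intro B hB hk
    have hA : ∀ R : Subgroup G, R ≤ (P : Subgroup G) → Nat.card B < Nat.card R →
        Ctrl P (NN ((elFam G n).zz D)) R := fun R hR hlt => ih R hR (by omega)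
    exact stepAF hn P hD hDne Fam hFam hcent hB hA (hLS _ hA)

end Refactor

section Main

variable {p : ℕ} [Fact p.Prime]

lemma center_le_zz0 {G : Type*} [Group G] [Finite G] (X : Subgroup G) :
    X ⊓ Subgroup.centralizer (X : Set G) ≤ (elFam G 0).zz X := by
  refine zz_of_forall fun A hA => ?_
  intro z hz
  have hle : A ≤ A ⊔ Subgroup.zpowers z := le_sup_left
  have hF : (elFam G 0).F (A ⊔ Subgroup.zpowers z) := by
    refine (elFam G 0).F_sup A z hA.2.1 (pow_zero z) (fun a ha => ?_)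
    exact (Subgroup.mem_centralizer_iff.mp hz.2) a (hA.1 ha)
  have hX : A ⊔ Subgroup.zpowers z ≤ X := by
    refine sup_le hA.1 ?_
    rw [Subgroup.zpowers_le]
    exact hz.1
  have hc := hA.2.2 _ hX hF
  have heq : A = A ⊔ Subgroup.zpowers z := Subgroup.eq_of_le_of_card_ge hle hc
  rw [heq]
  exact Subgroup.mem_sup_right (Subgroup.mem_zpowers z)

theorem ctrl_of_sections {G : Type u} [Group G] [Finite G] (hp2 : p ≠ 2) (S : Sylow p G)
    (hfree : ∀ P : Subgroup G, (S : Subgroup G) ⊓ Subgroup.centralizer ((S : Subgroup G) : Set G) ≤ P →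
      P ≤ S → ¬ Cfsg.Involves (SL(2, ZMod p)) ↥(NN P)) (B : Subgroup G) (hB : B ≤ (S : Subgroup G)) :
    Ctrl S (NN ((elFam G 0).zz (S : Subgroup G))) B := by
  classical
  have hD : IsStronglyClosed (S : Subgroup G) (S : Subgroup G) := ⟨le_rfl, fun x hx g hg => hg⟩
  set Z := (S : Subgroup G) ⊓ Subgroup.centralizer ((S : Subgroup G) : Set G) with hZ
  by_cases hDne : (S : Subgroup G) = ⊥
  · intro g hg
    refine ⟨g, ?_, fun _ _ => rfl⟩
    have h1 : (elFam G 0).zz (S : Subgroup G) = ⊥ := by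
      rw [eq_bot_iff, ← hDne]
      exact (zz_le_jj _).trans (jj_le _)
    rw [h1]
    have h2 : NN (⊥ : Subgroup G) = ⊤ := Subgroup.normalizer_eq_top_iff.mpr inferInstance
    rw [h2]
    trivial
  let Fam : Subgroup G → Prop := fun V => ∃ g : G, Z ≤ V.map (MulAut.conj g).toMonoidHom ∧
    V.map (MulAut.conj g).toMonoidHom ≤ (S : Subgroup G)
  have hFam : ∀ V : Subgroup G, Fam V → V ≤ (S : Subgroup G) → ∀ c : G,
      ((elFam G 0).zz ((S : Subgroup G) ⊓ ((S : Subgroup G) ⊓ NN V))).map (MulAut.conj c).toMonoidHom ≤ (S : Subgroup G) →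
      Fam (((elFam G 0).zz ((S : Subgroup G) ⊓ ((S : Subgroup G) ⊓ NN V))).map (MulAut.conj c).toMonoidHom) := by
    intro V _ hVS c _
    set W := (elFam G 0).zz ((S : Subgroup G) ⊓ ((S : Subgroup G) ⊓ NN V)) with hW
    have hWS : W ≤ (S : Subgroup G) := ((zz_le_jj _).trans (jj_le _)).trans inf_le_left
    have e : (W.map (MulAut.conj c).toMonoidHom).map (MulAut.conj c⁻¹).toMonoidHom = W := by
      ext x
      constructor
      · rintro ⟨_, ⟨w, hw, rfl⟩, rfl⟩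
        have : (MulAut.conj c⁻¹).toMonoidHom ((MulAut.conj c).toMonoidHom w) = w := by
          change c⁻¹ * (c * w * c⁻¹) * c⁻¹⁻¹ = w
          group
        rw [this]
        exact hw
      · intro hx
        refine ⟨(MulAut.conj c).toMonoidHom x, ⟨x, hx, rfl⟩, ?_⟩
        change c⁻¹ * (c * x * c⁻¹) * c⁻¹⁻¹ = x
        group
    refine ⟨c⁻¹, ?_, by rw [e]; exact hWS⟩
    rw [e]
    -- `Z(S) ≤ W`
    intro z hz
    apply center_le_zz0
    have hzN : z ∈ NN V := by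
      apply mem_normalizer_of_map_conj_le
      rintro _ ⟨x, hx, rfl⟩
      change z * x * z⁻¹ ∈ V
      rw [← (Subgroup.mem_centralizer_iff.mp hz.2) x (hVS hx)]
      simpa using hx
    refine ⟨⟨hz.1, hz.1, hzN⟩, ?_⟩
    change _ ∈ Subgroup.centralizer _
    rw [Subgroup.mem_centralizer_iff]
    intro y hy
    exact (Subgroup.mem_centralizer_iff.mp hz.2) y hy.1
  have hcent : ∀ V : Subgroup G, V ≤ (S : Subgroup G) →
      (S : Subgroup G) ⊓ Subgroup.centralizer (V : Set G) ≤ V → Fam V := by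
    intro V hVS hc
    refine ⟨1, ?_, ?_⟩
    · intro z hz
      refine ⟨z, ?_, by change 1 * z * 1⁻¹ = z; group⟩
      apply hc
      refine ⟨hz.1, ?_⟩
      change _ ∈ Subgroup.centralizer _
      rw [Subgroup.mem_centralizer_iff]
      intro y hy
      exact (Subgroup.mem_centralizer_iff.mp hz.2) y (hVS hy)
    · rintro _ ⟨x, hx, rfl⟩
      change 1 * x * 1⁻¹ ∈ (S : Subgroup G)
      simpa using hVS hx
  have hLS : ∀ N₀ : ℕ, (∀ R : Subgroup G, R ≤ (S : Subgroup G) → N₀ < Nat.card R →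
      Ctrl S (NN ((elFam G 0).zz (S : Subgroup G))) R) → LocalStepF p 0 S (S : Subgroup G) N₀ Fam := by
    intro N₀ _ V hFV _ _ htame t ht Q hQ _ htQ
    obtain ⟨g, hg1, hg2⟩ := hFV
    have hfreeV : ¬ Cfsg.Involves ↥(Cfsg.qdOver (ZMod p)) ↥(NN V) := by
      intro hinv
      have h1 : Cfsg.Involves (SL(2, ZMod p)) ↥(Cfsg.qdOver (ZMod p)) :=
        H09.involves_of_surjective ⊤
          ((Cfsg.Agent.H12.Qd.block : Cfsg.qdOver (ZMod p) →* SL(2, ZMod p)).comp
            (Subgroup.topEquiv (G := ↥(Cfsg.qdOver (ZMod p)))).toMonoidHom)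
          (Cfsg.Agent.H12.Qd.block_surjective.comp (Subgroup.topEquiv).surjective)
      have h2 : Cfsg.Involves (SL(2, ZMod p)) ↥(NN V) := H09.Involves.trans' h1 hinv
      apply hfree _ hg1 hg2
      -- the normalizers are conjugate
      have hNV : NN (V.map (MulAut.conj g).toMonoidHom) = (NN V).map (MulAut.conj g).toMonoidHom :=
        normalizer_conj V g
      rw [hNV]
      let e : ↥(NN V) ≃* ↥((NN V).map (MulAut.conj g).toMonoidHom) := (MulAut.conj g).subgroupMap (NN V)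
      exact H09.Involves.trans' h2 (H09.involves_of_mulEquiv e)
    have hTT : TT p 0 ↥(NN V) := T_main (fusClass_qdFree hp2) hp2 (Or.inl rfl) _ ↥(NN V) le_rfl hfreeV
    exact sub_step S hD (NN V) hTT htame ht hQ htQ
  exact ctrl_allF (Or.inl rfl) S hD hDne Fam hFam hcent hLS (Nat.card (S : Subgroup G)) B hB (by omega)

end Main

end Cfsg.Agent.H14
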