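import Mathlib
import Cfsg.Agent.Lib.H12.Imprim
import Cfsg.Agent.Lib.H12.Core
import Cfsg.Agent.Lib.H14.UniqueSub
import Cfsg.Agent.Lib.H01.Coprime
import Cfsg.Agent.Lib.H01.Fitting
import Cfsg.Agent.Lib.H13.WeakFact

set_option autoImplicit false

namespace Cfsg.Agent.H14.IsoCore

open Cfsg
open scoped commutatorElement

/-- Maschke's theorem for an additive `ZMod t`-module with a coprime action by additive maps. -/
theorem addgroup_maschke {A S : Type*} [AddCommGroup A] [Group S] [Finite S] {t : ℕ} [Fact t.Prime]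
    [Module (ZMod t) A] (hcop : ¬ t ∣ Nat.card S) (ρ : S →* AddMonoid.End A) (W : AddSubgroup A)
    (hW : ∀ s, ∀ w ∈ W, ρ s w ∈ W) :
    ∃ B : AddSubgroup A, (∀ s, ∀ a ∈ B, ρ s a ∈ B) ∧ B ⊓ W = ⊥ ∧ B ⊔ W = ⊤ := by
  classical
  let ρ' : S →* Module.End (ZMod t) A :=
    { toFun := fun s => (ρ s).toZModLinearMap t
      map_one' := by
        ext x
        show ρ 1 x = x
        simp
      map_mul' := by
        intro a b
        ext x
        show ρ (a * b) x = ρ a (ρ b x)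
        simp }
  have hρ' : ∀ s x, ρ' s x = ρ s x := fun _ _ => rfl
  have hcard : ((Nat.card S : ℕ) : ZMod t) ≠ 0 := by
    intro h
    exact hcop ((ZMod.natCast_eq_zero_iff _ _).1 h)
  let W₀ : Submodule (ZMod t) A := AddSubgroup.toZModSubmodule t W
  have hW₀ : ∀ x : A, x ∈ W₀ ↔ x ∈ W := fun _ => Iff.rfl
  obtain ⟨W', hc, hW'⟩ := Cfsg.Agent.H12.Imprim.exists_invariant_compl hcard ρ' W₀ (by
    intro s w hw
    exact (hW₀ _).2 (hW s _ ((hW₀ _).1 hw)))
  refine ⟨W'.toAddSubgroup, ?_, ?_, ?_⟩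
  · intro s a ha
    exact hW' s a ha
  · rw [eq_bot_iff]
    rintro x ⟨hx1, hx2⟩
    have h3 := hc.disjoint.le_bot (Submodule.mem_inf.2 ⟨(hW₀ x).2 hx2, hx1⟩)
    exact (AddSubgroup.mem_bot).2 ((Submodule.mem_bot _).1 h3)
  · rw [eq_top_iff]
    intro x _
    have h1 : x ∈ W₀ ⊔ W' := by rw [hc.sup_eq_top]; trivial
    obtain ⟨u, hu, v, hv, huv⟩ := Submodule.mem_sup.1 h1
    rw [← huv, add_comm]
    exact AddSubgroup.add_mem_sup hv ((hW₀ _).1 hu)

/-- Maschke's theorem for an elementary abelian group with an action of a coprime group,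
in multiplicative form. -/
theorem commgroup_maschke {V S : Type*} [CommGroup V] [Group S] [Finite S] {t : ℕ} [Fact t.Prime]
    (hexp : ∀ v : V, v ^ t = 1) (hcop : ¬ t ∣ Nat.card S) (ρ : S →* MulAut V) (W : Subgroup V)
    (hW : ∀ s, ∀ w ∈ W, ρ s w ∈ W) :
    ∃ A : Subgroup V, (∀ s, ∀ a ∈ A, ρ s a ∈ A) ∧ A ⊓ W = ⊥ ∧ A ⊔ W = ⊤ := by
  classical
  have hexp' : ∀ x : Additive V, t • x = 0 := by
    intro x
    exact hexp (Additive.toMul x)
  let ρ' : S →* AddMonoid.End (Additive V) :=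
    { toFun := fun s => MonoidHom.toAdditive (ρ s).toMonoidHom
      map_one' := by
        ext x
        show Additive.ofMul (ρ 1 (Additive.toMul x)) = x
        simp
      map_mul' := by
        intro a b
        ext x
        show Additive.ofMul (ρ (a * b) (Additive.toMul x)) = Additive.ofMul (ρ a (ρ b (Additive.toMul x)))
        simp }
  have hρ' : ∀ s (x : V), ρ' s (Additive.ofMul x) = Additive.ofMul (ρ s x) := fun _ _ => rfl
  obtain ⟨B, hB1, hB2, hB3⟩ := @addgroup_maschke (Additive V) S _ _ _ t _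
    (AddCommGroup.zmodModule hexp') hcop ρ' (Subgroup.toAddSubgroup W) (by
      intro s w hw
      exact hW s (Additive.toMul w) hw)
  refine ⟨AddSubgroup.toSubgroup' B, ?_, ?_, ?_⟩
  · intro s a ha
    exact hB1 s (Additive.ofMul a) ha
  · rw [eq_bot_iff]
    rintro x ⟨hx1, hx2⟩
    have h3 : Additive.ofMul x ∈ B ⊓ Subgroup.toAddSubgroup W := ⟨hx1, hx2⟩
    rw [hB2] at h3
    exact (Subgroup.mem_bot).2 ((AddSubgroup.mem_bot).1 h3)
  · rw [eq_top_iff]
    intro x _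
    have h3 : Additive.ofMul x ∈ B ⊔ Subgroup.toAddSubgroup W := by rw [hB3]; trivial
    obtain ⟨u, hu, v, hv, huv⟩ := AddSubgroup.mem_sup.1 h3
    have h2 : x = Additive.toMul u * Additive.toMul v := by
      have := congrArg Additive.toMul huv
      rwa [toMul_add, toMul_ofMul, eq_comm] at this
    rw [h2]
    exact Subgroup.mul_mem_sup hu hv

theorem group_maschke {V S : Type*} [Group V] [Group S] [Finite S] {t : ℕ} [Fact t.Prime]
    (hcomm : ∀ a b : V, a * b = b * a)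
    (hexp : ∀ v : V, v ^ t = 1) (hcop : ¬ t ∣ Nat.card S) (ρ : S →* MulAut V) (W : Subgroup V)
    (hW : ∀ s, ∀ w ∈ W, ρ s w ∈ W) :
    ∃ A : Subgroup V, (∀ s, ∀ a ∈ A, ρ s a ∈ A) ∧ A ⊓ W = ⊥ ∧ A ⊔ W = ⊤ :=
  @commgroup_maschke V S ({ (inferInstance : Group V) with mul_comm := hcomm }) _ _ t _ hexp hcop ρ W hW

/-- Maschke in a section `Y/Φ`. -/
theorem maschke_mod {H : Type*} [Group H] [Finite H] {t : ℕ} [Fact t.Prime]
    (Y Φ W S : Subgroup H) (hY : Y.Normal) (hΦY : Φ ≤ Y) (hΦW : Φ ≤ W) (hWY : W ≤ Y)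
    (hab : ∀ a ∈ Y, ∀ b ∈ Y, ⁅a, b⁆ ∈ Φ) (hpow : ∀ a ∈ Y, a ^ t ∈ Φ)
    (hSΦ : S ≤ Subgroup.normalizer (Φ : Set H)) (hSW : S ≤ Subgroup.normalizer (W : Set H))
    (hcop : ¬ t ∣ Nat.card S) :
    ∃ A : Subgroup H, Φ ≤ A ∧ A ≤ Y ∧ S ≤ Subgroup.normalizer (A : Set H) ∧ A ⊓ W = Φ ∧
      A ⊔ W = Y := by
  classical
  set Φ' : Subgroup ↥Y := Φ.subgroupOf Y with hΦ'
  have hmemΦ' : ∀ y : ↥Y, y ∈ Φ' ↔ (y : H) ∈ Φ := fun y => Subgroup.mem_subgroupOf
  haveI hΦ'n : Φ'.Normal := by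
    constructor
    intro n hn g
    rw [hmemΦ'] at hn ⊢
    have h1 : ((g * n * g⁻¹ : ↥Y) : H) = ⁅(g : H), (n : H)⁆ * n := by
      simp [commutatorElement_def]
    rw [h1]
    exact Φ.mul_mem (hab _ g.2 _ n.2) hn
  have hconj : ∀ s : ↥S, ∀ y : ↥Y, ((MulAut.conjNormal (s : H) y : ↥Y) : H) = (s : H) * y * (s : H)⁻¹ :=
    fun s y => MulAut.conjNormal_apply _ _
  have hSΦ' : ∀ s ∈ S, ∀ x, x ∈ Φ ↔ s * x * s⁻¹ ∈ Φ := fun s hs x =>
    (Subgroup.mem_normalizer_iff.1 (hSΦ hs)) x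
  have hSW' : ∀ s ∈ S, ∀ x, x ∈ W ↔ s * x * s⁻¹ ∈ W := fun s hs x =>
    (Subgroup.mem_normalizer_iff.1 (hSW hs)) x
  have he : ∀ s : ↥S, Φ'.map (MulAut.conjNormal (s : H) : MulAut ↥Y).toMonoidHom = Φ' := by
    intro s
    ext y
    rw [Subgroup.mem_map]
    constructor
    · rintro ⟨x, hx, rfl⟩
      rw [hmemΦ'] at hx ⊢
      show ((MulAut.conjNormal (s : H) x : ↥Y) : H) ∈ Φ
      rw [hconj]
      exact (hSΦ' s s.2 _).1 hx
    · intro hy
      refine ⟨MulAut.conjNormal (s : H)⁻¹ y, ?_, ?_⟩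
      · rw [hmemΦ'] at hy ⊢
        rw [MulAut.conjNormal_apply]
        apply (hSΦ' s s.2 _).2
        have : (s : H) * ((s : H)⁻¹ * (y : H) * (s : H)⁻¹⁻¹) * (s : H)⁻¹ = y := by group
        rwa [this]
      · apply Subtype.ext
        show ((MulAut.conjNormal (s : H) (MulAut.conjNormal (s : H)⁻¹ y) : ↥Y) : H) = y
        rw [hconj, MulAut.conjNormal_apply]
        group
  let ρf : ↥S → MulAut (↥Y ⧸ Φ') := fun s =>
    QuotientGroup.congr Φ' Φ' (MulAut.conjNormal (s : H) : MulAut ↥Y) (he s)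
  have hρf : ∀ s (y : ↥Y), ρf s (y : ↥Y ⧸ Φ') = ((MulAut.conjNormal (s : H) y : ↥Y) : ↥Y ⧸ Φ') :=
    fun s y => rfl
  let ρ : ↥S →* MulAut (↥Y ⧸ Φ') := MonoidHom.mk' ρf (by
    intro a b
    ext q
    induction q using QuotientGroup.induction_on with
    | H y =>
      show ρf (a * b) (y : ↥Y ⧸ Φ') = ρf a (ρf b (y : ↥Y ⧸ Φ'))
      rw [hρf, hρf, hρf]
      congr 1
      simp [map_mul])
  have hρ : ∀ s (y : ↥Y), ρ s (y : ↥Y ⧸ Φ') = ((MulAut.conjNormal (s : H) y : ↥Y) : ↥Y ⧸ Φ') :=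
    fun s y => rfl
  have hcomm : ∀ a b : ↥Y ⧸ Φ', a * b = b * a := by
    intro a b
    induction a using QuotientGroup.induction_on with
    | H a =>
    induction b using QuotientGroup.induction_on with
    | H b =>
      rw [← QuotientGroup.mk_mul, ← QuotientGroup.mk_mul, QuotientGroup.eq, hmemΦ']
      have : ((a * b)⁻¹ * (b * a) : ↥Y) = ⁅b⁻¹, a⁻¹⁆ := by
        simp [commutatorElement_def, mul_assoc]
      rw [this]
      exact hab _ (Y.inv_mem b.2) _ (Y.inv_mem a.2)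
  have hexp : ∀ v : ↥Y ⧸ Φ', v ^ t = 1 := by
    intro v
    induction v using QuotientGroup.induction_on with
    | H a =>
      rw [← QuotientGroup.mk_pow, QuotientGroup.eq_one_iff, hmemΦ']
      exact hpow _ a.2
  set W₁ : Subgroup (↥Y ⧸ Φ') := (W.subgroupOf Y).map (QuotientGroup.mk' Φ') with hW₁
  have hW₁mem : ∀ y : ↥Y, (y : ↥Y ⧸ Φ') ∈ W₁ ↔ (y : H) ∈ W := by
    intro y
    rw [hW₁, Subgroup.mem_map]
    constructor
    · rintro ⟨w, hw, hwy⟩
      rw [Subgroup.mem_subgroupOf] at hw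
      have h1 : w⁻¹ * y ∈ Φ' := by
        rw [← QuotientGroup.eq]
        exact hwy
      rw [hmemΦ'] at h1
      have h2 : (y : H) = w * ((w⁻¹ * y : ↥Y) : H) := by simp
      rw [h2]
      exact W.mul_mem hw (hΦW h1)
    · intro h
      exact ⟨y, Subgroup.mem_subgroupOf.2 h, rfl⟩
  obtain ⟨A₁, hA1, hA2, hA3⟩ := group_maschke hcomm hexp (t := t)
    (by
      exact hcop) ρ W₁ (by
      intro s w hw
      induction w using QuotientGroup.induction_on with
      | H y =>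
        rw [hW₁mem] at hw
        rw [hρ, hW₁mem, hconj]
        exact (hSW' s s.2 _).1 hw)
  refine ⟨(A₁.comap (QuotientGroup.mk' Φ')).map Y.subtype, ?_, Subgroup.map_subtype_le _, ?_, ?_, ?_⟩
  · intro x hx
    refine ⟨⟨x, hΦY hx⟩, ?_, rfl⟩
    show _ ∈ Subgroup.comap _ _
    rw [Subgroup.mem_comap]
    have : QuotientGroup.mk' Φ' ⟨x, hΦY hx⟩ = 1 := by
      rw [QuotientGroup.mk'_apply, QuotientGroup.eq_one_iff, hmemΦ']
      exact hx
    rw [this]
    exact A₁.one_mem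
  · have hstep : ∀ s ∈ S, ∀ x ∈ (A₁.comap (QuotientGroup.mk' Φ')).map Y.subtype,
        s * x * s⁻¹ ∈ (A₁.comap (QuotientGroup.mk' Φ')).map Y.subtype := by
      rintro s hs _ ⟨y, hy, rfl⟩
      refine ⟨MulAut.conjNormal s y, ?_, ?_⟩
      · have hy' : _ ∈ Subgroup.comap _ _ := hy
        show _ ∈ Subgroup.comap _ _
        rw [Subgroup.mem_comap] at hy' ⊢
        exact hA1 ⟨s, hs⟩ _ hy'
      · exact MulAut.conjNormal_apply _ _
    intro s hs
    rw [Subgroup.mem_normalizer_iff]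
    intro x
    refine ⟨hstep s hs x, fun hx => ?_⟩
    have := hstep s⁻¹ (S.inv_mem hs) _ hx
    have h2 : s⁻¹ * (s * x * s⁻¹) * s⁻¹⁻¹ = x := by group
    rwa [h2] at this
  · apply le_antisymm
    · rintro x ⟨⟨y, hy, rfl⟩, hxW⟩
      have h1 : ((y : ↥Y) : ↥Y ⧸ Φ') ∈ A₁ ⊓ W₁ := ⟨hy, (hW₁mem y).2 hxW⟩
      rw [hA2, Subgroup.mem_bot, QuotientGroup.eq_one_iff, hmemΦ'] at h1
      exact h1
    · apply le_inf
      · intro x hx
        refine ⟨⟨x, hΦY hx⟩, ?_, rfl⟩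
        show _ ∈ Subgroup.comap _ _
        rw [Subgroup.mem_comap]
        have : QuotientGroup.mk' Φ' ⟨x, hΦY hx⟩ = 1 := by
          rw [QuotientGroup.mk'_apply, QuotientGroup.eq_one_iff, hmemΦ']
          exact hx
        rw [this]
        exact A₁.one_mem
      · exact hΦW
  · apply le_antisymm
    · exact sup_le (Subgroup.map_subtype_le _) hWY
    · intro y hy
      have h1 : ((⟨y, hy⟩ : ↥Y) : ↥Y ⧸ Φ') ∈ A₁ ⊔ W₁ := by rw [hA3]; trivial
      haveI hW₁n : W₁.Normal := ⟨fun n hn g => by rw [hcomm g n]; simpa using hn⟩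
      obtain ⟨a, ha, w, hw, haw⟩ := Subgroup.mem_sup_of_normal_right.1 h1
      induction a using QuotientGroup.induction_on with
      | H a =>
      induction w using QuotientGroup.induction_on with
      | H w =>
        have hw' := (hW₁mem w).1 hw
        rw [← QuotientGroup.mk_mul, QuotientGroup.eq, hmemΦ'] at haw
        have h2 : y = a * (w * ((((a * w)⁻¹ * ⟨y, hy⟩ : ↥Y)) : H)) := by
          simp [mul_assoc]
        rw [h2]
        apply Subgroup.mul_mem_sup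
        · exact ⟨a, ha, rfl⟩
        · exact W.mul_mem hw' (hΦW haw)

theorem coatom_comm_pow {G : Type*} [Group G] [Finite G] {t : ℕ} [Fact t.Prime] (hG : IsPGroup t G)
    {M : Subgroup G} (hM : IsCoatom M) (a b : G) : ⁅a, b⁆ ∈ M ∧ a ^ t ∈ M := by
  obtain ⟨hn, hi⟩ := Cfsg.Agent.H14.coatom_normal_index hG hM
  refine ⟨?_, ?_⟩
  · have hc : Nat.card (G ⧸ M) = t := hi
    haveI : IsCyclic (G ⧸ M) := isCyclic_of_prime_card hc
    letI := IsCyclic.commGroup (α := G ⧸ M)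
    rw [← QuotientGroup.eq_one_iff, commutatorElement_def]
    simp only [QuotientGroup.mk_mul, QuotientGroup.mk_inv]
    exact commutatorElement_eq_one_iff_mul_comm.2 (mul_comm _ _)
  · rw [← hi]
    exact Subgroup.pow_index_mem M a

/-- The core of the "isolated" argument. -/
theorem isolated_core {H : Type*} [Group H] [Finite H] {p t : ℕ} [Fact p.Prime] [Fact t.Prime]
    (hpt : p ≠ t) (Y X S R L : Subgroup H) (hYn : Y.Normal) (hYt : IsPGroup t Y) (hXY : X ≤ Y)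
    (hSp : IsPGroup p S) (hSX : S ≤ Subgroup.normalizer (X : Set H)) (hRS : R ≤ S)
    (hRL : L ≤ Subgroup.normalizer (R : Set H)) (hYL : Y ⊔ L = ⊤)
    (hcl : Y ≤ Subgroup.normalClosure (X : Set H))
    (hkey : ∀ A : Subgroup H, A ≤ Y → S ≤ Subgroup.normalizer (A : Set H) → ¬ X ≤ A → A ≤ L)
    (hO : pCore p H = ⊥) (hR : R ≠ ⊥) :
    X = Y ∧ ∀ a ∈ Y, ∀ b ∈ Y, ∀ c ∈ Y, ⁅⁅a, b⁆, c⁆ = 1 := by
  classical
  have hRp : IsPGroup p R := hSp.to_le hRS
  have hdisj : ∀ x, x ∈ Y → x ∈ R → x = 1 := by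
    intro x hx hr
    have := (IsPGroup.disjoint_of_ne t p hpt.symm Y R hYt hRp).le_bot ⟨hx, hr⟩
    exact (Subgroup.mem_bot).1 this
  have hNY : ∀ g : H, g ∈ Subgroup.normalizer (Y : Set H) := by
    intro g
    rw [Subgroup.normalizer_eq_top_iff.2 hYn]; trivial
  have hcomm : ∀ A : Subgroup H, A ≤ Y → S ≤ Subgroup.normalizer (A : Set H) → ¬ X ≤ A →
      ∀ a ∈ A, ∀ r ∈ R, ⁅a, r⁆ = 1 := by
    intro A hAY hSA hXA a ha r hr
    apply hdisj _ (hAY ?_) ?_
    · rw [commutatorElement_def]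
      have h1 : a * r * a⁻¹ * r⁻¹ = a * (r * a⁻¹ * r⁻¹) := by group
      rw [h1]
      exact A.mul_mem ha ((Subgroup.mem_normalizer_iff.1 (hSA (hRS hr)) _).1 (A.inv_mem ha))
    · rw [commutatorElement_def]
      exact R.mul_mem ((Subgroup.mem_normalizer_iff.1 (hRL (hkey A hAY hSA hXA ha)) _).1 hr)
        (R.inv_mem hr)
  have hcard : (Nat.card R).Coprime (Nat.card Y) := IsPGroup.coprime_card_of_ne p t hpt R Y hRp hYt
  haveI hRsolv : Group.IsSolvable R := by
    haveI := hRp.isNilpotent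
    infer_instance
  set K : Subgroup H := ⁅Y, R⁆ with hK
  have hKY : K ≤ Y := Subgroup.commutator_le_left Y R
  have hKn : K.Normal := by
    rw [← Subgroup.normalizer_eq_top_iff, eq_top_iff, ← hYL]
    apply sup_le
    · intro y hy
      exact H12.conj_left_mem_normalizer_commutator hy
    · intro l hl
      exact H12.conj_mem_normalizer_commutator (hNY l) (hRL hl)
  have hKne : K ≠ ⊥ := by
    intro h0
    have hcent : ∀ y ∈ Y, ∀ r ∈ R, ⁅y, r⁆ = 1 := by
      intro y hy r hr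
      have : ⁅y, r⁆ ∈ K := Subgroup.commutator_mem_commutator hy hr
      rw [h0] at this
      exact (Subgroup.mem_bot).1 this
    have hRn : R.Normal := by
      rw [← Subgroup.normalizer_eq_top_iff, eq_top_iff, ← hYL]
      apply sup_le _ hRL
      intro y hy
      rw [Subgroup.mem_normalizer_iff]
      intro r
      have h1 : y * r * y⁻¹ = ⁅y, r⁆ * r := by simp [commutatorElement_def]
      constructor
      · intro hr
        rw [h1, hcent y hy r hr, one_mul]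
        exact hr
      · intro hr
        have h2 := hcent y⁻¹ (Y.inv_mem hy) _ hr
        have h3 : y⁻¹ * (y * r * y⁻¹) * y⁻¹⁻¹ = r := by group
        have h4 : y⁻¹ * (y * r * y⁻¹) * y⁻¹⁻¹ = ⁅y⁻¹, y * r * y⁻¹⁆ * (y * r * y⁻¹) := by
          rw [commutatorElement_def]; group
        rw [h3, h2, one_mul] at h4
        rw [h4]
        exact hr
    have : R ≤ pCore p H := H01.le_pCore hRn hRp
    rw [hO] at this
    exact hR (le_bot_iff.1 this)
  have hXK : X ≤ K := by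
    by_contra hX
    have h1 := hcomm K hKY (by
      intro s _
      rw [Subgroup.normalizer_eq_top_iff.2 hKn]; trivial) hX
    have h2 : ⁅K, R⁆ = ⊥ := by
      rw [eq_bot_iff, Subgroup.commutator_le]
      intro k hk r hr
      rw [h1 k hk r hr]
      exact Subgroup.one_mem _
    have h3 := H01.commutator_commutator_eq (A := R) (K := Y) (fun r _ => hNY r) hcard (Or.inl hRsolv)
    rw [h2] at h3
    exact hKne h3.symm
  have hYK : Y ≤ K := hcl.trans (Subgroup.normalClosure_le_normal hXK)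
  have hKeq : ⁅Y, R⁆ = Y := le_antisymm hKY hYK
  haveI hYnt : Nontrivial ↥Y := by
    by_contra hnt
    rw [not_nontrivial_iff_subsingleton] at hnt
    apply hKne
    rw [eq_bot_iff]
    intro k hk
    have := Subsingleton.elim (⟨k, hKY hk⟩ : ↥Y) 1
    exact (Subgroup.mem_bot).2 (congrArg Subtype.val this)
  set Φ₀ : Subgroup ↥Y := frattini ↥Y with hΦ₀
  set Φ : Subgroup H := Φ₀.map Y.subtype with hΦ
  have hΦY : Φ ≤ Y := Subgroup.map_subtype_le _
  have hΦn : Φ.Normal := by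
    haveI : Φ₀.Characteristic := frattini_characteristic
    infer_instance
  have hΦmem : ∀ y : ↥Y, (y : H) ∈ Φ ↔ y ∈ Φ₀ := by
    intro y
    rw [hΦ, Subgroup.mem_map]
    constructor
    · rintro ⟨z, hz, hzy⟩
      rwa [← Subtype.ext hzy]
    · intro h
      exact ⟨y, h, rfl⟩
  have hmemΦ₀ : ∀ y : ↥Y, (∀ M : Subgroup ↥Y, IsCoatom M → y ∈ M) → y ∈ Φ₀ := by
    intro y h
    rw [hΦ₀]
    show y ∈ Order.radical (Subgroup ↥Y)
    rw [Order.radical, Subgroup.mem_iInf]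
    intro M
    rw [Subgroup.mem_iInf]
    intro hM
    exact h M hM
  have hab : ∀ a ∈ Y, ∀ b ∈ Y, ⁅a, b⁆ ∈ Φ := by
    intro a ha b hb
    have h1 : ⁅a, b⁆ = ((⁅(⟨a, ha⟩ : ↥Y), (⟨b, hb⟩ : ↥Y)⁆ : ↥Y) : H) := rfl
    rw [h1, hΦmem]
    apply hmemΦ₀
    intro M hM
    exact (coatom_comm_pow hYt hM _ _).1
  have hpow : ∀ a ∈ Y, a ^ t ∈ Φ := by
    intro a ha
    have h1 : a ^ t = (((⟨a, ha⟩ : ↥Y) ^ t : ↥Y) : H) := rfl
    rw [h1, hΦmem]
    apply hmemΦ₀
    intro M hM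
    exact (coatom_comm_pow hYt hM _ 1).2
  have hΦne : ¬ Y ≤ Φ := by
    intro h
    have h1 : Φ₀ = ⊤ := by
      rw [eq_top_iff]
      intro y _
      exact (hΦmem y).1 (h y.2)
    have h2 : (⊥ : Subgroup ↥Y) ⊔ frattini ↥Y = ⊤ := by
      rw [← hΦ₀, h1, sup_top_eq]
    have h3 : (⊥ : Subgroup ↥Y) = ⊤ := frattini_nongenerating h2
    exact bot_ne_top h3
  have hnd : ∀ U : Subgroup H, IsPGroup p U → ¬ t ∣ Nat.card U := by
    intro U hU hd
    obtain ⟨k, hk⟩ := IsPGroup.iff_card.1 hU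
    rw [hk] at hd
    have h1 := (Fact.out : t.Prime).dvd_of_dvd_pow hd
    exact hpt ((Nat.prime_dvd_prime_iff_eq Fact.out Fact.out).1 h1).symm
  have hnotdvdR : ¬ t ∣ Nat.card R := hnd R hRp
  have hnotdvdS : ¬ t ∣ Nat.card S := hnd S hSp
  have hfix : ∀ A : Subgroup H, Φ ≤ A → A ≤ Y → (∀ a ∈ A, ∀ r ∈ R, ⁅a, r⁆ = 1) → A = Φ := by
    intro A hΦA hAY hA
    have hRΦ : R ≤ Subgroup.normalizer (Φ : Set H) := by
      rw [Subgroup.normalizer_eq_top_iff.2 hΦn]; exact le_top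
    have hRA : R ≤ Subgroup.normalizer (A : Set H) := by
      intro r hr
      apply H13.mem_normalizer_of_map_conj_le
      rintro _ ⟨a, ha, rfl⟩
      have h1 : (MulAut.conj r).toMonoidHom a = a := by
        have := hA a ha r hr
        rw [commutatorElement_eq_one_iff_mul_comm] at this
        show r * a * r⁻¹ = a
        rw [← this]; group
      rw [h1]; exact ha
    obtain ⟨M, hΦM, hMY, hRM, hMA, hMsup⟩ := maschke_mod Y Φ A R hYn hΦY hΦA hAY hab hpow hRΦ hRA hnotdvdR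
    have hYM : ∀ x ∈ Y, ∀ m ∈ M, x * m * x⁻¹ ∈ M := by
      intro x hx m hm
      have h1 : x * m * x⁻¹ = ⁅x, m⁆ * m := by rw [commutatorElement_def]; group
      rw [h1]
      exact M.mul_mem (hΦM (hab _ hx _ (hMY hm))) hm
    let T : Subgroup H :=
      { carrier := {y | y ∈ Y ∧ ∀ r ∈ R, ⁅y, r⁆ ∈ M}
        one_mem' := ⟨Y.one_mem, fun r _ => by simp [commutatorElement_one_left]⟩
        mul_mem' := by
          rintro a b ⟨ha, ha'⟩ ⟨hb, hb'⟩
          refine ⟨Y.mul_mem ha hb, fun r hr => ?_⟩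
          have h1 : ⁅a * b, r⁆ = (a * ⁅b, r⁆ * a⁻¹) * ⁅a, r⁆ := by
            simp only [commutatorElement_def]; group
          rw [h1]
          exact M.mul_mem (hYM a ha _ (hb' r hr)) (ha' r hr)
        inv_mem' := by
          rintro a ⟨ha, ha'⟩
          refine ⟨Y.inv_mem ha, fun r hr => ?_⟩
          have h1 : ⁅a⁻¹, r⁆ = a⁻¹ * (⁅a, r⁆)⁻¹ * a⁻¹⁻¹ := by
            simp only [commutatorElement_def]; group
          rw [h1]
          exact hYM _ (Y.inv_mem ha) _ (M.inv_mem (ha' r hr)) }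
    have hMT : M ≤ T := by
      intro m hm
      refine ⟨hMY hm, fun r hr => ?_⟩
      rw [commutatorElement_def]
      have h1 : m * r * m⁻¹ * r⁻¹ = m * (r * m⁻¹ * r⁻¹) := by group
      rw [h1]
      exact M.mul_mem hm ((Subgroup.mem_normalizer_iff.1 (hRM hr) _).1 (M.inv_mem hm))
    have hAT : A ≤ T := by
      intro a ha
      refine ⟨hAY ha, fun r hr => ?_⟩
      rw [hA a ha r hr]
      exact M.one_mem
    have hYT : Y ≤ T := by
      rw [← hMsup]
      exact sup_le hMT hAT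
    have hYM' : Y ≤ M := by
      rw [← hKeq, Subgroup.commutator_le]
      intro y hy r hr
      exact (hYT hy).2 r hr
    apply le_antisymm _ hΦA
    rw [← hMA]
    exact le_inf (hAY.trans hYM') le_rfl
  have hXsup : X ⊔ Φ = Y := by
    by_contra hne
    have hSΦ : S ≤ Subgroup.normalizer (Φ : Set H) := by
      rw [Subgroup.normalizer_eq_top_iff.2 hΦn]; exact le_top
    have hSW : S ≤ Subgroup.normalizer ((X ⊔ Φ : Subgroup H) : Set H) := by
      intro s hs
      exact H13.mem_normalizer_sup (hSX hs) (hSΦ hs)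
    obtain ⟨A, hΦA, hAY, hSA, hAW, hAsup⟩ := maschke_mod Y Φ (X ⊔ Φ) S hYn hΦY le_sup_right
      (sup_le hXY hΦY) hab hpow hSΦ hSW hnotdvdS
    have hXA : ¬ X ≤ A := by
      intro hXA
      have h1 : X ≤ Φ := by
        rw [← hAW]
        exact le_inf hXA le_sup_left
      exact hΦne (hcl.trans (Subgroup.normalClosure_le_normal h1))
    have h1 := hfix A hΦA hAY (hcomm A hAY hSA hXA)
    apply hne
    rw [← hAsup, h1]
    simp
  have hXY' : X = Y := by
    have h1 : X.subgroupOf Y ⊔ frattini ↥Y = ⊤ := by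
      apply Subgroup.map_injective Y.subtype_injective
      rw [Subgroup.map_sup, Subgroup.map_subgroupOf_eq_of_le hXY, ← MonoidHom.range_eq_map,
        Subgroup.range_subtype]
      exact hXsup
    have h2 := frattini_nongenerating h1
    exact le_antisymm hXY (Subgroup.subgroupOf_eq_top.1 h2)
  refine ⟨hXY', ?_⟩
  have hcΦ := hcomm Φ hΦY (by
    rw [Subgroup.normalizer_eq_top_iff.2 hΦn]; exact le_top) (by
    rw [hXY']; exact hΦne)
  have h2 : ⁅Φ, R⁆ = ⊥ := by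
    rw [eq_bot_iff, Subgroup.commutator_le]
    intro a ha r hr
    rw [hcΦ a ha r hr]
    exact Subgroup.one_mem _
  have h3 : ⁅⁅Y, R⁆, Φ⁆ = ⊥ := by
    apply Subgroup.commutator_commutator_eq_bot_of_rotate
    · rw [Subgroup.commutator_comm R Φ, h2, Subgroup.commutator_bot_left]
    · rw [eq_bot_iff]
      refine (Subgroup.commutator_mono (Subgroup.commutator_le_left Φ Y) le_rfl).trans ?_
      rw [h2]
  rw [hKeq] at h3
  intro a ha b hb c hc
  have h4 : ⁅c, ⁅a, b⁆⁆ = 1 := by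
    have : ⁅c, ⁅a, b⁆⁆ ∈ ⁅Y, Φ⁆ := Subgroup.commutator_mem_commutator hc (hab a ha b hb)
    rw [h3] at this
    exact (Subgroup.mem_bot).1 this
  rw [← commutatorElement_inv, h4, inv_one]

end Cfsg.Agent.H14.IsoCore
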