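import Mathlib
import Cfsg.Agent.Lib.H18.HallPet

/-! `p`-th powers along the lower central series: a filtered form of the Hall-Petrescu formula. -/

set_option autoImplicit false
set_option linter.unusedSectionVars false
set_option linter.style.haveILetI false

namespace Cfsg.Agent.H14.MCP

open Cfsg.Agent.H18
open scoped commutatorElement

/-- The lower central series. -/
abbrev LC (G : Type*) [Group G] (k : ℕ) : Subgroup G := (⊤ : Subgroup G).lowerCentralSeries k

variable {G : Type*} [Group G]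

instance lc_normal (k : ℕ) : (LC G k).Normal := H20.lowerCentralSeries_normal _ _

theorem lc_anti {a b : ℕ} (h : a ≤ b) : LC G b ≤ LC G a :=
  Subgroup.lowerCentralSeries_antitone ⊤ h

theorem lc_comm {k : ℕ} {x y : G} (hx : x ∈ LC G k) : ⁅x, y⁆ ∈ LC G (k + 1) := by
  rw [show LC G (k + 1) = ⁅LC G k, (⊤ : Subgroup G)⁆ from rfl]
  exact Subgroup.commutator_mem_commutator hx (Subgroup.mem_top y)

theorem lc_comm2 {a b : ℕ} {x y : G} (hx : x ∈ LC G a) (hy : y ∈ LC G b) :
    ⁅x, y⁆ ∈ LC G (a + b + 1) :=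
  commutator_lcs_le b a (Subgroup.commutator_mem_commutator hx hy)

theorem lc_le_comm {k : ℕ} {S : Subgroup G} (h : ∀ x ∈ LC G k, ∀ y : G, ⁅x, y⁆ ∈ S) :
    LC G (k + 1) ≤ S := by
  rw [show LC G (k + 1) = ⁅LC G k, (⊤ : Subgroup G)⁆ from rfl, Subgroup.commutator_le]
  intro x hx y _
  exact h x hx y

/-- Commutators of elements of `⟨y⟩ L_j` lie in `L_{j+1}`. -/
theorem comm_mem_of_sup {j : ℕ} {y a b : G}
    (ha : a ∈ Subgroup.zpowers y ⊔ LC G j) (hb : b ∈ Subgroup.zpowers y ⊔ LC G j) :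
    ⁅a, b⁆ ∈ LC G (j + 1) := by
  have hcentral : ∀ c ∈ LC G j, ∀ z : G,
      (QuotientGroup.mk c : G ⧸ LC G (j + 1)) * QuotientGroup.mk z =
        QuotientGroup.mk z * QuotientGroup.mk c := by
    intro c hc z
    have h := lc_comm (y := z) hc
    have h1 : (QuotientGroup.mk ⁅c, z⁆ : G ⧸ LC G (j + 1)) = 1 := (QuotientGroup.eq_one_iff _).mpr h
    rw [commutatorElement_def] at h1
    simp only [QuotientGroup.mk_mul, QuotientGroup.mk_inv] at h1
    rw [mul_inv_eq_one, mul_inv_eq_iff_eq_mul] at h1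
    exact h1
  obtain ⟨u, hu, c, hc, rfl⟩ := (Subgroup.mem_sup_of_normal_right).mp ha
  obtain ⟨v, hv, d, hd, rfl⟩ := (Subgroup.mem_sup_of_normal_right).mp hb
  obtain ⟨m, rfl⟩ := Subgroup.mem_zpowers_iff.mp hu
  obtain ⟨l, rfl⟩ := Subgroup.mem_zpowers_iff.mp hv
  rw [← QuotientGroup.eq_one_iff, commutatorElement_def]
  simp only [QuotientGroup.mk_mul, QuotientGroup.mk_inv]
  have hcomm : (QuotientGroup.mk (y ^ m) : G ⧸ LC G (j + 1)) * QuotientGroup.mk (y ^ l) =
      QuotientGroup.mk (y ^ l) * QuotientGroup.mk (y ^ m) := by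
    rw [← QuotientGroup.mk_mul, ← QuotientGroup.mk_mul, ← zpow_add, ← zpow_add, add_comm m l]
  have hcd := hcentral c hc d
  have hcv := hcentral c hc (y ^ l)
  have hdu := hcentral d hd (y ^ m)
  have e : (QuotientGroup.mk (y ^ m) : G ⧸ LC G (j + 1)) * QuotientGroup.mk c *
      (QuotientGroup.mk (y ^ l) * QuotientGroup.mk d) =
      (QuotientGroup.mk (y ^ l) * QuotientGroup.mk d) *
      (QuotientGroup.mk (y ^ m) * QuotientGroup.mk c) := by
    calc (QuotientGroup.mk (y ^ m) : G ⧸ LC G (j + 1)) * QuotientGroup.mk c *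
          (QuotientGroup.mk (y ^ l) * QuotientGroup.mk d)
        = QuotientGroup.mk (y ^ m) * (QuotientGroup.mk c * QuotientGroup.mk (y ^ l)) * QuotientGroup.mk d := by
          simp only [mul_assoc]
      _ = QuotientGroup.mk (y ^ m) * (QuotientGroup.mk (y ^ l) * QuotientGroup.mk c) * QuotientGroup.mk d := by
          rw [hcv]
      _ = (QuotientGroup.mk (y ^ m) * QuotientGroup.mk (y ^ l)) * (QuotientGroup.mk c * QuotientGroup.mk d) := by
          simp only [mul_assoc]
      _ = (QuotientGroup.mk (y ^ l) * QuotientGroup.mk (y ^ m)) * (QuotientGroup.mk d * QuotientGroup.mk c) := by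
          rw [hcomm, hcd]
      _ = QuotientGroup.mk (y ^ l) * (QuotientGroup.mk (y ^ m) * QuotientGroup.mk d) * QuotientGroup.mk c := by
          simp only [mul_assoc]
      _ = QuotientGroup.mk (y ^ l) * (QuotientGroup.mk d * QuotientGroup.mk (y ^ m)) * QuotientGroup.mk c := by
          rw [hdu]
      _ = _ := by simp only [mul_assoc]
  rw [e]
  group

/-- Hall-Petrescu for `x ∈ L_j`, `y` arbitrary. -/
theorem pow_mul_filtered {p : ℕ} (hp : p.Prime) {j : ℕ}
    (h1 : ∀ g ∈ LC G (j + 1), g ^ p = 1) (h2 : LC G (j + p - 1) = ⊥)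
    {x : G} (hx : x ∈ LC G j) (y : G) : (x * y) ^ p = x ^ p * y ^ p := by
  set D : Subgroup G := Subgroup.zpowers y ⊔ LC G j with hD
  have hxD : x ∈ D := (le_sup_right : LC G j ≤ D) hx
  have hyD : y ∈ D := (le_sup_left : Subgroup.zpowers y ≤ D) (Subgroup.mem_zpowers y)
  have hlcs : ∀ i : ℕ, ∀ g ∈ (⊤ : Subgroup ↥D).lowerCentralSeries (i + 1),
      (g : G) ∈ LC G (j + i + 1) := by
    intro i
    induction i with
    | zero =>
      intro g hg
      have h3 : (⊤ : Subgroup ↥D).lowerCentralSeries (0 + 1) ≤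
          (LC G (j + 0 + 1)).subgroupOf D := by
        rw [show (⊤ : Subgroup ↥D).lowerCentralSeries (0 + 1) =
          ⁅(⊤ : Subgroup ↥D).lowerCentralSeries 0, (⊤ : Subgroup ↥D)⁆ from rfl,
          Subgroup.commutator_le]
        intro a _ b _
        rw [Subgroup.mem_subgroupOf]
        exact comm_mem_of_sup a.2 b.2
      exact Subgroup.mem_subgroupOf.mp (h3 hg)
    | succ i ih =>
      intro g hg
      have h3 : (⊤ : Subgroup ↥D).lowerCentralSeries (i + 1 + 1) ≤
          (LC G (j + (i + 1) + 1)).subgroupOf D := by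
        rw [show (⊤ : Subgroup ↥D).lowerCentralSeries (i + 1 + 1) =
          ⁅(⊤ : Subgroup ↥D).lowerCentralSeries (i + 1), (⊤ : Subgroup ↥D)⁆ from rfl,
          Subgroup.commutator_le]
        intro a ha b _
        rw [Subgroup.mem_subgroupOf]
        exact lc_comm (k := j + i + 1) (ih a ha)
      exact Subgroup.mem_subgroupOf.mp (h3 hg)
  have hp2 := hp.two_le
  have hbot : (⊤ : Subgroup ↥D).lowerCentralSeries (p - 1) = ⊥ := by
    rw [eq_bot_iff]
    intro g hg
    rw [show p - 1 = (p - 2) + 1 by omega] at hg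
    have h3 := hlcs (p - 2) g hg
    rw [show j + (p - 2) + 1 = j + p - 1 by omega, h2, Subgroup.mem_bot] at h3
    rw [Subgroup.mem_bot]
    exact Subtype.ext h3
  have hexp : ∀ g ∈ (⊤ : Subgroup ↥D).lowerCentralSeries 1, g ^ p = 1 := by
    intro g hg
    have h3 := hlcs 0 g hg
    apply Subtype.ext
    simpa using h1 _ h3
  have := mul_pow_of_class_lt hp hbot hexp (⟨x, hxD⟩ : ↥D) ⟨y, hyD⟩
  have h5 := congrArg (Subtype.val) this
  simpa using h5

/-- Lemma B: if all `p`-th powers are central and the class is small then the derived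
subgroup has exponent `p`. -/
theorem exp_derived_of_central {p : ℕ} (hp : p.Prime) {c : ℕ} (hc : LC G c = ⊥) (hcp : c ≤ p)
    (hcent : ∀ t : G, ∀ y : G, t ^ p * y = y * t ^ p) :
    ∀ g ∈ LC G 1, g ^ p = 1 := by
  have key : ∀ i j : ℕ, 1 ≤ j → c ≤ j + i → ∀ g ∈ LC G j, g ^ p = 1 := by
    intro i
    induction i with
    | zero =>
      intro j _ hj g hg
      have : g ∈ LC G c := lc_anti (by omega) hg
      rw [hc, Subgroup.mem_bot] at this
      rw [this, one_pow]
    | succ i ih =>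
      intro j hj1 hj g hg
      have h1 : ∀ g ∈ LC G (j + 1), g ^ p = 1 := ih (j + 1) (by omega) (by omega)
      have hp2 := hp.two_le
      have h2 : LC G (j + p - 1) = ⊥ := by
        rw [eq_bot_iff, ← hc]
        exact lc_anti (by omega)
      obtain ⟨j', rfl⟩ : ∃ j', j = j' + 1 := ⟨j - 1, by omega⟩
      let S : Subgroup G :=
        { carrier := {x | x ∈ LC G (j' + 1) ∧ x ^ p = 1}
          mul_mem' := by
            rintro a b ⟨ha, ha1⟩ ⟨hb, hb1⟩
            refine ⟨(LC G (j' + 1)).mul_mem ha hb, ?_⟩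
            rw [pow_mul_filtered hp h1 h2 ha b, ha1, hb1, one_mul]
          one_mem' := ⟨(LC G (j' + 1)).one_mem, one_pow _⟩
          inv_mem' := by
            rintro a ⟨ha, ha1⟩
            exact ⟨(LC G (j' + 1)).inv_mem ha, by rw [inv_pow, ha1, inv_one]⟩ }
      have hle : LC G (j' + 1) ≤ S := by
        apply lc_le_comm
        intro v hv t
        refine ⟨lc_comm hv, ?_⟩
        have hm : (⁅v, t⁆ * t) ^ p = ⁅v, t⁆ ^ p * t ^ p :=
          pow_mul_filtered hp h1 h2 (lc_comm hv) t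
        have he : ⁅v, t⁆ * t = v * t * v⁻¹ := by
          rw [commutatorElement_def]; group
        have hc2 : (v * t * v⁻¹) ^ p = t ^ p := by
          rw [conj_pow, ← hcent t v]; group
        rw [he, hc2] at hm
        exact (mul_eq_right.mp hm.symm)
      exact (hle hg).2
  intro g hg
  exact key c 1 le_rfl (by omega) g hg

/-- Lemma C: from `p`-th powers of an abelian term being central to its having exponent `p`. -/
theorem exp_term_of_central {p : ℕ} (hp : p.Prime) {k : ℕ} (hk : 2 ≤ k)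
    (hab : ∀ a ∈ LC G (k - 1), ∀ b ∈ LC G (k - 1), a * b = b * a)
    (hpc : ∀ a ∈ LC G (k - 1), ∀ y : G, a ^ p * y = y * a ^ p)
    (hr : LC G (k + p - 2) = ⊥)
    (ht : ∀ t : G, t ^ p ∈ LC G (p - 1)) :
    ∀ a ∈ LC G (k - 1), a ^ p = 1 := by
  obtain ⟨k', rfl⟩ : ∃ k', k = k' + 2 := ⟨k - 2, by omega⟩
  have hkk : k' + 2 - 1 = k' + 1 := by omega
  rw [hkk] at hab hpc ⊢
  have hp2 := hp.two_le
  -- the subgroup of elements of exponent `p`
  let S : Subgroup G :=
    { carrier := {x | x ∈ LC G (k' + 1) ∧ x ^ p = 1}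
      mul_mem' := by
        rintro a b ⟨ha, ha1⟩ ⟨hb, hb1⟩
        refine ⟨(LC G (k' + 1)).mul_mem ha hb, ?_⟩
        rw [(show Commute a b from hab a ha b hb).mul_pow, ha1, hb1, one_mul]
      one_mem' := ⟨(LC G (k' + 1)).one_mem, one_pow _⟩
      inv_mem' := by
        rintro a ⟨ha, ha1⟩
        exact ⟨(LC G (k' + 1)).inv_mem ha, by rw [inv_pow, ha1, inv_one]⟩ }
  have h1 : ∀ g ∈ LC G (k' + 1 + 1), g ^ p = 1 := by
    have hle : LC G (k' + 1 + 1) ≤ S := by
      apply lc_le_comm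
      intro a ha x
      refine ⟨lc_anti (Nat.le_succ _) (lc_comm ha), ?_⟩
      have hconj : x * a⁻¹ * x⁻¹ ∈ LC G (k' + 1) :=
        (inferInstance : (LC G (k' + 1)).Normal).conj_mem _ ((LC G (k' + 1)).inv_mem ha) x
      have he : ⁅a, x⁆ = a * (x * a⁻¹ * x⁻¹) := by
        rw [commutatorElement_def]; group
      rw [he, (show Commute a (x * a⁻¹ * x⁻¹) from hab a ha _ hconj).mul_pow, conj_pow, inv_pow]
      have h3 : x * (a ^ p)⁻¹ * x⁻¹ = (a ^ p)⁻¹ := by
        have := hpc a ha x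
        calc x * (a ^ p)⁻¹ * x⁻¹ = (x * a ^ p * x⁻¹)⁻¹ := by group
          _ = (a ^ p * x * x⁻¹)⁻¹ := by rw [this]
          _ = (a ^ p)⁻¹ := by group
      rw [h3]; group
    intro g hg
    exact (hle hg).2
  have h2 : LC G (k' + 1 + p - 1) = ⊥ := by
    rw [← hr]; congr 1; omega
  have hle : LC G (k' + 1) ≤ S := by
    apply lc_le_comm
    intro v hv t
    refine ⟨lc_comm hv, ?_⟩
    have hm : (⁅v, t⁆ * t) ^ p = ⁅v, t⁆ ^ p * t ^ p :=
      pow_mul_filtered hp h1 h2 (lc_comm hv) t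
    have he : ⁅v, t⁆ * t = v * t * v⁻¹ := by
      rw [commutatorElement_def]; group
    have hc2 : (v * t * v⁻¹) ^ p = v * t ^ p * v⁻¹ := by rw [conj_pow]
    rw [he, hc2] at hm
    have hc3 : ⁅v, t ^ p⁆ ∈ LC G (k' + (p - 1) + 1) := lc_comm2 hv (ht t)
    rw [show k' + (p - 1) + 1 = k' + 2 + p - 2 by omega, hr, Subgroup.mem_bot] at hc3
    have hc4 : v * t ^ p * v⁻¹ = t ^ p := by
      rw [commutatorElement_def] at hc3
      exact mul_inv_eq_one.mp hc3
    rw [hc4] at hm
    exact (mul_eq_right.mp hm.symm)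
  intro a ha
  exact (hle ha).2

end Cfsg.Agent.H14.MCP
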