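import Mathlib
import Cfsg.Agent.S0662
import Cfsg.Agent.Lib.H14.MCPow1

/-! `p`-groups of maximal class: `p`-th powers of low order groups are central. -/

set_option autoImplicit false
set_option linter.unusedSectionVars false
set_option linter.style.haveILetI false

namespace Cfsg.Agent.H14.MCP

open Cfsg.Agent.H18
open scoped commutatorElement

universe u

/-- `p`-groups of order `p ^ n` and class `n - 1`. -/
structure MC (p : ℕ) (G : Type*) [Group G] (n : ℕ) : Prop where
  card : Nat.card G = p ^ n
  bot : LC G (n - 1) = ⊥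
  ne : LC G (n - 2) ≠ ⊥

variable {G : Type*} [Group G]

theorem lc_map (N : Subgroup G) [N.Normal] (j : ℕ) :
    (LC G j).map (QuotientGroup.mk' N) = LC (G ⧸ N) j := by
  rw [LC, Subgroup.map_lowerCentralSeries,
    Subgroup.map_top_of_surjective _ (QuotientGroup.mk'_surjective N)]

theorem lc_mk_mem (N : Subgroup G) [N.Normal] {j : ℕ} {x : G} (hx : x ∈ LC G j) :
    (QuotientGroup.mk x : G ⧸ N) ∈ LC (G ⧸ N) j := by
  rw [← lc_map]
  exact ⟨x, hx, rfl⟩

theorem lc_of_mk_mem (N : Subgroup G) [N.Normal] {j : ℕ} (hN : N ≤ LC G j) {x : G}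
    (hx : (QuotientGroup.mk x : G ⧸ N) ∈ LC (G ⧸ N) j) : x ∈ LC G j := by
  rw [← lc_map] at hx
  obtain ⟨y, hy, hyx⟩ := hx
  have h1 : y⁻¹ * x ∈ N := QuotientGroup.eq.mp hyx
  have h2 := (LC G j).mul_mem hy (hN h1)
  simpa using h2

theorem lc_quot_exists (N : Subgroup G) [N.Normal] {j : ℕ} {z : G ⧸ N}
    (hz : z ∈ LC (G ⧸ N) j) : ∃ x ∈ LC G j, (QuotientGroup.mk x : G ⧸ N) = z := by
  rw [← lc_map] at hz
  obtain ⟨x, hx, rfl⟩ := hz
  exact ⟨x, hx, rfl⟩

theorem lc_quot_self_bot (j : ℕ) : LC (G ⧸ LC G j) j = ⊥ := by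
  rw [← lc_map, eq_bot_iff]
  rintro _ ⟨x, hx, rfl⟩
  rw [Subgroup.mem_bot]
  exact (QuotientGroup.eq_one_iff x).mpr hx

theorem central_of_lc_bot {j : ℕ} (h : LC G (j + 1) = ⊥) {z : G} (hz : z ∈ LC G j) (y : G) :
    z * y = y * z := by
  have h1 : ⁅z, y⁆ ∈ LC G (j + 1) := lc_comm hz
  rw [h, Subgroup.mem_bot, commutatorElement_def] at h1
  rw [mul_inv_eq_one, mul_inv_eq_iff_eq_mul] at h1
  exact h1

variable [Finite G] {p : ℕ} [hp : Fact p.Prime] {n : ℕ}

theorem MC.nilp (h : MC p G n) : Group.IsNilpotent G := (IsPGroup.of_card h.card).isNilpotent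

theorem MC.cls (h : MC p G n) (hn : 2 ≤ n) : Group.nilpotencyClass G = n - 1 := by
  haveI := h.nilp
  have h1 : Group.nilpotencyClass G ≤ n - 1 :=
    Subgroup.lowerCentralSeries_eq_bot_iff_nilpotencyClass_le.mp h.bot
  have h2 : ¬ Group.nilpotencyClass G ≤ n - 2 := fun hh =>
    h.ne (Subgroup.lowerCentralSeries_eq_bot_iff_nilpotencyClass_le.mpr hh)
  omega

theorem MC.card_lc (h : MC p G n) (hn : 2 ≤ n) {j : ℕ} (hj1 : 1 ≤ j) (hj : j ≤ n - 1) :
    Nat.card (LC G j) = p ^ (n - 1 - j) := by
  haveI := h.nilp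
  have hcl := h.cls hn
  have hpG : IsPGroup p G := IsPGroup.of_card h.card
  rcases Nat.lt_or_ge n 3 with h2 | h3
  · have e1 : n = 2 := by omega
    have e2 : j = 1 := by omega
    subst e1; subst e2
    have := h.bot
    rw [show (2 : ℕ) - 1 = 1 from rfl] at this
    rw [this]
    simp
  · have hu := Cfsg.Agent.S0662.L_upper h.card (by omega) j hj1 (by omega)
    have hl := Cfsg.Agent.S0662.L_lower hpG (Group.nilpotencyClass G - j) (by omega)
    rw [show Group.nilpotencyClass G - (Group.nilpotencyClass G - j) = j by omega, hcl] at hl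
    apply le_antisymm _ hl
    have e : p ^ n = p ^ (n - 1 - j) * p ^ (j + 1) := by
      rw [← pow_add]; congr 1; omega
    rw [e] at hu
    exact Nat.le_of_mul_le_mul_right hu (pow_pos hp.out.pos _)

theorem MC.quot (h : MC p G n) (hn : 2 ≤ n) {m : ℕ} (hm1 : 1 ≤ m) (hm : m ≤ n - 1) :
    MC p (G ⧸ LC G m) (m + 1) := by
  haveI := h.nilp
  refine ⟨?_, ?_, ?_⟩
  · have h1 := Subgroup.card_eq_card_quotient_mul_card_subgroup (LC G m)
    rw [h.card, h.card_lc hn hm1 hm] at h1
    have e : p ^ n = p ^ (m + 1) * p ^ (n - 1 - m) := by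
      rw [← pow_add]; congr 1; omega
    rw [e] at h1
    exact (Nat.eq_of_mul_eq_mul_right (pow_pos hp.out.pos _) h1).symm
  · rw [show m + 1 - 1 = m by omega]
    exact lc_quot_self_bot m
  · intro hb
    rw [show m + 1 - 2 = m - 1 by omega, ← lc_map, Subgroup.map_eq_bot_iff,
      QuotientGroup.ker_mk'] at hb
    have hcl := h.cls hn
    apply Cfsg.Agent.S0662.L_succ_ne (G := G) (m - 1) (by omega)
    rw [show m - 1 + 1 = m by omega]
    exact le_antisymm (lc_anti (by omega)) hb

theorem sub_eq_of_card {L M H : Subgroup G} (hHL : H ≤ L) (hMH : M ≤ H) (hne : H ≠ M)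
    (hc : Nat.card L = p * Nat.card M) : H = L := by
  obtain ⟨d, hd⟩ := Subgroup.card_dvd_of_le hMH
  obtain ⟨e, he⟩ := Subgroup.card_dvd_of_le hHL
  have hM : 0 < Nat.card M := Nat.card_pos
  have hpe : d * e = p := by
    have : Nat.card M * (d * e) = Nat.card M * p := by
      rw [← mul_assoc, ← hd, ← he, hc, mul_comm]
    exact Nat.eq_of_mul_eq_mul_left hM this
  rcases (Nat.dvd_prime hp.out).mp ⟨e, hpe.symm⟩ with h1 | h1
  · exfalso
    apply hne
    symm
    apply Subgroup.eq_of_le_of_card_ge hMH
    rw [hd, h1, mul_one]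
  · apply Subgroup.eq_of_le_of_card_ge hHL
    rw [hc, hd, h1, mul_comm]

/-- The quotient of `p ^ 3` case: `G / L₁` has exponent `p`. -/
theorem pow_mem_L1 (h : MC p G n) (hn : 3 ≤ n) (x : G) : x ^ p ∈ LC G 1 := by
  haveI := h.nilp
  have hq := h.quot (by omega) (m := 1) le_rfl (by omega)
  have hcl := h.cls (by omega)
  have hcard : Nat.card (G ⧸ LC G 1) = p ^ 2 := hq.card
  set w : G ⧸ LC G 1 := QuotientGroup.mk x with hw
  have hd : orderOf w ∣ p ^ 2 := by
    rw [← hcard]; exact orderOf_dvd_natCard w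
  obtain ⟨i, hi, hoi⟩ := (Nat.dvd_prime_pow hp.out).mp hd
  have hnc : ¬ IsCyclic (G ⧸ LC G 1) := by
    intro hc
    have h2 := Cfsg.Agent.S0662.L_one_le_of_cyclic (G := G) hc
    exact Cfsg.Agent.S0662.L_succ_ne (G := G) 1 (by omega)
      (le_antisymm (lc_anti (by norm_num)) h2)
  have hi2 : i ≠ 2 := by
    rintro rfl
    apply hnc
    exact isCyclic_of_orderOf_eq_card w (by rw [hoi, hcard])
  have hwp : w ^ p = 1 := by
    rw [← orderOf_dvd_iff_pow_eq_one, hoi]
    have h3 : p ^ i ∣ p ^ 1 := pow_dvd_pow p (by omega)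
    simpa using h3
  rw [← QuotientGroup.eq_one_iff, QuotientGroup.mk_pow]
  exact hwp

theorem power_b (r : ℕ) (R : Type u) [Group R] [Finite R] (hR : MC p R r) (hr2 : 2 ≤ r)
    (hrp : r ≤ p + 1) (ha : ∀ x : R, x ^ p ∈ LC R (r - 2)) : ∀ x ∈ LC R 1, x ^ p = 1 := by
  have hb := hR.bot
  refine exp_derived_of_central hp.out hb (by omega) ?_
  intro t y
  have h2 : LC R (r - 2 + 1) = ⊥ := by
    rw [show r - 2 + 1 = r - 1 by omega]; exact hb
  exact central_of_lc_bot h2 (ha t) y

/-- Main lemma: in a group of order `p ^ r` and class `r - 1`, `r ≤ p + 1`, `p`-th powers lie in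
the last term. -/
theorem power_a (r : ℕ) (hr2 : 2 ≤ r) : ∀ (R : Type u) [Group R] [Finite R], MC p R r →
    r ≤ p + 1 → ∀ x : R, x ^ p ∈ LC R (r - 2) := by
  induction r, hr2 using Nat.le_induction with
  | base =>
    intro R _ _ hR hrp x
    simp [LC]
  | succ r hr2 ih =>
    intro R _ _ hR hrp
    rcases Nat.lt_or_ge r 3 with hr3 | hr3
    · have e : r = 2 := by omega
      subst e
      intro x
      exact pow_mem_L1 hR (by norm_num) x
    · have hn : 2 ≤ r + 1 := by omega
      have hq : MC p (R ⧸ LC R (r - 1)) r := by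
        have := hR.quot hn (m := r - 1) (by omega) (by omega)
        rwa [show r - 1 + 1 = r by omega] at this
      have ha' := ih (R ⧸ LC R (r - 1)) hq (by omega)
      have hb' := power_b r (R ⧸ LC R (r - 1)) hq hr2 (by omega) ha'
      have hbotW : (⊤ : Subgroup (R ⧸ LC R (r - 1))).lowerCentralSeries (p - 1) = ⊥ := by
        have h1 := hq.bot
        rw [eq_bot_iff, ← h1]
        exact lc_anti (by omega)
      have hhom : ∀ x y : R ⧸ LC R (r - 1), (x * y) ^ p = x ^ p * y ^ p :=
        mul_pow_of_class_lt hp.out hbotW hb'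
      let Y : Subgroup R :=
        { carrier := {x | (QuotientGroup.mk x : R ⧸ LC R (r - 1)) ^ p = 1}
          mul_mem' := by
            intro a b ha hb
            show (QuotientGroup.mk (a * b) : R ⧸ LC R (r - 1)) ^ p = 1
            rw [QuotientGroup.mk_mul, hhom, show (QuotientGroup.mk a : R ⧸ LC R (r - 1)) ^ p = 1 from ha,
              show (QuotientGroup.mk b : R ⧸ LC R (r - 1)) ^ p = 1 from hb, one_mul]
          one_mem' := by
            show (QuotientGroup.mk (1 : R) : R ⧸ LC R (r - 1)) ^ p = 1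
            simp
          inv_mem' := by
            intro a ha
            show (QuotientGroup.mk a⁻¹ : R ⧸ LC R (r - 1)) ^ p = 1
            rw [QuotientGroup.mk_inv, inv_pow, show (QuotientGroup.mk a : R ⧸ LC R (r - 1)) ^ p = 1 from ha,
              inv_one] }
      have hmemY : ∀ a, a ∈ Y ↔ a ^ p ∈ LC R (r - 1) := by
        intro a
        show (QuotientGroup.mk a : R ⧸ LC R (r - 1)) ^ p = 1 ↔ _
        rw [← QuotientGroup.mk_pow, QuotientGroup.eq_one_iff]
      have hrb : LC R r = ⊥ := by
        have h1 := hR.bot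
        rwa [show r + 1 - 1 = r by omega] at h1
      have hcardZ : Nat.card (LC R (r - 1)) = p := by
        have h1 := hR.card_lc hn (j := r - 1) (by omega) (by omega)
        rw [show r + 1 - 1 - (r - 1) = 1 by omega, pow_one] at h1
        exact h1
      have hcardL : Nat.card (LC R (r - 2)) = p * Nat.card (LC R (r - 1)) := by
        have h1 := hR.card_lc hn (j := r - 2) (by omega) (by omega)
        rw [show r + 1 - 1 - (r - 2) = 2 by omega] at h1
        rw [h1, hcardZ, pow_two]
      have hZL : LC R (r - 1) ≤ LC R (r - 2) := lc_anti (by omega)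
      have hZc : ∀ z ∈ LC R (r - 1), ∀ y : R, z * y = y * z := by
        intro z hz y
        have h2 : LC R (r - 1 + 1) = ⊥ := by rwa [show r - 1 + 1 = r by omega]
        exact central_of_lc_bot h2 hz y
      have key : ∀ a, a ∉ Y → ∀ z ∈ LC R (r - 2), a * z = z * a := by
        intro a ha z hz
        have hw1 : a ^ p ∈ LC R (r - 2) := by
          apply lc_of_mk_mem (N := LC R (r - 1)) hZL
          rw [QuotientGroup.mk_pow]
          exact ha' _
        have hw2 : a ^ p ∉ LC R (r - 1) := fun h => ha ((hmemY a).mpr h)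
        let K : Subgroup R := LC R (r - 2) ⊓ Subgroup.centralizer ({a} : Set R)
        have hKL : K ≤ LC R (r - 2) := inf_le_left
        have hZK : LC R (r - 1) ≤ K := by
          intro y hy
          refine Subgroup.mem_inf.mpr ⟨hZL hy, ?_⟩
          rw [Subgroup.mem_centralizer_singleton_iff]
          exact hZc y hy a
        have hne : K ≠ LC R (r - 1) := by
          intro he
          apply hw2
          rw [← he]
          refine Subgroup.mem_inf.mpr ⟨hw1, ?_⟩
          rw [Subgroup.mem_centralizer_singleton_iff]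
          exact ((Commute.refl a).pow_left p)
        have hKeq := sub_eq_of_card (p := p) hKL hZK hne hcardL
        have hzK : z ∈ K := by rw [hKeq]; exact hz
        have := (Subgroup.mem_centralizer_singleton_iff).mp (Subgroup.mem_inf.mp hzK).2
        exact this.symm
      by_cases hY : Y = ⊤
      · intro x
        have h1 : x ∈ Y := by rw [hY]; exact Subgroup.mem_top x
        rw [show r + 1 - 2 = r - 1 by omega]
        exact (hmemY x).mp h1
      · exfalso
        obtain ⟨a, ha⟩ : ∃ a, a ∉ Y := by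
          by_contra hcon
          push Not at hcon
          exact hY (eq_top_iff.mpr fun x _ => hcon x)
        obtain ⟨b, z, hz, hbz⟩ : ∃ b z, z ∈ LC R (r - 2) ∧ b * z ≠ z * b := by
          by_contra hcon
          push Not at hcon
          apply hR.ne
          rw [show r + 1 - 2 = r - 2 + 1 by omega, eq_bot_iff]
          apply lc_le_comm
          intro x hx y
          rw [Subgroup.mem_bot, commutatorElement_def]
          have := hcon y x hx
          rw [← this]
          group
        have hbY : b ∈ Y := by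
          by_contra hb
          exact hbz (key b hb z hz)
        have habY : a * b ∉ Y := by
          intro h
          apply ha
          have := Y.mul_mem h (Y.inv_mem hbY)
          simpa using this
        have h1 := key (a * b) habY z hz
        have h2 := key a ha z hz
        apply hbz
        have h3 : a * (b * z) = a * (z * b) := by
          calc a * (b * z) = a * b * z := by group
            _ = z * (a * b) := h1
            _ = (z * a) * b := by group
            _ = (a * z) * b := by rw [h2]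
            _ = a * (z * b) := by group
        exact mul_left_cancel h3

end Cfsg.Agent.H14.MCP
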