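import Mathlib
import Cfsg.Agent.Lib.H14.StrongAG3
import Cfsg.Agent.Lib.H09.WellPlaced
import Cfsg.Agent.Lib.H05.Residual
import Cfsg.Agent.S3076

/-! Strong Alperin-Goldschmidt, part 4: the local step. -/

set_option autoImplicit false
set_option linter.unusedSectionVars false
set_option linter.unusedVariables false
set_option linter.style.haveILetI false

namespace Cfsg.Agent.H14.SAG

open Cfsg Cfsg.Agent.H09

variable {G : Type*} [Group G] [Finite G] {p : ℕ} [hp : Fact p.Prime]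

set_option quotPrecheck false in
local notation:max "𝐍" T:max => Subgroup.normalizer ((T : Subgroup G) : Set G)
set_option quotPrecheck false in
local notation:max "𝐂" T:max => Subgroup.centralizer ((T : Subgroup G) : Set G)
set_option quotPrecheck false in
local notation:65 T:66 " ⋆ " g:66 => Subgroup.map (MulAut.conj g).toMonoidHom T

theorem exists_same_image {B Q : Type*} [Group B] [Group Q] [Finite B] (π : B →* Q) (K T : Subgroup B)
    (hnd : ¬ p ∣ T.relIndex K) (hQ : IsPGroup p (K.map π)) {k : B} (hk : k ∈ K) :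
    ∃ t ∈ T, π t = π k := by
  let π' : ↥K →* ↥(K.map π) := π.subgroupMap K
  have hs : Function.Surjective π' := π.subgroupMap_surjective K
  haveI : Finite ↥(K.map π) := Finite.of_surjective π' hs
  have h1 : ((T.subgroupOf K).map π').index ∣ (T.subgroupOf K).index := Subgroup.index_map_dvd _ hs
  obtain ⟨n, hn⟩ := hQ.index ((T.subgroupOf K).map π')
  have h2 : n = 0 := by
    by_contra hn0
    apply hnd
    exact (dvd_pow_self p hn0).trans (hn ▸ h1)
  have h3 : (T.subgroupOf K).map π' = ⊤ := by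
    rw [← Subgroup.index_eq_one, hn, h2, pow_zero]
  have h4 : π' ⟨k, hk⟩ ∈ (T.subgroupOf K).map π' := by rw [h3]; trivial
  obtain ⟨t, ht, hte⟩ := h4
  exact ⟨t, ht, congrArg Subtype.val hte⟩

theorem lemma_F (P : Sylow p G) {U K : Subgroup G} (hK : K ≤ 𝐍 U) (hKn : 𝐍 U ≤ 𝐍 K)
    (hfn : ¬ p ∣ ((P : Subgroup G) ⊓ 𝐍 U).relIndex (𝐍 U)) (hUP : U ≤ P)
    (hnot : ¬ ((P : Subgroup G) ⊓ K ≤ U))
    (hfact : ∀ k ∈ K, ∃ c t : G, Ctl p P U c ∧ c ∈ 𝐍 U ∧ t ∈ (P : Subgroup G) ⊓ K ∧ k = c * t)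
    (hbig : ∀ Q' : Subgroup G, Q' ≤ P → Nat.card U < Nat.card Q' → ∀ g' : G, (Q' ⋆ g') ≤ P →
      Ctl p P Q' g')
    {w : G} (hw : w ∈ 𝐍 U) : Ctl p P U w := by
  have hS : H13.IsSylIn p ((P : Subgroup G) ⊓ 𝐍 U) (𝐍 U) :=
    ⟨inf_le_right, P.isPGroup'.to_le inf_le_left, hfn⟩
  have hT : H13.IsSylIn p ((P : Subgroup G) ⊓ K) K := by
    have := hS.inf_normal hK hKn
    have e : ((P : Subgroup G) ⊓ 𝐍 U) ⊓ K = (P : Subgroup G) ⊓ K := by
      rw [inf_assoc, inf_eq_right.2 hK]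
    rwa [e] at this
  set T := (P : Subgroup G) ⊓ K with hTdef
  have hKw : K ⋆ w = K := map_conj_eq_of_mem_normalizer (hKn hw)
  have hTw : T ⋆ w ≤ K := by
    rw [← hKw]
    exact map_conj_mono hT.le w
  obtain ⟨k, hk, hkle⟩ := exists_conj_le_of_not_dvd_relIndex (p := p) hT.le hT.pg hT.nd hTw
    (isPGroup_map_conj hT.pg w)
  obtain ⟨c, t, hc, hcN, ht, he⟩ := hfact k⁻¹ (K.inv_mem hk)
  have h1 : k * w ∈ 𝐍 T := by
    apply mem_normalizer_of_map_conj_eq
    rw [map_conj_mul]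
    exact Subgroup.eq_of_le_of_card_ge hkle (by rw [card_map_conj, card_map_conj])
  have h2 : c⁻¹ * w ∈ 𝐍 T := by
    have h3 : t ∈ 𝐍 T := Subgroup.le_normalizer ht
    have h4 := Subgroup.mul_mem _ h3 h1
    have e2 : t * (k * w) = c⁻¹ * w := by
      have e3 : k = t⁻¹ * c⁻¹ := by
        have e4 : k = (k⁻¹)⁻¹ := by simp
        rw [e4, he]
        group
      rw [e3]
      group
    rwa [e2] at h4
  have hv : c⁻¹ * w ∈ 𝐍 U := Subgroup.mul_mem _ (Subgroup.inv_mem _ hcN) hw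
  set v := c⁻¹ * w with hvdef
  have hQ'P : U ⊔ T ≤ P := sup_le hUP inf_le_left
  have hlt : U < U ⊔ T := by
    refine lt_of_le_of_ne le_sup_left ?_
    intro h
    apply hnot
    rw [h]
    exact le_sup_right
  have hcard := card_lt_of_lt' hlt
  have hQv : (U ⊔ T) ⋆ v = U ⊔ T := by
    rw [Subgroup.map_sup, map_conj_eq_of_mem_normalizer hv, map_conj_eq_of_mem_normalizer h2]
  have h5 := hbig (U ⊔ T) hQ'P hcard v (by rw [hQv]; exact hQ'P)
  have hC := ctl_sys (p := p) (P : Subgroup G)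
  have h6 : Ctl p P U v := hC.res (by exact_mod_cast (le_sup_left : U ≤ U ⊔ T)) h5
  have h7 : Ctl p P U (c * v) := hC.comp h6 (by rw [cjs_coe_of_mem_normalizer hv]; exact hc)
  have e3 : c * v = w := by simp [hvdef]
  rwa [e3] at h7

theorem ctl_of_mem_centralizer (P : Subgroup G) {U : Subgroup G} {c : G} (hc : c ∈ 𝐂 U) :
    Ctl p P U c :=
  ⟨c⁻¹, 1, 1, Subgroup.inv_mem _ hc, Subgroup.one_mem _, W.nil _, by simp⟩

theorem centralizer_normal (U : Subgroup G) : ((𝐂 U).subgroupOf (𝐍 U)).Normal := by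
  rw [Subgroup.normal_subgroupOf_iff_le_normalizer (Subgroup.centralizer_le_normalizer _)]
  intro n hn
  apply mem_normalizer_of_map_conj_eq
  rw [H13.map_conj_centralizer, map_conj_eq_of_mem_normalizer hn]

theorem not_inf_le (P : Sylow p G) {U K : Subgroup G} (hK : K ≤ 𝐍 U) (hKn : 𝐍 U ≤ 𝐍 K)
    (hfn : ¬ p ∣ ((P : Subgroup G) ⊓ 𝐍 U).relIndex (𝐍 U)) (hUP : U ≤ P) (hUK : U ≤ K)
    (hd : p ∣ U.relIndex K) : ¬ ((P : Subgroup G) ⊓ K ≤ U) := by
  intro h
  have hS : H13.IsSylIn p ((P : Subgroup G) ⊓ 𝐍 U) (𝐍 U) :=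
    ⟨inf_le_right, P.isPGroup'.to_le inf_le_left, hfn⟩
  have hT : H13.IsSylIn p ((P : Subgroup G) ⊓ K) K := by
    have := hS.inf_normal hK hKn
    have e : ((P : Subgroup G) ⊓ 𝐍 U) ⊓ K = (P : Subgroup G) ⊓ K := by
      rw [inf_assoc, inf_eq_right.2 hK]
    rwa [e] at this
  have e : (P : Subgroup G) ⊓ K = U := le_antisymm h (le_inf hUP hUK)
  rw [e] at hT
  exact hT.nd hd

/-- If `U` is not tame in the sense of the centralizer conditions, then conjugations in `N(U)` are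
controlled. -/
theorem tame_case (P : Sylow p G) {U : Subgroup G} (hUP : U ≤ P)
    (hfn : ¬ p ∣ ((P : Subgroup G) ⊓ 𝐍 U).relIndex (𝐍 U))
    (hbig : ∀ Q' : Subgroup G, Q' ≤ P → Nat.card U < Nat.card Q' → ∀ g' : G, (Q' ⋆ g') ≤ P →
      Ctl p P Q' g')
    (hn : ¬ ((P : Subgroup G) ⊓ 𝐂 U ≤ U ∧
      (Cfsg.pPrimePCore p ↥(𝐍 U)).map (𝐍 U).subtype = U ⊔ 𝐂 U))
    {w : G} (hw : w ∈ 𝐍 U) : Ctl p P U w := by
  classical
  haveI hCN : ((𝐂 U).subgroupOf (𝐍 U)).Normal := centralizer_normal U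
  have hiff := Cfsg.Agent.S3076.result P U hUP hfn (hC := hCN)
  rw [← hiff] at hn
  set π := QuotientGroup.mk' ((𝐂 U).subgroupOf (𝐍 U)) with hπ
  have hsurj : Function.Surjective π := QuotientGroup.mk'_surjective _
  set T₀ : Subgroup ↥(𝐍 U) := (Cfsg.pCore p (↥(𝐍 U) ⧸ (𝐂 U).subgroupOf (𝐍 U))).comap π with hT₀
  have hT₀n : T₀.Normal := (Cfsg.Agent.H01.pCore_normal p).comap π
  have hUT₀ : U.subgroupOf (𝐍 U) ≤ T₀ := by
    have h1 : (U.subgroupOf (𝐍 U)).map π ≤ Cfsg.pCore p (↥(𝐍 U) ⧸ (𝐂 U).subgroupOf (𝐍 U)) :=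
      Cfsg.Agent.H01.le_pCore (Subgroup.Normal.map inferInstance π hsurj)
        (IsPGroup.map (IsPGroup.comap_of_injective (P.isPGroup'.to_le hUP) _ (𝐍 U).subtype_injective) π)
    intro x hx
    exact h1 ⟨x, hx, rfl⟩
  have hUT' : U ≤ T₀.map (𝐍 U).subtype := by
    intro u hu
    exact ⟨⟨u, Subgroup.le_normalizer hu⟩, hUT₀ hu, rfl⟩
  have hd : p ∣ U.relIndex (T₀.map (𝐍 U).subtype) := by
    by_contra h
    exact hn ⟨hUT', h⟩
  have hsub : (T₀.map (𝐍 U).subtype).subgroupOf (𝐍 U) = T₀ :=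
    Subgroup.comap_map_eq_self_of_injective (𝐍 U).subtype_injective _
  have hT'N : T₀.map (𝐍 U).subtype ≤ 𝐍 U := Subgroup.map_subtype_le _
  have hT'n : 𝐍 U ≤ 𝐍 (T₀.map (𝐍 U).subtype) := by
    rw [← Subgroup.normal_subgroupOf_iff_le_normalizer hT'N, hsub]
    exact hT₀n
  refine lemma_F P hT'N hT'n hfn hUP (not_inf_le P hT'N hT'n hfn hUP hUT' hd) ?_ hbig hw
  -- the factorization
  rintro _ ⟨k, hk, rfl⟩
  have hS : H13.IsSylIn p ((P : Subgroup G) ⊓ 𝐍 U) (𝐍 U) :=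
    ⟨inf_le_right, P.isPGroup'.to_le inf_le_left, hfn⟩
  have hT : H13.IsSylIn p ((P : Subgroup G) ⊓ T₀.map (𝐍 U).subtype) (T₀.map (𝐍 U).subtype) := by
    have := hS.inf_normal hT'N hT'n
    have e : ((P : Subgroup G) ⊓ 𝐍 U) ⊓ T₀.map (𝐍 U).subtype = (P : Subgroup G) ⊓ T₀.map (𝐍 U).subtype := by
      rw [inf_assoc, inf_eq_right.2 hT'N]
    rwa [e] at this
  have hnd : ¬ p ∣ (((P : Subgroup G) ⊓ T₀.map (𝐍 U).subtype).subgroupOf (𝐍 U)).relIndex T₀ := by
    have h1 := hT.nd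
    rw [← Subgroup.relIndex_map_map_of_injective _ _ (𝐍 U).subtype_injective,
      Subgroup.map_subgroupOf_eq_of_le (inf_le_right.trans hT'N)]
    exact h1
  have hpg : IsPGroup p (T₀.map π) :=
    (Cfsg.Agent.H01.pCore_isPGroup p).to_le (Subgroup.map_comap_le _ _)
  obtain ⟨t, ht, hte⟩ := exists_same_image π T₀ _ hnd hpg hk
  have hc : k * t⁻¹ ∈ (𝐂 U).subgroupOf (𝐍 U) := by
    have h1 : π (k * t⁻¹) = 1 := by
      rw [map_mul, map_inv, ← hte]
      simp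
    exact (QuotientGroup.eq_one_iff _).1 h1
  rw [Subgroup.mem_subgroupOf] at hc
  refine ⟨((k * t⁻¹ : ↥(𝐍 U)) : G), (t : G), ctl_of_mem_centralizer _ hc, (k * t⁻¹).2, ht, ?_⟩
  simp

theorem conn_case (P : Sylow p G) {U : Subgroup G} (hUlt : U < P)
    (hfn : ¬ p ∣ ((P : Subgroup G) ⊓ 𝐍 U).relIndex (𝐍 U))
    (hbig : ∀ Q' : Subgroup G, Q' ≤ P → Nat.card U < Nat.card Q' → ∀ g' : G, (Q' ⋆ g') ≤ P →
      Ctl p P Q' g')
    (hc : Cfsg.IsSylowChainConnected p (↥(𝐍 U) ⧸ U.subgroupOf (𝐍 U)))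
    {w : G} (hw : w ∈ 𝐍 U) : Ctl p P U w := by
  classical
  have hC := ctl_sys (p := p) (P : Subgroup G)
  have hS : H13.IsSylIn p ((P : Subgroup G) ⊓ 𝐍 U) (𝐍 U) :=
    ⟨inf_le_right, P.isPGroup'.to_le inf_le_left, hfn⟩
  have hUR : U < (P : Subgroup G) ⊓ 𝐍 U := lt_inf_normalizer P.isPGroup' hUlt
  let W₀ : Subgroup ↥(𝐍 U) :=
    { carrier := {v | Ctl p P U (v : G)}
      mul_mem' := by
        intro a b ha hb
        have h1 : Ctl p P U ((a : G) * b) :=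
          hC.comp hb (by rw [cjs_coe_of_mem_normalizer b.2]; exact ha)
        exact h1
      one_mem' := by
        show Ctl p P U ((1 : ↥(𝐍 U)) : G)
        exact ctl_of_mem_centralizer (P : Subgroup G) (Subgroup.one_mem _)
      inv_mem' := by
        intro a ha
        have h1 := hC.inv ha
        rw [cjs_coe_of_mem_normalizer a.2] at h1
        exact h1 }
  have hW : W₀ = ⊤ := by
    refine eq_top_of_connected (U.subgroupOf (𝐍 U)) hS.toSylow ?_ W₀ ?_ ?_ hc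
    · rw [hS.coe_toSylow]
      exact Subgroup.comap_mono hUR.le
    · rintro z ⟨r, hr, hzr, hrU⟩
      rw [hS.coe_toSylow] at hr hzr
      rw [Subgroup.mem_subgroupOf] at hr hzr hrU
      -- the subgroup `R ⊓ z⁻¹Rz`
      set R := (P : Subgroup G) ⊓ 𝐍 U with hR
      have hzN : (z : G) ∈ 𝐍 U := z.2
      set Q' := R ⊓ (R ⋆ (z : G)⁻¹) with hQ'
      have hr1 : (z : G)⁻¹ * r * z ∈ Q' := by
        refine Subgroup.mem_inf.2 ⟨?_, ?_⟩
        · simpa using hzr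
        · rw [mem_map_conj]
          have e : ((z : G)⁻¹)⁻¹ * ((z : G)⁻¹ * r * z) * (z : G)⁻¹ = r := by group
          rw [e]
          exact hr
      have hUQ : U ≤ Q' := by
        refine le_inf hUR.le ?_
        have h1 : U ⋆ (z : G)⁻¹ = U := map_conj_eq_of_mem_normalizer (Subgroup.inv_mem _ hzN)
        calc U = U ⋆ (z : G)⁻¹ := h1.symm
          _ ≤ R ⋆ (z : G)⁻¹ := map_conj_mono hUR.le _
      have hltQ : U < Q' := by
        refine lt_of_le_of_ne hUQ ?_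
        intro h
        rw [← h] at hr1
        apply hrU
        have h2 := (Subgroup.mem_normalizer_iff.mp hzN _).mp hr1
        have e : (z : G) * ((z : G)⁻¹ * r * z) * (z : G)⁻¹ = r := by group
        rw [e] at h2
        exact h2
      have hQz : Q' ⋆ (z : G) ≤ P := by
        rw [hQ', map_conj_inf', map_conj_cancel_inv]
        exact inf_le_right.trans inf_le_left
      have h3 := hbig Q' (inf_le_left.trans inf_le_left) (card_lt_of_lt' hltQ) z hQz
      exact hC.res (by exact_mod_cast hUQ) h3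
    · obtain ⟨r, hr, hrU⟩ := SetLike.exists_of_lt hUR
      refine ⟨⟨r, hr.2⟩, ?_, ?_⟩
      · rw [hS.coe_toSylow, Subgroup.mem_subgroupOf]
        exact hr
      · rw [Subgroup.mem_subgroupOf]
        exact hrU
  have : (⟨w, hw⟩ : ↥(𝐍 U)) ∈ W₀ := by rw [hW]; trivial
  exact this

theorem local_step (P : Sylow p G) {U : Subgroup G} (hUP : U ≤ P)
    (hfn : ¬ p ∣ ((P : Subgroup G) ⊓ 𝐍 U).relIndex (𝐍 U))
    (hbig : ∀ Q' : Subgroup G, Q' ≤ P → Nat.card U < Nat.card Q' → ∀ g' : G, (Q' ⋆ g') ≤ P →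
      Ctl p P Q' g')
    {w : G} (hw : w ∈ 𝐍 U) : Ctl p P U w := by
  classical
  by_cases hUeq : U = P
  · refine ⟨1, 1, w⁻¹, Subgroup.one_mem _, ?_, W.nil _, by simp⟩
    rw [hUeq] at hw
    exact Subgroup.inv_mem _ hw
  have hUlt : U < P := lt_of_le_of_ne hUP hUeq
  by_cases hT : (P : Subgroup G) ⊓ 𝐂 U ≤ U ∧
      (Cfsg.pPrimePCore p ↥(𝐍 U)).map (𝐍 U).subtype = U ⊔ 𝐂 U
  swap
  · exact tame_case P hUP hfn hbig hT hw
  by_cases hc : Cfsg.IsSylowChainConnected p (↥(𝐍 U) ⧸ U.subgroupOf (𝐍 U))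
  · exact conn_case P hUlt hfn hbig hc hw
  -- the main case
  have hUR : U < (P : Subgroup G) ⊓ 𝐍 U := lt_inf_normalizer P.isPGroup' hUlt
  have hUN : U ≤ 𝐍 U := Subgroup.le_normalizer
  have hdN : p ∣ U.relIndex (𝐍 U) := by
    have h1 : p ∣ U.relIndex ((P : Subgroup G) ⊓ 𝐍 U) := by
      have hRp : IsPGroup p ↥((P : Subgroup G) ⊓ 𝐍 U) := P.isPGroup'.to_le inf_le_left
      obtain ⟨n, hn⟩ := hRp.index (U.subgroupOf ((P : Subgroup G) ⊓ 𝐍 U))
      have hn0 : n ≠ 0 := by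
        rintro rfl
        rw [pow_zero, Subgroup.index_eq_one, Subgroup.subgroupOf_eq_top] at hn
        exact absurd (le_antisymm hUR.le hn) hUR.ne
      change p ∣ (U.subgroupOf ((P : Subgroup G) ⊓ 𝐍 U)).index
      rw [hn]
      exact dvd_pow_self p hn0
    have h2 := Subgroup.relIndex_mul_relIndex U ((P : Subgroup G) ⊓ 𝐍 U) (𝐍 U) hUR.le inf_le_right
    rw [← h2]
    exact h1.mul_right _
  obtain ⟨X, hX1, hX2, hX3, hX4, hX5⟩ := exists_smallest (p := p) (𝐍 U) U hc hUN hdN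
  have hXn : 𝐍 U ≤ 𝐍 X := by
    rw [← Subgroup.normal_subgroupOf_iff_le_normalizer hX2]
    exact hX3
  have hgood : ∀ o ∈ (Cfsg.pResidual p ↥X).map X.subtype, Good p P U X o := fun o ho =>
    ⟨hUP, hfn, hT.1, hT.2, hc, hX1, hX2, hX3, hX4, hX5, ho⟩
  refine lemma_F P hX2 hXn hfn hUP (not_inf_le P hX2 hXn hfn hUP hX1 hX4) ?_ hbig hw
  intro k hk
  have hS : H13.IsSylIn p ((P : Subgroup G) ⊓ 𝐍 U) (𝐍 U) :=
    ⟨inf_le_right, P.isPGroup'.to_le inf_le_left, hfn⟩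
  have hT' : H13.IsSylIn p ((P : Subgroup G) ⊓ X) X := by
    have := hS.inf_normal hX2 hXn
    have e : ((P : Subgroup G) ⊓ 𝐍 U) ⊓ X = (P : Subgroup G) ⊓ X := by
      rw [inf_assoc, inf_eq_right.2 hX2]
    rwa [e] at this
  haveI hres : (Cfsg.pResidual p ↥X).Normal := inferInstance
  have hpg : IsPGroup p ((⊤ : Subgroup ↥X).map (QuotientGroup.mk' (Cfsg.pResidual p ↥X))) :=
    (H05.isPGroup_quotient_pResidual hp.out).to_subgroup _
  have hnd : ¬ p ∣ ((((P : Subgroup G) ⊓ X).subgroupOf X)).relIndex ⊤ := by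
    rw [Subgroup.relIndex_top_right]
    exact hT'.nd
  obtain ⟨t, ht, hte⟩ := exists_same_image (QuotientGroup.mk' (Cfsg.pResidual p ↥X)) ⊤ _ hnd hpg
    (Subgroup.mem_top (⟨k, hk⟩ : ↥X))
  have hc' : (⟨k, hk⟩ : ↥X) * t⁻¹ ∈ Cfsg.pResidual p ↥X := by
    have h1 : (QuotientGroup.mk' (Cfsg.pResidual p ↥X)) ((⟨k, hk⟩ : ↥X) * t⁻¹) = 1 := by
      rw [map_mul, map_inv, ← hte]
      simp
    exact (QuotientGroup.eq_one_iff _).1 h1
  set o : ↥X := (⟨k, hk⟩ : ↥X) * t⁻¹ with ho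
  have hoG : (o : G) ∈ (Cfsg.pResidual p ↥X).map X.subtype := ⟨o, hc', rfl⟩
  refine ⟨(o : G), (t : G), ?_, hX2 o.2, ht, ?_⟩
  · -- `o` is a good factor
    refine ⟨1, (o : G)⁻¹ * 1, 1, Subgroup.one_mem _, Subgroup.one_mem _, ?_, by simp⟩
    refine W.cons (hgood _ (Subgroup.inv_mem _ hoG)) subset_rfl (W.nil _)
  · simp [ho]

/-- The main theorem in terms of the control relation. -/
theorem main_ctl (P : Sylow p G) {A : Set G} {g : G} (hA : A ⊆ (P : Subgroup G))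
    (hgA : cjs g A ⊆ (P : Subgroup G)) : Ctl p P A g := by
  have hC := ctl_sys (p := p) (P : Subgroup G)
  have h𝓣 := placedFamily_fullyNormalized P
  have key : ∀ d n : ℕ, Nat.card (P : Subgroup G) < n + d →
      ∀ Q : Subgroup G, Q ≤ P → Q ≠ ⊥ → n ≤ Nat.card Q → ∀ g : G, (Q ⋆ g) ≤ P → Ctl p P Q g := by
    intro d
    induction d with
    | zero =>
      intro n hn Q hQ _ hnQ
      simp only [add_zero] at hn
      exact absurd (Subgroup.card_le_of_le hQ) (by omega)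
    | succ d ih =>
      intro n hn Q hQ hQne hnQ g hg
      have ih1 := ih (n + 1) (by omega)
      rcases Nat.lt_or_ge n (Nat.card Q) with hlt | hge
      · exact ih1 Q hQ hQne hlt g hg
      have hQn : Nat.card Q = n := le_antisymm hge hnQ
      refine engine_p1 P h𝓣 hC hQ hQne hg ?_ ?_
      · intro Q' hQ' hQ'ne hlt g' hg'
        exact ih1 Q' hQ' hQ'ne (by omega) g' hg'
      · intro U hU hUne hUcard w hw
        refine local_step P hU.1 hU.2 ?_ hw
        intro Q' hQ' hcard g' hg'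
        refine ih1 Q' hQ' ?_ (by omega) g' hg'
        intro h
        rw [h] at hcard
        simp at hcard
        exact absurd hcard Nat.card_pos.ne'
  set Q := Subgroup.closure A with hQ
  have hAQ : A ⊆ Q := Subgroup.subset_closure
  have hQS : Q ≤ P := (Subgroup.closure_le _).2 hA
  have hQg : (Q ⋆ g) ≤ P := by
    rw [hQ, Subgroup.map_le_iff_le_comap, Subgroup.closure_le]
    intro a ha
    exact cjs_subset_coe_iff.1 hgA a ha
  by_cases hQne : Q = ⊥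
  · refine hC.triv A g ?_
    intro a ha
    have := hAQ ha
    rw [hQne] at this
    simpa using this
  · exact hC.res hAQ (key (Nat.card (P : Subgroup G) + 1) 0 (by omega) Q hQS hQne (Nat.zero_le _) g hQg)

end Cfsg.Agent.H14.SAG
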